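import Groth.Agent.EtaleDeep.Eps.Compare
import Groth.Prelude.Def_EtModW
import Mathlib.CategoryTheory.Functor.KanExtension.Preserves

/-!
# Inverse images of sheaves of modules from the etale site
-/

set_option autoImplicit false
set_option backward.isDefEq.respectTransparency.types false
set_option linter.style.haveILetI false

universe u

open CategoryTheory CategoryTheory.Limits AlgebraicGeometry Opposite

namespace Groth.EtaleDeep.Eps

variable (Λ : Type (u + 1)) [CommRing Λ] {X : Scheme.{u}}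

/-- The forgetful functor to abelian groups. -/
noncomputable abbrev G : ModuleCat.{u + 1} Λ ⥤ AddCommGrpCat.{u + 1} :=
  forget₂ (ModuleCat.{u + 1} Λ) AddCommGrpCat.{u + 1}

/-- Forgetting the module structure, on etale sheaves. -/
noncomputable abbrev toAbE (X : Scheme.{u}) : EtModW.Mod Λ X ⥤ EtCoh.Ab X :=
  sheafCompose X.smallEtaleTopology (G Λ)

/-- Forgetting the module structure, on pro-etale sheaves. -/
noncomputable abbrev toAbP (X : Scheme.{u}) : EtModW.ModP Λ X ⥤ ProEtS.AbP X :=
  sheafCompose (Scheme.ProEt.topology X) (G Λ)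

theorem W_whiskerRight {P Q : X.ProEtᵒᵖ ⥤ ModuleCat.{u + 1} Λ} (η : P ⟶ Q)
    (h : (Scheme.ProEt.topology X).W η) :
    (Scheme.ProEt.topology X).W (Functor.whiskerRight η (G Λ)) := by
  obtain ⟨h₁, h₂⟩ := ((Scheme.ProEt.topology X).W_iff_isLocallyBijective η).1 h
  exact ((Scheme.ProEt.topology X).W_iff_isLocallyBijective _).2
    ⟨⟨fun x y e => h₁.equalizerSieve_mem x y e⟩, ⟨fun s => h₂.imageSieve_mem s⟩⟩

variable [ProEtS.EpsCont X]

/-- The adjunction for modules. -/
noncomputable abbrev epsAdjMod : EtModW.epsPullMod Λ X ⊣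
    (ProEtS.eps X).sheafPushforwardContinuous (ModuleCat.{u + 1} Λ) X.smallEtaleTopology
      (Scheme.ProEt.topology X) :=
  (ProEtS.eps X).sheafAdjunctionContinuous (ModuleCat.{u + 1} Λ) X.smallEtaleTopology
    (Scheme.ProEt.topology X)

/-- The comparison `ε⁻¹(forget F) → forget(ε⁻¹F)`. -/
noncomputable def cmpMod :
    toAbE Λ X ⋙ ProEtS.epsPull X ⟶ EtModW.epsPullMod Λ X ⋙ toAbP Λ X where
  app F := ((ProEtS.epsAdj X).homEquiv _ _).symm ((toAbE Λ X).map ((epsAdjMod Λ).unit.app F))
  naturality F F' φ := by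
    apply ((ProEtS.epsAdj X).homEquiv _ _).injective
    dsimp only [Functor.comp_obj, Functor.comp_map]
    rw [Adjunction.homEquiv_naturality_left, Adjunction.homEquiv_naturality_right,
      Equiv.apply_symm_apply, Equiv.apply_symm_apply]
    refine ((toAbE Λ X).map_comp _ _).symm.trans ?_
    exact ((congrArg (toAbE Λ X).map ((epsAdjMod Λ).unit.naturality φ)).trans
      ((toAbE Λ X).map_comp _ _))

lemma bijective_unit (F : EtModW.Mod Λ X) (H : ProEtS.AbP X) :
    Function.Bijective (fun m : (toAbP Λ X).obj ((EtModW.epsPullMod Λ X).obj F) ⟶ H =>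
      (toAbE Λ X).map ((epsAdjMod Λ).unit.app F) ≫ (ProEtS.epsPush X).map m) := by
  let J := Scheme.ProEt.topology X
  let e := ProEtS.eps X
  have : PreservesColimitsOfSize.{u, u + 1} (G Λ) := by
    have : PreservesColimitsOfSize.{u + 1, u + 1, u + 1, u + 1} (G Λ) :=
      ModuleCat.forget₂PreservesColimitsOfSize.{u + 1, u + 1, u + 1, u + 1} Λ
    exact preservesColimitsOfSize_shrink.{u + 1, u + 1, u, u + 1} (G Λ)
  let P := e.op.lan.obj F.obj
  let α : F.obj ⟶ e.op ⋙ P := e.op.lanUnit.app F.obj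
  let adj₂ := Functor.sheafPullbackConstruction.sheafAdjunctionContinuous e
    (ModuleCat.{u + 1} Λ) X.smallEtaleTopology J
  let i := ((epsAdjMod Λ (X := X)).leftAdjointUniq adj₂).app F
  have hunit : (adj₂.unit.app F).hom = α ≫ Functor.whiskerLeft e.op (toSheafify J P) := by
    have h := Adjunction.map_restrictFullyFaithful_unit_app
      ((e.op.lanAdjunction (ModuleCat.{u + 1} Λ)).comp
        (sheafificationAdjunction J (ModuleCat.{u + 1} Λ)))
      (fullyFaithfulSheafToPresheaf X.smallEtaleTopology (ModuleCat.{u + 1} Λ))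
      (Functor.FullyFaithful.id _) (L := Functor.sheafPullbackConstruction.sheafPullback
        e (ModuleCat.{u + 1} Λ) X.smallEtaleTopology J)
      (R := e.sheafPushforwardContinuous (ModuleCat.{u + 1} Λ) X.smallEtaleTopology J)
      (Iso.refl _) (Iso.refl _) F
    refine h.trans ?_
    simp [Adjunction.comp_unit_app]
    rfl
  have h1 := Adjunction.unit_leftAdjointUniq_hom_app (epsAdjMod Λ (X := X)) adj₂ F
  have : Functor.IsLeftKanExtension P α :=
    inferInstanceAs (Functor.IsLeftKanExtension (e.op.leftKanExtension F.obj)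
      (e.op.leftKanExtensionUnit F.obj))
  have : (G Λ).PreservesLeftKanExtension F.obj e.op := inferInstance
  have : Functor.IsLeftKanExtension (P ⋙ G Λ)
      (Functor.whiskerRight α (G Λ) ≫ (Functor.associator _ _ _).hom) :=
    Functor.PreservesLeftKanExtension.preserves P α
  have hW : J.W (Functor.whiskerRight (toSheafify J P) (G Λ)) :=
    W_whiskerRight Λ _ (J.W_toSheafify P)
  let E : ((toAbP Λ X).obj ((EtModW.epsPullMod Λ X).obj F) ⟶ H) ≃
      ((toAbE Λ X).obj F ⟶ (ProEtS.epsPush X).obj H) :=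
    ((((toAbP Λ X).mapIso i).homFromEquiv).trans
      (fullyFaithfulSheafToPresheaf J AddCommGrpCat.{u + 1}).homEquiv).trans
      ((hW.homEquiv H.obj H.property).trans
        (((P ⋙ G Λ).homEquivOfIsLeftKanExtension
          (Functor.whiskerRight α (G Λ) ≫ (Functor.associator _ _ _).hom) H.obj).trans
          ((fullyFaithfulSheafToPresheaf X.smallEtaleTopology AddCommGrpCat.{u + 1}).homEquiv
            (X := (toAbE Λ X).obj F) (Y := (ProEtS.epsPush X).obj H)).symm))
  convert E.bijective using 1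
  funext m
  apply Sheaf.hom_ext
  ext T x
  have h2 := congrArg (fun k => k.hom.app T) h1
  have h3 := congrArg (fun k => k.app T) hunit
  have h4 : ((toSheafify J P).app (e.op.obj T)) (α.app T x) =
      i.hom.hom.app (e.op.obj T) (((epsAdjMod Λ).unit.app F).hom.app T x) :=
    ((ConcreteCategory.congr_hom h2 x).trans (ConcreteCategory.congr_hom h3 x)).symm
  have h5 : ∀ z, i.inv.hom.app (e.op.obj T) (i.hom.hom.app (e.op.obj T) z) = z := fun z =>
    ConcreteCategory.congr_hom (congrArg (fun k => k.hom.app (e.op.obj T)) i.hom_inv_id) z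
  refine Eq.trans ?_ (Eq.symm (congrArg (fun z => m.hom.app (e.op.obj T) z)
    ((congrArg (i.inv.hom.app (e.op.obj T)) h4).trans (h5 _))))
  rfl

/-- Forgetting the module structure commutes with `ε⁻¹`. -/
theorem isIso_cmpMod (F : EtModW.Mod Λ X) : IsIso ((cmpMod Λ).app F) := by
  have hb : ∀ H, Function.Bijective (fun m => (cmpMod Λ).app F ≫ m :
      ((toAbP Λ X).obj ((EtModW.epsPullMod Λ X).obj F) ⟶ H) → _) := fun H => by
    refine (Function.Bijective.of_comp_iff' ((ProEtS.epsAdj X).homEquiv _ H).bijective _).1 ?_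
    convert bijective_unit Λ F H using 1
    funext m
    change (ProEtS.epsAdj X).homEquiv _ H
      (((ProEtS.epsAdj X).homEquiv _ _).symm ((toAbE Λ X).map ((epsAdjMod Λ).unit.app F)) ≫ m) = _
    rw [Adjunction.homEquiv_naturality_right, Equiv.apply_symm_apply]
    rfl
  obtain ⟨g, hg⟩ := (hb _).2 (𝟙 _)
  exact ⟨g, hg, (hb _).1 ((Category.assoc _ _ _).symm.trans ((congrArg (· ≫ _) hg).trans
    ((Category.id_comp _).trans (Category.comp_id _).symm)))⟩

/-- The unit for modules is an isomorphism. -/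
theorem isIso_unitMod (F : EtModW.Mod Λ X) : IsIso ((epsAdjMod Λ).unit.app F) := by
  have := isIso_cmpMod Λ F
  have := isIso_unit_app ((toAbE Λ X).obj F)
  have h : (ProEtS.epsAdj X).unit.app ((toAbE Λ X).obj F) ≫ (ProEtS.epsPush X).map ((cmpMod Λ).app F) =
      (toAbE Λ X).map ((epsAdjMod Λ).unit.app F) := by
    exact ((ProEtS.epsAdj X).homEquiv_unit _ _ _).symm.trans (Equiv.apply_symm_apply _ _)
  have : IsIso ((toAbE Λ X).map ((epsAdjMod Λ).unit.app F)) :=
    h ▸ (IsIso.comp_isIso' ‹IsIso ((ProEtS.epsAdj X).unit.app ((toAbE Λ X).obj F))›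
      (inferInstanceAs (IsIso ((ProEtS.epsPush X).map ((cmpMod Λ).app F)))))
  exact isIso_of_reflects_iso _ (toAbE Λ X)

/-- An inverse image of modules is one of abelian groups. -/
theorem isIso_counitMod_iff (F : EtModW.ModP Λ X) :
    IsIso ((epsAdjMod Λ).counit.app F) ↔
      IsIso ((ProEtS.epsAdj X).counit.app ((toAbP Λ X).obj F)) := by
  let R := (ProEtS.eps X).sheafPushforwardContinuous (ModuleCat.{u + 1} Λ) X.smallEtaleTopology
    (Scheme.ProEt.topology X)
  have := isIso_cmpMod Λ (R.obj F)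
  have h : (cmpMod Λ).app (R.obj F) ≫ (toAbP Λ X).map ((epsAdjMod Λ).counit.app F) =
      (ProEtS.epsAdj X).counit.app ((toAbP Λ X).obj F) := by
    apply ((ProEtS.epsAdj X).homEquiv _ _).injective
    change (ProEtS.epsAdj X).homEquiv _ _
      (((ProEtS.epsAdj X).homEquiv _ _).symm ((toAbE Λ X).map ((epsAdjMod Λ).unit.app (R.obj F))) ≫
        (toAbP Λ X).map ((epsAdjMod Λ).counit.app F)) = _
    rw [Adjunction.homEquiv_naturality_right, Equiv.apply_symm_apply]
    refine ((toAbE Λ X).map_comp _ (R.map ((epsAdjMod Λ).counit.app F))).symm.trans ?_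
    refine (congrArg (toAbE Λ X).map ((epsAdjMod Λ).right_triangle_components F)).trans ?_
    refine ((toAbE Λ X).map_id _).trans (Eq.symm ?_)
    exact ((ProEtS.epsAdj X).homEquiv_unit _ _ _).trans
      ((ProEtS.epsAdj X).right_triangle_components ((toAbP Λ X).obj F))
  refine ⟨fun hi => ?_, fun hi => ?_⟩
  · rw [← h]
    exact IsIso.comp_isIso' ‹IsIso ((cmpMod Λ).app (R.obj F))›
      (inferInstanceAs (IsIso ((toAbP Λ X).map ((epsAdjMod Λ).counit.app F))))
  · have : IsIso ((cmpMod Λ).app (R.obj F) ≫ (toAbP Λ X).map ((epsAdjMod Λ).counit.app F)) :=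
      h ▸ hi
    have : IsIso ((toAbP Λ X).map ((epsAdjMod Λ).counit.app F)) :=
      IsIso.of_isIso_comp_left ((cmpMod Λ).app (R.obj F)) _
    exact isIso_of_reflects_iso _ (toAbP Λ X)

/-- The essential image is detected on underlying abelian sheaves. -/
theorem essImage_epsPullMod_iff (F : EtModW.ModP Λ X) :
    (EtModW.epsPullMod Λ X).essImage F ↔ (ProEtS.epsPull X).essImage ((toAbP Λ X).obj F) := by
  have : ∀ G, IsIso ((ProEtS.epsAdj X).unit.app G) := isIso_unit_app
  have : IsIso (ProEtS.epsAdj X).unit := NatIso.isIso_of_isIso_app _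
  have := (ProEtS.epsAdj X).fullyFaithfulLOfIsIsoUnit.full
  have := (ProEtS.epsAdj X).fullyFaithfulLOfIsIsoUnit.faithful
  have : ∀ G, IsIso ((epsAdjMod Λ (X := X)).unit.app G) := isIso_unitMod Λ
  have : IsIso (epsAdjMod Λ (X := X)).unit := NatIso.isIso_of_isIso_app _
  have := (epsAdjMod Λ (X := X)).fullyFaithfulLOfIsIsoUnit.full
  have := (epsAdjMod Λ (X := X)).fullyFaithfulLOfIsIsoUnit.faithful
  constructor
  · intro h
    have := isIso_cmpMod Λ h.witness
    exact ⟨(toAbE Λ X).obj h.witness,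
      ⟨asIso ((cmpMod Λ).app h.witness) ≪≫ (toAbP Λ X).mapIso h.getIso⟩⟩
  · intro h
    have hi : IsIso ((ProEtS.epsAdj X).counit.app ((toAbP Λ X).obj F)) := by
      rw [← NatTrans.isIso_app_iff_of_iso (ProEtS.epsAdj X).counit h.getIso,
        IsIso.eq_inv_of_hom_inv_id ((ProEtS.epsAdj X).left_triangle_components h.witness)]
      infer_instance
    have := (isIso_counitMod_iff Λ F).2 hi
    exact ⟨_, ⟨asIso ((epsAdjMod Λ).counit.app F)⟩⟩

instance preservesFiniteLimits_toAbP : PreservesFiniteLimits (toAbP Λ X) where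
  preservesFiniteLimits J _ _ := by
    have : PreservesLimitsOfShape J (sheafToPresheaf (Scheme.ProEt.topology X) (ModuleCat.{u + 1} Λ) ⋙
        (Functor.whiskeringRight _ _ _).obj (G Λ)) := inferInstance
    have : PreservesLimitsOfShape J (toAbP Λ X ⋙
        sheafToPresheaf (Scheme.ProEt.topology X) AddCommGrpCat.{u + 1}) := this
    exact preservesLimitsOfShape_of_reflects_of_preserves (toAbP Λ X)
      (sheafToPresheaf (Scheme.ProEt.topology X) AddCommGrpCat.{u + 1})

instance : (toAbP Λ X).Additive where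
  map_add {F F' f g} := rfl

omit [ProEtS.EpsCont X] in
theorem epi_toAbP {F F' : EtModW.ModP Λ X} (φ : F ⟶ F') [Epi φ] : Epi ((toAbP Λ X).map φ) := by
  have h : Sheaf.IsLocallySurjective φ :=
    (Sheaf.isLocallySurjective_iff_epi' (ModuleCat.{u + 1} Λ) φ).2 ‹_›
  exact (Sheaf.isLocallySurjective_iff_epi' AddCommGrpCat.{u + 1} _).1
    ⟨fun s => h.imageSieve_mem s⟩

instance preservesFiniteColimits_toAbP : PreservesFiniteColimits (toAbP Λ X) := by
  refine (Functor.preservesFiniteColimits_iff_forall_exact_map_and_epi _).2 fun S hS => ?_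
  have := hS.epi_g
  exact ⟨((Functor.preservesFiniteLimits_iff_forall_exact_map_and_mono (toAbP Λ X)).1
    inferInstance S hS).1, epi_toAbP Λ S.g⟩

end Groth.EtaleDeep.Eps
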