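import Groth.Agent.EtaleDeep.Eps.Good
import Groth.Agent.EtaleDeep.ProEt.Objects

/-!
# Direct images of inverse images from the etale site
-/

set_option autoImplicit false
set_option backward.isDefEq.respectTransparency.types false
set_option linter.style.haveILetI false

universe u

open CategoryTheory CategoryTheory.Limits AlgebraicGeometry Opposite

namespace Groth.EtaleDeep.Eps

variable {X Y : Scheme.{u}}

/-- Every object is covered by ind-etale objects. -/
theorem exists_IE_family (T : Y.ProEt) :
    ∃ (ι : Type u) (V : ι → Y.ProEt) (g : ∀ k, V k ⟶ T),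
      Sieve.generate (Presieve.ofArrows V g) ∈ Scheme.ProEt.topology Y T ∧ ∀ k, IE (V k) := by
  let ι := {O : T.left.Opens //
    IsAffineOpen O ∧ ∃ U : Y.Opens, IsAffineOpen U ∧ O ≤ T.hom ⁻¹ᵁ U}
  have hcov : ∀ x : T.left, ∃ O : ι, x ∈ O.1 := fun x => by
    obtain ⟨U, hU, hxU, -⟩ := TopologicalSpace.Opens.isBasis_iff_nbhd.1 Y.isBasis_affineOpens
      (TopologicalSpace.Opens.mem_top (T.hom x))
    obtain ⟨O, hO, hxO, hle⟩ := TopologicalSpace.Opens.isBasis_iff_nbhd.1 T.left.isBasis_affineOpens
      (show x ∈ T.hom ⁻¹ᵁ U from hxU)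
    exact ⟨⟨O, hO, U, hU, hle⟩, hxO⟩
  let W : ι → Y.ProEt := fun O => Scheme.ProEt.mk (O.1.ι ≫ T.hom)
  have hpiece : ∀ O : ι, ∃ (V : Y.ProEt) (h : V ⟶ W O), IsAffine V.left ∧ Surjective h.left ∧ IE V := by
    intro O
    obtain ⟨U, hU, hle⟩ := O.2.2
    have : IsAffine (W O).left := O.2.1
    let E : Y.Etale := Scheme.Etale.mk U.ι
    have : IsAffine E.left := hU
    obtain ⟨l, hl⟩ := exists_lift_opens U (O.1.ι ≫ T.hom) (by
      rintro _ ⟨x, rfl⟩
      exact hle x.2)
    let a : W O ⟶ (ProEtS.eps Y).obj E := toEps l hl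
    have : IsAffine ((ProEtS.eps Y).obj E).left := hU
    obtain ⟨V, h, hsj, hrel⟩ := exists_relIE_cover a
    exact ⟨V, h, hrel.isAffine_src, hsj, E, h ≫ a, hrel⟩
  choose V h hV hsj hIE using hpiece
  have : ∀ O, IsOpenImmersion (ProEt.openHom (U := T) O.1 : W O ⟶ T).left := fun O : ι =>
    inferInstanceAs (IsOpenImmersion O.1.ι)
  refine ⟨ι, V, fun O => h O ≫ ProEt.openHom (U := T) O.1, ?_, hIE⟩
  have hW : Sieve.generate (Presieve.ofArrows W fun O => ProEt.openHom (U := T) O.1) ∈
      Scheme.ProEt.topology Y T :=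
    ProEt.openImmersions_mem_topology W (fun O => ProEt.openHom (U := T) O.1) fun x => by
      obtain ⟨O, hO⟩ := hcov x
      exact ⟨O, ⟨x, hO⟩, rfl⟩
  let J := Scheme.ProEt.topology Y
  refine J.transitive hW _ fun Z q hq => ?_
  obtain ⟨Z', a, b, ⟨O⟩, rfl⟩ := hq
  rw [Sieve.pullback_comp]
  refine J.pullback_stable a ?_
  have := hV O
  have := hsj O
  have : IsAffine (W O).left := O.2.1
  refine J.superset_covering ?_ (ProEt.singleton_mem_topology (h O))
  rintro Y' q' ⟨Z', c, d, ⟨⟩, rfl⟩
  exact ⟨V O, c, _, Presieve.ofArrows.mk O, (Category.assoc _ _ _).symm⟩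

/-- A morphism of sheaves bijective on ind-etale objects is an isomorphism. -/
theorem isIso_of_bijective_IE {F G : ProEtS.AbP Y} (φ : F ⟶ G)
    (h : ∀ W : Y.ProEt, IE W → Function.Bijective (φ.hom.app (op W))) : IsIso φ := by
  have hF := (isSheaf_iff_isSheaf_of_type _ _).1
    ((sheafCompose (Scheme.ProEt.topology Y) (forget AddCommGrpCat.{u + 1})).obj F).property
  have hG := (isSheaf_iff_isSheaf_of_type _ _).1
    ((sheafCompose (Scheme.ProEt.topology Y) (forget AddCommGrpCat.{u + 1})).obj G).property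
  suffices ∀ T, Function.Bijective (φ.hom.app (op T)) by
    have : ∀ T, IsIso (φ.hom.app T) := fun T =>
      (ConcreteCategory.isIso_iff_bijective _).2 (this T.unop)
    have : IsIso ((sheafToPresheaf _ _).map φ) := NatIso.isIso_of_isIso_app φ.hom
    exact isIso_of_reflects_iso φ (sheafToPresheaf _ _)
  have hinj : ∀ T, Function.Injective (φ.hom.app (op T)) := fun T x y hxy => by
    obtain ⟨ι, V, g, hcov, hV⟩ := exists_IE_family T
    refine (hF _ hcov).isSeparatedFor.ext ?_
    rintro Z q ⟨Z', a, b, ⟨k⟩, rfl⟩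
    change F.obj.map (a ≫ g k).op x = F.obj.map (a ≫ g k).op y
    rw [op_comp, Functor.map_comp_apply, Functor.map_comp_apply]
    refine congrArg _ ((h _ (hV k)).1 ?_)
    rw [NatTrans.naturality_apply φ.hom, NatTrans.naturality_apply φ.hom, hxy]
  intro T
  refine ⟨hinj T, fun s => ?_⟩
  obtain ⟨ι, V, g, hcov, hV⟩ := exists_IE_family T
  choose t ht using fun k => (h _ (hV k)).2 (G.obj.map (g k).op s)
  have hs := (Presieve.isSheafFor_iff_generate _).2 (hF _ hcov)
  rw [Presieve.isSheafFor_arrows_iff] at hs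
  obtain ⟨x, hx, -⟩ := hs t fun k l Z a b hab => hinj Z (by
    change φ.hom.app _ (F.obj.map a.op (t k)) = φ.hom.app _ (F.obj.map b.op (t l))
    rw [NatTrans.naturality_apply φ.hom, NatTrans.naturality_apply φ.hom, ht, ht,
      ← Functor.map_comp_apply, ← Functor.map_comp_apply, ← op_comp, ← op_comp, hab])
  refine ⟨x, (hG _ hcov).isSeparatedFor.ext ?_⟩
  rintro Z q ⟨Z', a, b, ⟨k⟩, rfl⟩
  change G.obj.map (a ≫ g k).op (φ.hom.app _ x) = G.obj.map (a ≫ g k).op s
  rw [op_comp, Functor.map_comp_apply, Functor.map_comp_apply]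
  refine congrArg _ ?_
  rw [← NatTrans.naturality_apply φ.hom, show F.obj.map (g k).op x = t k from hx k]
  exact ht k

variable (f : X ⟶ Y) [QuasiCompact f] [QuasiSeparated f]

/-- The cone of schemes of the base change of a tower. -/
noncomputable abbrev bcSysCone {W : Y.ProEt} (T : Tower W) :
    Cone ((T.D ⋙ ProEtS.eps Y ⋙ ProEtS.bcP f) ⋙ Scheme.ProEt.forget X ⋙ Over.forget X) where
  pt := ((ProEtS.bcP f).obj W).left
  π :=
    { app := fun j => ((ProEtS.bcP f).map (T.π j)).left
      naturality := fun i j g => (Category.id_comp _).trans (congrArg (fun m => m.left)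
        (((ProEtS.bcP f).map_comp (T.π i) ((ProEtS.eps Y).map (T.D.map g))).symm.trans
          (congrArg (ProEtS.bcP f).map (MorphismProperty.Over.Hom.ext (T.π_w g))))).symm }

omit [QuasiCompact f] [QuasiSeparated f] in
/-- Base change commutes with the limit. -/
theorem nonempty_isLimit_bcSysCone {W : Y.ProEt} (T : Tower W) :
    Nonempty (IsLimit (bcSysCone f T)) := by
  have h1 : ∀ j, ((ProEtS.bcP f).map (T.π j)).left ≫ pullback.fst (T.D.obj j).hom f =
      pullback.fst W.hom f ≫ (T.π j).left := fun j => pullback.lift_fst _ _ _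
  have h2 : ∀ j, ((ProEtS.bcP f).map (T.π j)).left ≫ pullback.snd (T.D.obj j).hom f = pullback.snd W.hom f :=
    fun j => pullback.lift_snd _ _ _
  have hm1 : ∀ {i j : T.J} (g : i ⟶ j), ((ProEtS.bcP f).map ((ProEtS.eps Y).map (T.D.map g))).left ≫
      pullback.fst (T.D.obj j).hom f = pullback.fst (T.D.obj i).hom f ≫ (T.D.map g).left :=
    fun g => pullback.lift_fst _ _ _
  have hm2 : ∀ {i j : T.J} (g : i ⟶ j), ((ProEtS.bcP f).map ((ProEtS.eps Y).map (T.D.map g))).left ≫
      pullback.snd (T.D.obj j).hom f = pullback.snd (T.D.obj i).hom f :=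
    fun g => pullback.lift_snd _ _ _
  obtain ⟨j₀⟩ : Nonempty T.J := IsCofiltered.nonempty
  let S := (T.D ⋙ ProEtS.eps Y ⋙ ProEtS.bcP f) ⋙ Scheme.ProEt.forget X ⋙ Over.forget X
  let a : ∀ s : Cone S, Cone (schD T.D) := fun s =>
    { pt := s.pt
      π :=
        { app := fun j => s.π.app j ≫ pullback.fst (T.D.obj j).hom f
          naturality := fun i j g => by
            refine (Category.id_comp _).trans ?_
            refine (congrArg (· ≫ pullback.fst (T.D.obj j).hom f) (s.w g).symm).trans ?_
            exact (Category.assoc _ _ _).trans ((congrArg (s.π.app i ≫ ·) (hm1 g)).trans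
              (Category.assoc _ _ _).symm) } }
  have hconst : ∀ (s : Cone S) (i j : T.J) (_ : i ⟶ j),
      s.π.app i ≫ pullback.snd (T.D.obj i).hom f = s.π.app j ≫ pullback.snd (T.D.obj j).hom f :=
    fun s i j g => by
      refine Eq.symm ((congrArg (· ≫ pullback.snd (T.D.obj j).hom f) (s.w g).symm).trans ?_)
      exact (Category.assoc _ _ _).trans (congrArg (s.π.app i ≫ ·) (hm2 g))
  have hw : ∀ s : Cone S, T.isLimit.lift (a s) ≫ W.hom =
      (s.π.app j₀ ≫ pullback.snd (T.D.obj j₀).hom f) ≫ f := fun s => by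
    refine (congrArg (T.isLimit.lift (a s) ≫ ·) (eps_w (T.π j₀)).symm).trans ?_
    refine (Category.assoc _ _ _).symm.trans
      ((congrArg (· ≫ (T.D.obj j₀).hom) (T.isLimit.fac (a s) j₀)).trans ?_)
    exact (Category.assoc _ _ _).trans ((congrArg (s.π.app j₀ ≫ ·) pullback.condition).trans
      (Category.assoc _ _ _).symm)
  exact ⟨{
      lift := fun s => pullback.lift (T.isLimit.lift (a s)) _ (hw s)
      fac := fun s j => by
        refine pullback.hom_ext ?_ ?_
        · refine (Category.assoc _ _ _).trans ((congrArg (_ ≫ ·) (h1 j)).trans ?_)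
          refine (Category.assoc _ _ _).symm.trans
            ((congrArg (· ≫ _) (pullback.lift_fst _ _ _)).trans ?_)
          exact T.isLimit.fac (a s) j
        · refine (Category.assoc _ _ _).trans ((congrArg (_ ≫ ·) (h2 j)).trans ?_)
          refine (pullback.lift_snd _ _ _).trans ?_
          exact (hconst s _ _ (IsCofiltered.minToLeft j₀ j)).symm.trans
            (hconst s _ _ (IsCofiltered.minToRight j₀ j))
      uniq := fun s m hm => by
        refine pullback.hom_ext ?_ ?_
        · refine Eq.trans ?_ (pullback.lift_fst _ _ _).symm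
          refine T.isLimit.hom_ext fun j => ?_
          refine Eq.trans ?_ (T.isLimit.fac (a s) j).symm
          refine (Category.assoc _ _ _).trans ((congrArg (m ≫ ·) (h1 j).symm).trans ?_)
          exact (Category.assoc _ _ _).symm.trans (congrArg (· ≫ _) (hm j))
        · refine Eq.trans ?_ (pullback.lift_snd _ _ _).symm
          refine (congrArg (m ≫ ·) (h2 j₀).symm).trans ?_
          exact (Category.assoc _ _ _).symm.trans (congrArg (· ≫ _) (hm j₀)) }⟩

theorem compact_qs_bc {W : Y.ProEt} (T : Tower W) (j : T.J) :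
    CompactSpace ↥((EtCoh.bc f).obj (T.D.obj j)).left ∧
      QuasiSeparatedSpace ↥((EtCoh.bc f).obj (T.D.obj j)).left := by
  have hA : IsAffine (T.D.obj j).left := T.isAffine j
  have h1 : CompactSpace ↥(T.D.obj j).left := inferInstance
  have h2 : QuasiSeparatedSpace ↥(T.D.obj j).left := inferInstance
  have h3 : QuasiCompact (pullback.fst (T.D.obj j).hom f) :=
    MorphismProperty.pullback_fst (P := @QuasiCompact) _ _ ‹QuasiCompact f›
  have h4 : QuasiSeparated (pullback.fst (T.D.obj j).hom f) :=
    MorphismProperty.pullback_fst (P := @QuasiSeparated) _ _ ‹QuasiSeparated f›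
  exact ⟨@QuasiCompact.compactSpace_of_compactSpace _ _ (pullback.fst (T.D.obj j).hom f) h3 h1,
    @quasiSeparatedSpace_of_quasiSeparated _ _ (pullback.fst (T.D.obj j).hom f) h2 h4⟩

/-- The base change of a tower, as a system. -/
noncomputable def bcSys {W : Y.ProEt} (T : Tower W) : LimSys T.J ((ProEtS.bcP f).obj W) where
  D := T.D ⋙ ProEtS.eps Y ⋙ ProEtS.bcP f
  compact j := (compact_qs_bc f T j).1
  qsep j := (compact_qs_bc f T j).2
  affineHom g := MorphismProperty.overPullbackMap (P := @IsAffineHom) f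
    ((Scheme.Etale.forget Y).map (T.D.map g)) (T.isAffineHom_map g)
  π j := (ProEtS.bcP f).map (T.π j)
  π_w g := ((ProEtS.bcP f).map_comp _ _).symm.trans
    (congrArg (ProEtS.bcP f).map (MorphismProperty.Over.Hom.ext (T.π_w g)))
  isLimit := IsLimit.ofIsoLimit (nonempty_isLimit_bcSysCone f T).some
    (Cone.ext (Iso.refl _) fun j => (Category.id_comp _).symm)

/-- Base change of an ind-etale object along a quasi-compact quasi-separated morphism. -/
theorem nonempty_etow_bcP {W : Y.ProEt} (hW : IE W) :
    Nonempty (ETow ((ProEtS.bcP f).obj W)) := by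
  obtain ⟨T⟩ := hW.nonempty_tower
  exact ⟨
    { K := T.J
      D := T.D ⋙ EtCoh.bc f
      compact := fun j => (compact_qs_bc f T j).1
      qsep := fun j => (compact_qs_bc f T j).2
      affineHom := fun g => (bcSys f T).affineHom g
      π := fun j => toEps (E := (EtCoh.bc f).obj (T.D.obj j)) ((ProEtS.bcP f).map (T.π j)).left
        (MorphismProperty.Over.w ((ProEtS.bcP f).map (T.π j)))
      π_w := fun g => MorphismProperty.Over.Hom.ext
        (congrArg (fun m => m.left) ((bcSys f T).π_w g))
      isLimit := IsLimit.ofIsoLimit (nonempty_isLimit_bcSysCone f T).some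
        (Cone.ext (Iso.refl _) fun j => (Category.id_comp _).symm) }⟩


variable [ProEtS.PCont f]

theorem preservesFiniteLimits_pushP : PreservesFiniteLimits (ProEtS.pushP f) := by
  have : PreservesLimitsOfSize.{0, 0} (ProEtS.pushP f) :=
    (ProEtS.pullPushAdjP f).rightAdjoint_preservesLimits
  exact PreservesLimitsOfSize.preservesFiniteLimits _

/-- Good sheaves have exact direct images. -/
theorem epi_pushP_map {S : ShortComplex (ProEtS.AbP X)} (hS : S.ShortExact) (h : Good S.X₁) :
    Epi ((ProEtS.pushP f).map S.g) := by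
  have : Sheaf.IsLocallySurjective ((ProEtS.pushP f).map S.g) := by
    refine ⟨fun {T} s => ?_⟩
    obtain ⟨ι, V, g, hcov, hV⟩ := exists_IE_family T
    refine (Scheme.ProEt.topology Y).superset_covering ?_ hcov
    rintro Z q ⟨Z', a, _, ⟨k⟩, rfl⟩
    refine Sieve.downward_closed _ ?_ a
    exact h.surjective hS (nonempty_etow_bcP f (hV k)).some _
  exact (Sheaf.isLocallySurjective_iff_epi' _ _).1 this

/-- Good sheaves are acyclic for the direct image. -/
theorem rightAcyclic_pushP_of_good (G : ProEtS.AbP X) (hG : Good G) :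
    CohFin.RightAcyclic (ProEtS.pushP f) G := by
  have := preservesFiniteLimits_pushP f
  intro k
  induction k generalizing G with
  | zero =>
    obtain ⟨e⟩ := CohFin.nonempty_rightDerived_one_iso_of_injective (F := ProEtS.pushP f)
      (CohFin.injSeq_shortExact G)
    have := epi_pushP_map f (CohFin.injSeq_shortExact G) hG
    exact (isZero_cokernel_of_epi _).of_iso e
  | succ k ih =>
    obtain ⟨e⟩ := CohFin.nonempty_rightDerived_shift (F := ProEtS.pushP f) k _
      (CohFin.injSeq_shortExact G) (CohFin.rightAcyclic_of_injective _ _)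
    exact (ih _ (hG.right (CohFin.injSeq_shortExact G) (good_injective _))).of_iso e

variable [ProEtS.EpsCont X] [ProEtS.EpsCont Y]

/-- The direct images on the two sites commute. -/
noncomputable def pushEpsIso :
    ProEtS.epsPush X ⋙ EtCoh.push f ≅ ProEtS.pushP f ⋙ ProEtS.epsPush Y :=
  let i : ProEtS.eps Y ⋙ ProEtS.bcP f ≅ EtCoh.bc f ⋙ ProEtS.eps X :=
    NatIso.ofComponents (fun V => MorphismProperty.Over.isoMk (Iso.refl _) (Category.id_comp _))
      (fun g => MorphismProperty.Over.Hom.ext
        ((Category.comp_id _).trans (Category.id_comp _).symm))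
  NatIso.ofComponents (fun G => (fullyFaithfulSheafToPresheaf _ _).preimageIso
      (Functor.isoWhiskerRight (NatIso.op i) G.obj))
    (fun {G G'} φ => by
      ext E x
      exact (NatTrans.naturality_apply φ.hom (i.hom.app E.unop).op x).symm)

/-- The comparison between inverse images of direct images and direct images of inverse images. -/
noncomputable def pushEpsMate :
    EtCoh.push f ⋙ ProEtS.epsPull Y ⟶ ProEtS.epsPull X ⋙ ProEtS.pushP f where
  app F := ((ProEtS.epsAdj Y).homEquiv _ _).symm
    ((EtCoh.push f).map ((ProEtS.epsAdj X).unit.app F) ≫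
      (pushEpsIso f).hom.app ((ProEtS.epsPull X).obj F))
  naturality F G φ := by
    apply ((ProEtS.epsAdj Y).homEquiv _ _).injective
    dsimp only [Functor.comp_obj, Functor.comp_map]
    rw [Adjunction.homEquiv_naturality_left, Adjunction.homEquiv_naturality_right,
      Equiv.apply_symm_apply, Equiv.apply_symm_apply, Category.assoc]
    have h1 := (pushEpsIso f).hom.naturality ((ProEtS.epsPull X).map φ)
    refine (Category.assoc _ _ _).symm.trans ?_
    refine ((congrArg (· ≫ _) ((EtCoh.push f).map_comp _ _).symm).trans ?_)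
    refine (congrArg (fun m => (EtCoh.push f).map m ≫ _)
      ((ProEtS.epsAdj X).unit.naturality φ)).trans ?_
    refine (congrArg (· ≫ _) ((EtCoh.push f).map_comp _ _)).trans ?_
    exact (Category.assoc _ _ _).trans (congrArg (_ ≫ ·) h1)

/-- Sections over a base change of a tower come from a stage. -/
theorem exists_map_of_bcP (F : EtCoh.Ab X) {W : Y.ProEt} (T : Tower W)
    (z : ((ProEtS.pushP f).obj ((ProEtS.epsPull X).obj F)).obj.obj (op W)) :
    ∃ (j : T.J) (z' : ((ProEtS.pushP f).obj ((ProEtS.epsPull X).obj F)).obj.obj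
        (op ((ProEtS.eps Y).obj (T.D.obj j)))),
      ((ProEtS.pushP f).obj ((ProEtS.epsPull X).obj F)).obj.map (T.π j).op z' = z := by
  obtain ⟨j, y, hy⟩ := (bcSys f T).shL_exists_map_eq (F := F) ((epsIso F).hom.hom.app _ z)
  obtain ⟨y', rfl⟩ := (bijective_epsIso F _).2 y
  refine ⟨j, y', (bijective_epsIso F _).1 ?_⟩
  refine (NatTrans.naturality_apply (epsIso F).hom.hom _ y').trans ?_
  exact hy

/-- Sections of a stage agreeing on the base change of a tower agree at a later stage. -/
theorem exists_map_eq_bcP (F : EtCoh.Ab X) {W : Y.ProEt} (T : Tower W) (j : T.J)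
    (a b : ((ProEtS.pushP f).obj ((ProEtS.epsPull X).obj F)).obj.obj
      (op ((ProEtS.eps Y).obj (T.D.obj j))))
    (h : ((ProEtS.pushP f).obj ((ProEtS.epsPull X).obj F)).obj.map (T.π j).op a =
      ((ProEtS.pushP f).obj ((ProEtS.epsPull X).obj F)).obj.map (T.π j).op b) :
    ∃ (k : T.J) (g : k ⟶ j),
      ((ProEtS.pushP f).obj ((ProEtS.epsPull X).obj F)).obj.map
          ((ProEtS.eps Y).map (T.D.map g)).op a =
        ((ProEtS.pushP f).obj ((ProEtS.epsPull X).obj F)).obj.map
          ((ProEtS.eps Y).map (T.D.map g)).op b := by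
  let e := (epsIso F).hom.hom
  obtain ⟨k, g, hg⟩ := LimSys.shL_exists_map_eq_zero (bcSys f T) F (k := j) (e.app _ a - e.app _ b) (by
    refine (map_sub _ _ _).trans (sub_eq_zero.2 ?_)
    refine (NatTrans.naturality_apply e _ a).symm.trans ?_
    exact (congrArg (e.app _) h).trans (NatTrans.naturality_apply e _ b))
  refine ⟨k, g, (bijective_epsIso F _).1 ?_⟩
  refine (NatTrans.naturality_apply e _ a).trans (Eq.trans ?_ (NatTrans.naturality_apply e _ b).symm)
  exact sub_eq_zero.1 ((map_sub _ _ _).symm.trans hg)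

theorem bijective_unit_all {Z : Scheme.{u}} [ProEtS.EpsCont Z] (F : EtCoh.Ab Z) (E : Z.Etale) :
    Function.Bijective (((ProEtS.epsAdj Z).unit.app F).hom.app (op E)) := by
  have := isIso_unit_app F
  exact (ConcreteCategory.isIso_iff_bijective _).1
    (inferInstanceAs (IsIso (((sheafToPresheaf _ _).map ((ProEtS.epsAdj Z).unit.app F)).app (op E))))

/-- The comparison is an isomorphism. -/
theorem isIso_pushEpsMate_app (F : EtCoh.Ab X) : IsIso ((pushEpsMate f).app F) := by
  let L := (ProEtS.epsPull Y).obj ((EtCoh.push f).obj F)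
  let R := (ProEtS.pushP f).obj ((ProEtS.epsPull X).obj F)
  let θ : L ⟶ R := (pushEpsMate f).app F
  change IsIso θ
  -- bijectivity on etale objects
  have hE : ∀ E : Y.Etale, Function.Bijective (θ.hom.app (op ((ProEtS.eps Y).obj E))) := by
    intro E
    have h1 : ((ProEtS.epsAdj Y).unit.app ((EtCoh.push f).obj F)) ≫ (ProEtS.epsPush Y).map θ =
        (EtCoh.push f).map ((ProEtS.epsAdj X).unit.app F) ≫
          (pushEpsIso f).hom.app ((ProEtS.epsPull X).obj F) :=
      ((ProEtS.epsAdj Y).homEquiv_unit _ _ θ).symm.trans (Equiv.apply_symm_apply _ _)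
    have h2 := congrArg (fun m => (m.hom.app (op E) : _ ⟶ _)) h1
    have hb : Function.Bijective (((pushEpsIso f).hom.app ((ProEtS.epsPull X).obj F)).hom.app (op E)) :=
      (ConcreteCategory.isIso_iff_bijective _).1 (inferInstanceAs (IsIso (((sheafToPresheaf _ _).map
        ((pushEpsIso f).hom.app ((ProEtS.epsPull X).obj F))).app (op E))))
    have h3 : ∀ x, θ.hom.app (op ((ProEtS.eps Y).obj E))
        (((ProEtS.epsAdj Y).unit.app ((EtCoh.push f).obj F)).hom.app (op E) x) =
        ((pushEpsIso f).hom.app ((ProEtS.epsPull X).obj F)).hom.app (op E)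
          (((ProEtS.epsAdj X).unit.app F).hom.app (op ((EtCoh.bc f).obj E)) x) :=
      fun x => ConcreteCategory.congr_hom h2 x
    have h4 : Function.Bijective (fun x => θ.hom.app (op ((ProEtS.eps Y).obj E))
        (((ProEtS.epsAdj Y).unit.app ((EtCoh.push f).obj F)).hom.app (op E) x)) := by
      simp only [h3]
      exact hb.comp (bijective_unit_all F _)
    exact (Function.Bijective.of_comp_iff _ (bijective_unit_all _ E)).1 h4
  refine isIso_of_bijective_IE θ fun W hW => ?_
  obtain ⟨T⟩ := hW.nonempty_tower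
  let D := T.D ⋙ ProEtS.eps Y
  have hA : ∀ j, IsAffine (D.obj j).left := T.isAffine
  have : ∀ (i j : T.J) (a : i ⟶ j), IsAffineHom (D.map a).left := fun i j a => T.isAffineHom_map a
  have : ∀ j, CompactSpace ↥(D.obj j).left := fun j => have := hA j; inferInstance
  have : ∀ j, QuasiSeparatedSpace ↥(D.obj j).left := fun j => have := hA j; inferInstance
  let c : Cone D :=
    { pt := W
      π :=
        { app := T.π
          naturality := fun i j g => (Category.id_comp _).trans
            (MorphismProperty.Over.Hom.ext (T.π_w g)).symm } }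
  have hc : IsLimit ((Scheme.ProEt.forget Y ⋙ Over.forget Y).mapCone c) :=
    IsLimit.ofIsoLimit T.isLimit (Cone.ext (Iso.refl _) fun j => (Category.id_comp _).symm)
  have : PreservesColimitsOfShape T.Jᵒᵖ (forget AddCommGrpCat.{u + 1}) := by
    have : PreservesFilteredColimitsOfSize.{u, u} (forget AddCommGrpCat.{u + 1}) :=
      preservesFilteredColimitsOfSize_shrink.{u, u + 1, u, u + 1} _
    exact PreservesFilteredColimitsOfSize.preserves_filtered_colimits _
  obtain ⟨hcolL⟩ := nonempty_isColimit_epsPull D c hc ((EtCoh.push f).obj F)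
  have hL := isColimitOfPreserves (forget AddCommGrpCat.{u + 1}) hcolL
  constructor
  · intro x y hxy
    obtain ⟨j, ⟨x', y'⟩, hx', hy'⟩ : ∃ (j : T.J) (p : L.obj.obj (op (D.obj j)) × L.obj.obj (op (D.obj j))),
        L.obj.map (T.π j).op p.1 = x ∧ L.obj.map (T.π j).op p.2 = y := by
      obtain ⟨i, x', hx'⟩ := Types.jointly_surjective_of_isColimit hL x
      obtain ⟨j, y', hy'⟩ := Types.jointly_surjective_of_isColimit hL y
      let k := IsCofiltered.min i.unop j.unop
      refine ⟨k, ⟨L.obj.map (D.map (IsCofiltered.minToLeft i.unop j.unop)).op x',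
        L.obj.map (D.map (IsCofiltered.minToRight i.unop j.unop)).op y'⟩, ?_, ?_⟩
      · rw [← Functor.map_comp_apply, ← op_comp]
        exact (congrArg (fun m => L.obj.map (Quiver.Hom.op m) x') (c.w _)).trans hx'
      · rw [← Functor.map_comp_apply, ← op_comp]
        exact (congrArg (fun m => L.obj.map (Quiver.Hom.op m) y') (c.w _)).trans hy'
    subst hx'
    subst hy'
    obtain ⟨k, g, hg⟩ := exists_map_eq_bcP f F T j (θ.hom.app (op (D.obj j)) x')
      (θ.hom.app (op (D.obj j)) y') (by
        refine (NatTrans.naturality_apply θ.hom (T.π j).op x').symm.trans (hxy.trans ?_)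
        exact NatTrans.naturality_apply θ.hom (T.π j).op y')
    have h5 : L.obj.map (D.map g).op x' = L.obj.map (D.map g).op y' := by
      refine (hE (T.D.obj k)).1 ?_
      refine (NatTrans.naturality_apply θ.hom (D.map g).op x').trans (hg.trans ?_)
      exact (NatTrans.naturality_apply θ.hom (D.map g).op y').symm
    have h6 := congrArg (L.obj.map (T.π k).op) h5
    rw [← Functor.map_comp_apply, ← Functor.map_comp_apply, ← op_comp] at h6
    rwa [show T.π k ≫ D.map g = T.π j from c.w g] at h6
  · intro z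
    obtain ⟨j, z', rfl⟩ := exists_map_of_bcP f F T z
    obtain ⟨w, rfl⟩ := (hE (T.D.obj j)).2 z'
    exact ⟨L.obj.map (T.π j).op w, NatTrans.naturality_apply θ.hom (T.π j).op w⟩

end Groth.EtaleDeep.Eps
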