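import Groth.Agent.EtaleDeep.Eps.Acyc
import Groth.Agent.CohFin.Acyclic
import Groth.Agent.SiteCohomology.ExtBasic

/-!
# The higher direct images along `ε` and the cohomology of inverse images
-/

set_option autoImplicit false
set_option backward.isDefEq.respectTransparency.types false
set_option linter.style.haveILetI false

universe u

open CategoryTheory CategoryTheory.Limits AlgebraicGeometry Opposite

namespace Groth.EtaleDeep.Eps

variable {X : Scheme.{u}}

/-- The top object of the pro-etale site is terminal. -/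
noncomputable def isTerminalTopP (X : Scheme.{u}) : IsTerminal (ProEtS.topP X) :=
  IsTerminal.ofUniqueHom (fun V => MorphismProperty.Over.homMk V.hom (Category.comp_id _))
    fun V m => MorphismProperty.Over.Hom.ext
      ((Category.comp_id m.left).symm.trans (MorphismProperty.Over.w m))

theorem IE.topP (X : Scheme.{u}) [IsAffine X] : IE (ProEtS.topP X) := by
  have : IsAffine (Scheme.Etale.mk (𝟙 X) : X.Etale).left := ‹IsAffine X›
  exact IE.eps (Scheme.Etale.mk (𝟙 X))

/-- Global cohomology of acyclic sheaves vanishes on affine schemes. -/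
theorem subsingleton_HP_of_acyc [IsAffine X] (n : ℕ) (G : ProEtS.AbP X) (hG : Acyc G) :
    Subsingleton (ProEtS.HP X G (n + 1)) := by
  refine Groth.SiteCohomology.subsingleton_ext_succ_of_class _ (fun G => Acyc G)
    (fun F S hS hF hF' _ f => ?_) (fun F S hS hF hF' _ => ?_) n G hG
  · subst hF'
    let hT := isTerminalTopP X
    obtain ⟨y, hy⟩ := hF.surjective hS (IE.topP X) (Sheaf.H.equiv₀ S.X₃ hT
      (Abelian.Ext.mk₀ f : Sheaf.H S.X₃ 0))
    let x : Sheaf.H S.X₂ 0 := (Sheaf.H.equiv₀ S.X₂ hT).symm y
    refine ⟨Abelian.Ext.addEquiv₀ x, ?_⟩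
    have h : Sheaf.H.map S.g 0 x = Abelian.Ext.mk₀ f := by
      simp only [x, Sheaf.H.equiv₀_symm_naturality, hy, AddEquiv.symm_apply_apply]
    rw [← Sheaf.H.addEquiv₀_map, h]
    exact Abelian.Ext.addEquiv₀.apply_symm_apply f
  · subst hF'
    exact hF.right hS (acyc_injective _)

variable [ProEtS.EpsCont X]

/-- Sections over affine objects lift, so `ε_*` of the quotient map is epi. -/
theorem epi_epsPush_map {S : ShortComplex (ProEtS.AbP X)} (hS : S.ShortExact) (h : Acyc S.X₁) :
    Epi ((ProEtS.epsPush X).map S.g) := by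
  have : Sheaf.IsLocallySurjective ((ProEtS.epsPush X).map S.g) := by
    refine ⟨fun {E} s => ?_⟩
    refine X.smallEtaleTopology.superset_covering ?_ (?_ : Sieve.generate (Presieve.ofArrows
      (fun W : E.left.affineOpens => EtaleBase.openObj E W.1)
        fun W => EtaleBase.openHom E W.1) ∈ X.smallEtaleTopology E)
    · rintro Y q ⟨Y', a, _, ⟨k⟩, rfl⟩
      refine Sieve.downward_closed _ ?_ a
      have : IsAffine (EtaleBase.openObj E k.1).left := k.2
      exact h.surjective hS (IE.eps (EtaleBase.openObj E k.1)) _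
    · rw [EtaleBase.mem_topology_iff]
      intro x
      obtain ⟨_, ⟨W, hW, rfl⟩, hx, -⟩ :=
        E.left.isBasis_affineOpens.exists_subset_of_mem_open (Set.mem_univ x) isOpen_univ
      exact ⟨_, EtaleBase.openHom E W, (⟨x, hx⟩ : W),
        Sieve.le_generate _ _ _ (Presieve.ofArrows.mk (⟨W, hW⟩ : E.left.affineOpens)), rfl⟩
  exact (Sheaf.isLocallySurjective_iff_epi' _ _).1 this

theorem preservesFiniteLimits_epsPush : PreservesFiniteLimits (ProEtS.epsPush X) := by
  have : PreservesLimitsOfSize.{0, 0} (ProEtS.epsPush X) :=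
    (ProEtS.epsAdj X).rightAdjoint_preservesLimits
  exact PreservesLimitsOfSize.preservesFiniteLimits _

/-- Acyclic sheaves are `ε_*`-acyclic. -/
theorem rightAcyclic_of_acyc : ∀ (G : ProEtS.AbP X), Acyc G →
    CohFin.RightAcyclic (ProEtS.epsPush X) G := by
  have := preservesFiniteLimits_epsPush (X := X)
  suffices ∀ (k : ℕ) (G : ProEtS.AbP X), Acyc G →
      IsZero (((ProEtS.epsPush X).rightDerived (k + 1)).obj G) from fun G hG k => this k G hG
  intro k
  induction k with
  | zero =>
    intro G hG
    obtain ⟨e⟩ := CohFin.nonempty_rightDerived_one_iso_of_injective (F := ProEtS.epsPush X)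
      (CohFin.injSeq_shortExact G)
    have := epi_epsPush_map (CohFin.injSeq_shortExact G) hG
    exact (isZero_cokernel_of_epi _).of_iso e
  | succ k ih =>
    intro G hG
    obtain ⟨e⟩ := CohFin.nonempty_rightDerived_shift (F := ProEtS.epsPush X) k _
      (CohFin.injSeq_shortExact G) (CohFin.rightAcyclic_of_injective _ _)
    exact (ih _ (hG.right (CohFin.injSeq_shortExact G) (acyc_injective _))).of_iso e

/-- `R^qε_*` kills inverse images in positive degrees. -/
theorem isZero_repsPush_epsPull : ∀ (q : ℕ) (F : EtCoh.Ab X),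
    IsZero ((ProEtS.RepsPush X (q + 1)).obj ((ProEtS.epsPull X).obj F)) := by
  have := preservesFiniteLimits_epsPush (X := X)
  have := epsPull_preservesFiniteLimits (X := X)
  have : PreservesFiniteColimits (ProEtS.epsPull X) :=
    have : PreservesColimitsOfSize.{0, 0} (ProEtS.epsPull X) :=
      (ProEtS.epsAdj X).leftAdjoint_preservesColimits
    PreservesColimitsOfSize.preservesFiniteColimits _
  intro q
  induction q with
  | zero =>
    intro F
    have hS := (CohFin.injSeq_shortExact F).map_of_exact (ProEtS.epsPull X)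
    obtain ⟨e⟩ := CohFin.nonempty_rightDerived_one_iso (F := ProEtS.epsPush X) hS
      (rightAcyclic_of_acyc _ (acyc_epsPull (CohFin.injSeq F).X₂))
    have : Epi ((ProEtS.epsPush X).map ((CohFin.injSeq F).map (ProEtS.epsPull X)).g) := by
      have h := (ProEtS.epsAdj X).unit.naturality (CohFin.injSeq F).g
      have := (CohFin.injSeq_shortExact F).epi_g
      have := isIso_unit_app (CohFin.injSeq F).X₃
      have : Epi ((CohFin.injSeq F).g ≫ (ProEtS.epsAdj X).unit.app (CohFin.injSeq F).X₃) :=
        inferInstance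
      refine @epi_of_epi _ _ _ _ _ ((ProEtS.epsAdj X).unit.app (CohFin.injSeq F).X₂) _ ?_
      exact h ▸ this
    exact (isZero_cokernel_of_epi _).of_iso e
  | succ q ih =>
    intro F
    obtain ⟨e⟩ := CohFin.nonempty_rightDerived_shift (F := ProEtS.epsPush X) q _
      ((CohFin.injSeq_shortExact F).map_of_exact (ProEtS.epsPull X))
      (rightAcyclic_of_acyc _ (acyc_epsPull (CohFin.injSeq F).X₂))
    exact (ih _).of_iso e

end Groth.EtaleDeep.Eps
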