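import Groth.Agent.EtaleDeep.Eps.Cartan

/-!
# Acyclic classes of pro-etale sheaves
-/

set_option autoImplicit false
set_option backward.isDefEq.respectTransparency.types false
set_option linter.style.haveILetI false

universe u

open CategoryTheory CategoryTheory.Limits AlgebraicGeometry Opposite

namespace Groth.EtaleDeep.Eps

variable {X : Scheme.{u}}

/-- Projections in the pro-etale site. -/
noncomputable def powPpr {E' E : X.ProEt} (q : E' ⟶ E) (n : ℕ) (a : Fin (n + 1)) :
    powP q n ⟶ E' :=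
  MorphismProperty.Over.homMk (pr q.left n a)
    ((congrArg (pr q.left n a ≫ ·) (MorphismProperty.Over.w q).symm).trans
      ((Category.assoc _ _ _).symm.trans (congrArg (· ≫ E.hom) (pr_w q.left n a))))

open EtaleBase.CechInj in
/-- Čech exactness of injective presheaves on the pro-etale site. -/
theorem cechExactP_injective (P : X.ProEtᵒᵖ ⥤ AddCommGrpCat.{u + 1}) [Injective P]
    {E' E : X.ProEt} (q : E' ⟶ E) : CechExactP P q := by
  have : HasFiniteProducts (Over E) := by
    have : HasPullbacks X.ProEt := inferInstance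
    exact hasFiniteProducts_of_has_binary_and_terminal
  let Uf : PUnit.{u + 2} → Over E := fun _ => Over.mk q
  let σ : ∀ n, Fin (n + 1) → PUnit.{u + 2} := fun n _ => PUnit.unit
  have hσ : ∀ n (τ : Fin (n + 1) → PUnit.{u + 2}), τ = σ n := fun n τ => rfl
  have hpr : ∀ n (a : Fin (n + 1)), proj (Uf := Uf) (σ n) a ≫ q = (∏ᶜ (Uf ∘ σ n)).hom :=
    fun n a => proj_hom (Uf := Uf) (σ n) a
  let θ : ∀ n, W (Uf := Uf) (σ n) ⟶ powP q n := fun n => MorphismProperty.Over.homMk
    (pwLift q.left n (∏ᶜ (Uf ∘ σ n)).hom.left (fun a => (proj (Uf := Uf) (σ n) a).left)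
      fun a => congrArg (fun m => m.left) (hpr n a))
    ((Category.assoc _ _ _).symm.trans ((congrArg (· ≫ E.hom) (pwLift_hom _ _ _ _ _)).trans
      (MorphismProperty.Over.w (∏ᶜ (Uf ∘ σ n)).hom)))
  have hθ : ∀ n a, θ n ≫ powPpr q n a = proj (Uf := Uf) (σ n) a := fun n a =>
    MorphismProperty.Over.Hom.ext (pwLift_pr q.left n (∏ᶜ (Uf ∘ σ n)).hom.left
      (fun a => (proj (Uf := Uf) (σ n) a).left) (fun a => congrArg (fun m => m.left) (hpr n a)) a)
  have hext : ∀ n {Z : X.ProEt} (f f' : Z ⟶ powP q n),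
      (∀ a, f ≫ powPpr q n a = f' ≫ powPpr q n a) → f = f' := fun n Z f f' h =>
    MorphismProperty.Over.Hom.ext (pw_hom_ext q.left n _ _ fun a => congrArg (fun m => m.left) (h a))
  have hq : ∀ n a, powPpr q n a ≫ q =
      (powPpr q n 0 ≫ q) := fun n a => MorphismProperty.Over.Hom.ext
    ((pr_w q.left n a).trans (pr_w q.left n 0).symm)
  let θ' : ∀ n, powP q n ⟶ W (Uf := Uf) (σ n) := fun n =>
    (Pi.lift fun a => (Over.homMk (powPpr q n a) (hq n a) :
      Over.mk (powPpr q n 0 ≫ q) ⟶ (Uf ∘ σ n) a)).left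
  have hθ' : ∀ n a, θ' n ≫ proj (Uf := Uf) (σ n) a = powPpr q n a := fun n a =>
    congrArg CommaMorphism.left (Pi.lift_π (fun a => (Over.homMk (powPpr q n a) (hq n a) :
      Over.mk (powPpr q n 0 ≫ q) ⟶ (Uf ∘ σ n) a)) a)
  have hθθ : ∀ n, θ' n ≫ θ n = 𝟙 _ := fun n => hext n _ _ fun a => by
    rw [Category.assoc, hθ, hθ', Category.id_comp]
  have hδ : ∀ n (j : Fin (n + 2)) (a : Fin (n + 1)),
      powPδ q n j ≫ powPpr q n a = powPpr q (n + 1) (j.succAbove a) := fun n j a =>
    MorphismProperty.Over.Hom.ext (pwδ_pr q.left n j a)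
  have hθδ : ∀ n (j : Fin (n + 2)),
      δW (Uf := Uf) (σ (n + 1)) j ≫ θ n = θ (n + 1) ≫ powPδ q n j := fun n j =>
    hext n _ _ fun a => by
      rw [Category.assoc, Category.assoc, hθ, hδ, hθ]
      exact δW_proj (σ (n + 1)) j a
  have hθ'δ : ∀ n (j : Fin (n + 2)),
      θ' (n + 1) ≫ δW (Uf := Uf) (σ (n + 1)) j = powPδ q n j ≫ θ' n := fun n j =>
    EtaleBase.CechInj.hom_ext (σ n) _ _ fun a => by
      rw [Category.assoc, Category.assoc, hθ', hδ]
      exact (congrArg (θ' (n + 1) ≫ ·) (δW_proj (σ (n + 1)) j a)).trans (hθ' (n + 1) _)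
  intro n c hc
  obtain ⟨b, hb⟩ := exists_coboundary_eq (Uf := Uf) P (n := n)
    (fun _ => P.map (θ (n + 1)).op c) (funext fun τ => by
      rw [hσ _ τ]
      change (∑ j : Fin (n + 3), (-1 : ℤ) ^ (j : ℕ) • P.map (δW (σ (n + 2)) j).op (P.map (θ (n + 1)).op c)) = 0
      have h := congrArg (P.map (θ (n + 2)).op) hc
      rw [map_zero, map_sum] at h
      refine Eq.trans (Finset.sum_congr rfl fun j _ => ?_) h
      rw [map_zsmul, ← Functor.map_comp_apply, ← Functor.map_comp_apply, ← op_comp, ← op_comp, hθδ])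
  refine ⟨P.map (θ' n).op (b (σ n)), ?_⟩
  have h := congrArg (P.map (θ' (n + 1)).op) (congrFun hb (σ (n + 1)))
  rw [← Functor.map_comp_apply, ← op_comp, hθθ, op_id, Functor.map_id_apply] at h
  refine Eq.trans ?_ h
  change _ = P.map (θ' (n + 1)).op (∑ j : Fin (n + 2), (-1 : ℤ) ^ (j : ℕ) • P.map (δW (σ (n + 1)) j).op (b (σ n)))
  rw [map_sum]
  refine Finset.sum_congr rfl fun j _ => ?_
  rw [map_zsmul, ← Functor.map_comp_apply, ← Functor.map_comp_apply, ← op_comp, ← op_comp, hθ'δ]

/-- Injective sheaves are acyclic. -/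
theorem acyc_injective (J : ProEtS.AbP X) [Injective J] : Acyc J := fun W V g _ _ =>
  have : Injective J.obj := Injective.injective_of_adjoint
    (sheafificationAdjunction (Scheme.ProEt.topology X) AddCommGrpCat.{u + 1}) J
  cechExactP_injective J.obj g

/-- Inverse images of injective sheaves are acyclic. -/
theorem acyc_epsPull [ProEtS.EpsCont X] (I : EtCoh.Ab X) [Injective I] :
    Acyc ((ProEtS.epsPull X).obj I) := by
  intro W V g hg hV n c hc
  let L := lanObj I.obj
  let η := toSheafify (Scheme.ProEt.topology X) L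
  let e := (epsIso I).hom.hom
  have hb : ∀ m, Function.Bijective (η.app (op (powP g m))) := fun m =>
    (IE.of_relIE (hg.powPHom m) hV).bijective_toSheafify I
  obtain ⟨c', hc'⟩ := (hb (n + 1)).2 (e.app _ c)
  obtain ⟨b', hb'⟩ := cechExactP_relIE I g hg hV n c' ((hb (n + 2)).1 (by
    change η.app _ (cob L g (n + 1) c') = _
    rw [cob_natural, hc', map_zero]
    refine Eq.trans ?_ (map_zero (e.app (op (powP g (n + 2)))).hom)
    exact (cob_natural e g (n + 1) c).symm.trans (congrArg (e.app _) hc)))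
  obtain ⟨b, hb0⟩ := (bijective_epsIso I (powP g n)).2 (η.app _ b')
  refine ⟨b, (bijective_epsIso I (powP g (n + 1))).1 ?_⟩
  change e.app _ (cob _ g n b) = e.app _ c
  rw [cob_natural, show e.app _ b = η.app _ b' from hb0]
  refine (cob_natural η g n b').symm.trans ?_
  exact (congrArg (η.app _) hb').trans hc'

/-- Acyclicity is invariant under isomorphisms. -/
theorem Acyc.of_iso {F G : ProEtS.AbP X} (φ : F ≅ G) (h : Acyc F) : Acyc G := by
  intro W V g hg hV n c hc
  have hinv : ∀ U y, φ.hom.hom.app U (φ.inv.hom.app U y) = y := fun U y =>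
    congrArg (fun m => m.hom.app U y) φ.inv_hom_id
  obtain ⟨b, hb⟩ := h g hg hV n (φ.inv.hom.app _ c) (by
    change cob F.obj g (n + 1) _ = 0
    rw [← cob_natural, show cob G.obj g (n + 1) c = 0 from hc, map_zero])
  refine ⟨φ.hom.hom.app _ b, ?_⟩
  change cob G.obj g n _ = c
  rw [← cob_natural, show cob F.obj g n b = _ from hb, hinv]

end Groth.EtaleDeep.Eps
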