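import Groth.Agent.EtaleDeep.Eps.IndEtHom

/-!
# Affine systems attached to ind-etale morphisms
-/

set_option autoImplicit false
set_option backward.isDefEq.respectTransparency.types false
set_option linter.style.haveILetI false

universe u

open CategoryTheory CategoryTheory.Limits AlgebraicGeometry Opposite

namespace Groth.EtaleDeep.Eps

/-- A presentation of a morphism of affine schemes as a limit of affine etale ones. -/
structure AffSys {W V : Scheme.{u}} (g : W ⟶ V) where
  /-- the index category -/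
  K : Type u
  [smallCategory : SmallCategory K]
  [isCofiltered : IsCofiltered K]
  /-- the diagram -/
  D : K ⥤ Scheme.{u}
  isAffine : ∀ k, IsAffine (D.obj k)
  /-- the structure maps -/
  str : ∀ k, D.obj k ⟶ V
  etale : ∀ k, Etale (str k)
  str_w : ∀ {i j : K} (f : i ⟶ j), D.map f ≫ str j = str i
  /-- the projections -/
  π : ∀ k, W ⟶ D.obj k
  π_w : ∀ {i j : K} (f : i ⟶ j), π i ≫ D.map f = π j
  π_str : ∀ k, π k ≫ str k = g
  isLimit : IsLimit
    ({ pt := W, π := { app := π, naturality := fun _ _ f => (Category.id_comp _).trans (π_w f).symm } } :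
      Cone D)

attribute [instance] AffSys.smallCategory AffSys.isCofiltered

section

variable {A B : Type u} [CommRing A] [CommRing B] [Algebra A B]
  {P : ∀ (R : Type u) [CommRing R] [Algebra A R], Prop} (H : IndEt.Pres A B P)

/-- The rings of a presentation. -/
noncomputable def ringD : H.J ⥤ CommRingCat.{u} :=
  H.diagram ⋙ Under.forget (CommRingCat.of A)

/-- The colimit cocone of rings. -/
noncomputable def ringCocone : Cocone (ringD H) :=
  (Under.forget (CommRingCat.of A)).mapCocone H.cocone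

/-- The colimit property. -/
noncomputable def isColimitRing : IsColimit (ringCocone H) :=
  haveI : IsConnected H.J := IsFiltered.isConnected H.J
  isColimitOfPreserves (Under.forget (CommRingCat.of A)) H.isColimit

/-- The spectra of a presentation. -/
noncomputable def specD : H.Jᵒᵖ ⥤ Scheme.{u} := (ringD H).op ⋙ Scheme.Spec

/-- The limit cone of spectra. -/
noncomputable def specCone : Cone (specD H) := Scheme.Spec.mapCone (ringCocone H).op

/-- The limit property. -/
noncomputable def isLimitSpec : IsLimit (specCone H) :=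
  isLimitOfPreserves Scheme.Spec (isColimitRing H).op

end

/-- An ind-etale morphism of affine schemes is a limit of etale ones, and etale covers of the source
descend to a stage. -/
theorem exists_affSys {W V : Scheme.{u}} (g : W ⟶ V) [IsAffine W] [IsAffine V]
    (hg : IndEt g.appTop) :
    ∃ S : AffSys g, ∀ (U : Scheme.{u}) (h : U ⟶ W) [IsAffine U] [Etale h],
      ∃ (k : S.K) (E' : Scheme.{u}) (q : E' ⟶ S.D.obj k) (u : U ⟶ E'),
        IsAffine E' ∧ Etale q ∧ IsPullback h u (S.π k) q := by
  letI := g.appTop.hom.toAlgebra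
  obtain ⟨H⟩ := IndEt.isIndEtale_iff.mp (show EtPBC.IsIndEtale Γ(V, ⊤) Γ(W, ⊤) from hg)
  let str : ∀ k : H.Jᵒᵖ, (specD H).obj k ⟶ V := fun k =>
    Spec.map (CommRingCat.ofHom (algebraMap Γ(V, ⊤) (H.G k.unop))) ≫ V.isoSpec.inv
  let π : ∀ k : H.Jᵒᵖ, W ⟶ (specD H).obj k := fun k =>
    W.isoSpec.hom ≫ Spec.map (CommRingCat.ofHom (H.g k.unop).toRingHom)
  have hπw : ∀ {i j : H.Jᵒᵖ} (f : i ⟶ j), π i ≫ (specD H).map f = π j := fun {i j} f =>
    (Category.assoc _ _ _).trans (congrArg (W.isoSpec.hom ≫ ·) ((specCone H).w f))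
  have hstrw : ∀ {i j : H.Jᵒᵖ} (f : i ⟶ j), (specD H).map f ≫ str j = str i := fun {i j} f => by
    refine (Category.assoc _ _ _).symm.trans (congrArg (· ≫ V.isoSpec.inv) ?_)
    exact (Spec.map_comp _ _).symm.trans
      (congrArg (fun m => Spec.map m) (Under.w (H.diagram.map f.unop)))
  have hπstr : ∀ k, π k ≫ str k = g := fun k => by
    have h1 : Spec.map (CommRingCat.ofHom (H.g k.unop).toRingHom) ≫
        Spec.map (CommRingCat.ofHom (algebraMap Γ(V, ⊤) (H.G k.unop))) = Spec.map g.appTop :=
      (Spec.map_comp _ _).symm.trans (congrArg (fun m => Spec.map m)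
        (CommRingCat.hom_ext (H.g k.unop).comp_algebraMap))
    refine (Category.assoc _ _ _).trans ?_
    refine (congrArg (W.isoSpec.hom ≫ ·) ((Category.assoc _ _ _).symm.trans
      (congrArg (· ≫ V.isoSpec.inv) h1))).trans ?_
    exact (Category.assoc _ _ _).symm.trans
      ((congrArg (· ≫ V.isoSpec.inv) (Scheme.isoSpec_hom_naturality g)).trans
        ((Category.assoc _ _ _).trans ((congrArg (g ≫ ·) V.isoSpec.hom_inv_id).trans
          (Category.comp_id g))))
  let S : AffSys g :=
    { K := H.Jᵒᵖ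
      D := specD H
      isAffine := fun k => inferInstanceAs (IsAffine (Spec (CommRingCat.of (H.G k.unop))))
      str := str
      etale := fun k => by
        have := H.prop k.unop
        have : Etale (Spec.map (CommRingCat.ofHom (algebraMap Γ(V, ⊤) (H.G k.unop)))) :=
          (HasRingHomProperty.Spec_iff (P := @Etale)).2 (RingHom.etale_algebraMap.2 ‹_›)
        exact MorphismProperty.comp_mem @Etale _ _ this inferInstance
      str_w := hstrw
      π := π
      π_w := hπw
      π_str := hπstr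
      isLimit := IsLimit.ofIsoLimit (isLimitSpec H)
        (Cone.ext W.isoSpec.symm fun k => (W.isoSpec.inv_hom_id_assoc _).symm) }
  refine ⟨S, fun U h _ _ => ?_⟩
  letI := h.appTop.hom.toAlgebra
  have : Algebra.Etale Γ(W, ⊤) Γ(U, ⊤) :=
    RingHom.etale_algebraMap.1 ((HasRingHomProperty.iff_of_isAffine (P := @Etale)).1 ‹_›)
  obtain ⟨i, E₁, _, _, hE₁, he⟩ := H.exists_etale_model Γ(U, ⊤)
  letI : Algebra (H.G i) Γ(W, ⊤) := (H.g i).toRingHom.toAlgebra
  obtain ⟨e⟩ := he
  have hP : IsPushout (CommRingCat.ofHom (algebraMap (H.G i) Γ(W, ⊤)))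
      (CommRingCat.ofHom (algebraMap (H.G i) E₁))
      (CommRingCat.ofHom (Algebra.TensorProduct.includeLeftRingHom
        (R := H.G i) (A := Γ(W, ⊤)) (B := E₁)))
      (CommRingCat.ofHom (Algebra.TensorProduct.includeRight
        (R := H.G i) (A := Γ(W, ⊤)) (B := E₁)).toRingHom) :=
    CommRingCat.isPushout_tensorProduct _ _ _
  let ρ : CommRingCat.of (TensorProduct (H.G i) Γ(W, ⊤) E₁) ≅ Γ(U, ⊤) :=
    e.symm.toRingEquiv.toCommRingCatIso
  let e₁ : Spec (CommRingCat.of (TensorProduct (H.G i) Γ(W, ⊤) E₁)) ≅ U :=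
    (Scheme.Spec.mapIso ρ.op).symm ≪≫ U.isoSpec.symm
  have hρ : CommRingCat.ofHom (Algebra.TensorProduct.includeLeftRingHom
      (R := H.G i) (A := Γ(W, ⊤)) (B := E₁)) ≫ ρ.hom = h.appTop :=
    CommRingCat.hom_ext (RingHom.ext fun a => e.symm.commutes a)
  let q₀ : Spec (CommRingCat.of E₁) ⟶ Spec (CommRingCat.of (H.G i)) :=
    Spec.map (CommRingCat.ofHom (algebraMap (H.G i) E₁))
  have hq₀ : Etale q₀ := (HasRingHomProperty.Spec_iff (P := @Etale)).2 (RingHom.etale_algebraMap.2 hE₁)
  refine ⟨op i, Spec (CommRingCat.of E₁), q₀,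
    e₁.inv ≫ Spec.map (CommRingCat.ofHom (Algebra.TensorProduct.includeRight
      (R := H.G i) (A := Γ(W, ⊤)) (B := E₁)).toRingHom), inferInstance,
    hq₀, ?_⟩
  refine IsPullback.of_iso (isPullback_SpecMap_of_isPushout _ _ _ _ hP) e₁ W.isoSpec.symm
    (Iso.refl _) (Iso.refl _) ?_ ?_ ?_ ?_
  · have hinv : e₁.hom = Spec.map ρ.inv ≫ U.isoSpec.inv := rfl
    have h2 : U.isoSpec.inv ≫ h = Spec.map h.appTop ≫ W.isoSpec.inv :=
      (Scheme.isoSpec_inv_naturality h).symm
    refine Eq.trans ?_ ((congrArg (Spec.map ρ.inv ≫ ·) h2.symm).trans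
      ((Category.assoc _ _ _).symm.trans (congrArg (· ≫ h) hinv.symm)))
    refine Eq.trans ?_ (Category.assoc _ _ _)
    refine congrArg (· ≫ W.isoSpec.inv) ?_
    rw [← hρ, ← Spec.map_comp]
    exact congrArg (fun m => Spec.map m) ((Category.assoc _ _ _).trans
      ((congrArg (_ ≫ ·) ρ.hom_inv_id).trans (Category.comp_id _))).symm
  · exact (Category.comp_id _).trans (e₁.hom_inv_id_assoc _).symm
  · exact (Category.comp_id _).trans (W.isoSpec.inv_hom_id_assoc _).symm
  · exact (Category.comp_id _).trans (Category.id_comp _).symm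

end Groth.EtaleDeep.Eps
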