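import Groth.Agent.EtaleDeep.Eps.Refine

/-!
# Cartan's criterion on ind-etale objects
-/

set_option autoImplicit false
set_option backward.isDefEq.respectTransparency.types false
set_option linter.style.haveILetI false

universe u

open CategoryTheory CategoryTheory.Limits AlgebraicGeometry Opposite

namespace Groth.EtaleDeep.Eps

variable {X : Scheme.{u}}

lemma succ_succAbove_succAbove_of_le {n : ℕ} {i j : Fin (n + 2)} (h : i ≤ j) (a : Fin (n + 1)) :
    (j.succ).succAbove (i.succAbove a) = (i.castSucc).succAbove (j.succAbove a) := by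
  simp only [Fin.succAbove, Fin.ext_iff, Fin.lt_def, Fin.le_def, Fin.val_castSucc, Fin.val_succ]
    at h ⊢
  repeat' split_ifs
  all_goals simp only [Fin.val_castSucc, Fin.val_succ] at *
  all_goals omega

lemma pwδ_comp {C : Type*} [Category C] [HasPullbacks C] {W V : C} (g : W ⟶ V) (n : ℕ)
    {i j : Fin (n + 2)} (h : i ≤ j) :
    pwδ g (n + 1) j.succ ≫ pwδ g n i = pwδ g (n + 1) i.castSucc ≫ pwδ g n j :=
  pw_hom_ext g n _ _ fun a => by
    rw [Category.assoc, Category.assoc, pwδ_pr, pwδ_pr, pwδ_pr, pwδ_pr,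
      succ_succAbove_succAbove_of_le h]

lemma powPδ_comp {W V : X.ProEt} (g : W ⟶ V) (n : ℕ) {i j : Fin (n + 2)} (h : i ≤ j) :
    powPδ g (n + 1) j.succ ≫ powPδ g n i = powPδ g (n + 1) i.castSucc ≫ powPδ g n j :=
  MorphismProperty.Over.Hom.ext (pwδ_comp g.left n h)

/-- The alternating coboundary. -/
noncomputable def cob (P : X.ProEtᵒᵖ ⥤ AddCommGrpCat.{u + 1}) {W V : X.ProEt} (g : W ⟶ V) (n : ℕ)
    (c : P.obj (op (powP g n))) : P.obj (op (powP g (n + 1))) :=
  ∑ j : Fin (n + 2), (-1 : ℤ) ^ (j : ℕ) • P.map (powPδ g n j).op c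

lemma cob_natural {P Q : X.ProEtᵒᵖ ⥤ AddCommGrpCat.{u + 1}} (φ : P ⟶ Q) {W V : X.ProEt}
    (g : W ⟶ V) (n : ℕ) (c : P.obj (op (powP g n))) :
    φ.app _ (cob P g n c) = cob Q g n (φ.app _ c) := by
  simp only [cob, map_sum, map_zsmul, NatTrans.naturality_apply]

lemma cob_sub (P : X.ProEtᵒᵖ ⥤ AddCommGrpCat.{u + 1}) {W V : X.ProEt} (g : W ⟶ V) (n : ℕ)
    (c c' : P.obj (op (powP g n))) : cob P g n (c - c') = cob P g n c - cob P g n c' := by
  simp only [cob, map_sub, smul_sub, Finset.sum_sub_distrib]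

lemma cob_cob (P : X.ProEtᵒᵖ ⥤ AddCommGrpCat.{u + 1}) {W V : X.ProEt} (g : W ⟶ V) (n : ℕ)
    (c : P.obj (op (powP g n))) : cob P g (n + 1) (cob P g n c) = 0 := by
  simp only [cob, map_sum, map_zsmul, Finset.smul_sum, smul_smul, ← Finset.sum_product',
    ← Functor.map_comp_apply, ← op_comp]
  let S : Finset (Fin (n + 3) × Fin (n + 2)) := {ij | (ij.1 : ℕ) ≤ (ij.2 : ℕ)}
  rw [Finset.univ_product_univ, ← Finset.sum_add_sum_compl S, ← eq_neg_iff_add_eq_zero,
    ← Finset.sum_neg_distrib]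
  refine Finset.sum_bij (fun ij hij => (ij.2.succ,
    Fin.castLT ij.1 (lt_of_le_of_lt (Finset.mem_filter.mp hij).right (Fin.is_lt ij.2)))) ?_ ?_ ?_ ?_
  · intro ij hij
    simp_rw [S, Finset.compl_filter, Finset.mem_filter_univ, Fin.val_succ, Fin.val_castLT] at hij ⊢
    omega
  · rintro ⟨i, j⟩ hij ⟨i', j'⟩ hij' h
    rw [Prod.mk_inj] at h ⊢
    exact ⟨by simpa [Fin.castSucc_castLT] using congrArg Fin.castSucc h.2, by simpa using h.1⟩
  · rintro ⟨i', j'⟩ hij'
    simp_rw [S, Finset.compl_filter, Finset.mem_filter_univ, not_le] at hij'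
    refine ⟨(Fin.castSucc j', i'.pred ?_), ?_, ?_⟩
    · rintro rfl
      simp only [Fin.val_zero, not_lt_zero] at hij'
    · simpa [S] using Nat.le_sub_one_of_lt hij'
    · simp only [Fin.castLT_castSucc, Fin.succ_pred]
  · rintro ⟨i, j⟩ hij
    simp only [S, Finset.mem_filter_univ] at hij
    dsimp only
    rw [← neg_smul]
    congr 1
    · simp only [Fin.val_succ, Fin.val_castLT, pow_succ]
      ring
    · rw [powPδ_comp g n (i := Fin.castLT i (lt_of_le_of_lt hij j.is_lt)) (j := j) hij,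
        Fin.castSucc_castLT]

/-- Čech acyclicity on ind-etale objects. -/
def Acyc (G : ProEtS.AbP X) : Prop :=
  ∀ ⦃W V : X.ProEt⦄ (g : W ⟶ V), RelIE g → IE V → CechExactP G.obj g

/-- A lift on a covering object descends when the Čech group of the kernel vanishes. -/
theorem exists_lift_of_cech {S : ShortComplex (ProEtS.AbP X)} (hS : S.ShortExact) {W V : X.ProEt}
    (g : W ⟶ V) (hcovg : Sieve.generate (Presieve.singleton g) ∈ Scheme.ProEt.topology X V)
    (h : CechExactP S.X₁.obj g) (s : S.X₃.obj.obj (op V)) (t₀ : S.X₂.obj.obj (op W))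
    (htg : S.g.hom.app (op W) t₀ = S.X₃.obj.map g.op s) :
    ∃ σ, S.g.hom.app (op V) σ = s := by
  let J := Scheme.ProEt.topology X
  have : Mono S.f := hS.mono_f
  have hinj : ∀ U, Function.Injective (S.f.hom.app U) := fun U =>
    (AddCommGrpCat.mono_iff_injective _).1
      (inferInstanceAs (Mono (((sheafToPresheaf J AddCommGrpCat.{u + 1}).map S.f).app U)))
  have hex : ∀ (U : X.ProEtᵒᵖ) (x : S.X₂.obj.obj U), S.g.hom.app U x = 0 →
      ∃ y, S.f.hom.app U y = x := fun U x hx =>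
    (ShortComplex.ab_exact_iff_function_exact _).1
      ((hS.exact.map_of_mono_of_preservesKernel
        (sheafToPresheaf J AddCommGrpCat.{u + 1} ⋙ (evaluation _ _).obj U) hS.mono_f
          inferInstance)) x |>.1 hx
  have h2 := (isSheaf_iff_isSheaf_of_type _ _).1
    ((sheafCompose J (forget AddCommGrpCat.{u + 1})).obj S.X₂).property
  have h3 := (isSheaf_iff_isSheaf_of_type _ _).1
    ((sheafCompose J (forget AddCommGrpCat.{u + 1})).obj S.X₃).property
  let e : powP g 0 ⟶ W := MorphismProperty.Over.homMk (pr g.left 0 0)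
    ((congrArg (pr g.left 0 0 ≫ ·) (MorphismProperty.Over.w g).symm).trans
      ((Category.assoc _ _ _).symm.trans (congrArg (· ≫ V.hom) (pr_w g.left 0 0))))
  let e' : W ⟶ powP g 0 := MorphismProperty.Over.homMk
    (pwLift g.left 0 g.left (fun _ => 𝟙 _) fun _ => Category.id_comp _)
    ((Category.assoc _ _ _).symm.trans ((congrArg (· ≫ V.hom) (pwLift_hom _ _ _ _ _)).trans
      (MorphismProperty.Over.w g)))
  have hee : e' ≫ e = 𝟙 W := MorphismProperty.Over.Hom.ext
    (pwLift_pr g.left 0 g.left (fun _ => 𝟙 _) (fun _ => Category.id_comp _) 0)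
  let τ := S.X₂.obj.map e.op t₀
  have hgτ : S.g.hom.app _ τ = S.X₃.obj.map (powPHom g 0).op s := by
    rw [NatTrans.naturality_apply S.g.hom, htg, ← Functor.map_comp_apply, ← op_comp]
    rw [show e ≫ g = powPHom g 0 from MorphismProperty.Over.Hom.ext (pr_w g.left 0 0)]
  have hgc : S.g.hom.app _ (cob S.X₂.obj g 0 τ) = 0 := by
    rw [cob_natural, hgτ, cob, Fin.sum_univ_two, ← Functor.map_comp_apply,
      ← Functor.map_comp_apply, ← op_comp, ← op_comp]
    have e : ∀ j, powPδ g 0 j ≫ powPHom g 0 = powPHom g 1 := fun j =>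
      MorphismProperty.Over.Hom.ext (pwδ_hom g.left 0 j)
    rw [e, e]
    simp
  obtain ⟨c, hc⟩ := hex _ _ hgc
  obtain ⟨b, hb⟩ := h 0 c (hinj _ (by
    change S.f.hom.app _ (cob S.X₁.obj g 1 c) = _
    rw [cob_natural, hc, cob_cob, map_zero]))
  let τ' := τ - S.f.hom.app _ b
  have hτ' : cob S.X₂.obj g 0 τ' = 0 := by
    rw [cob_sub, ← cob_natural, ← hc]
    exact sub_eq_zero.2 (congrArg _ hb.symm)
  have hgf : ∀ (U : X.ProEtᵒᵖ) y, S.g.hom.app U (S.f.hom.app U y) = 0 := fun U y =>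
    congrArg (fun m => m.hom.app U y) S.zero
  have hgτ' : S.g.hom.app _ τ' = S.X₃.obj.map (powPHom g 0).op s := by
    rw [map_sub, hgf, sub_zero, hgτ]
  have hs2 := (Presieve.isSheafFor_iff_generate _).2 (h2 _ hcovg)
  rw [Presieve.isSheafFor_singleton] at hs2
  obtain ⟨σ, hσ, -⟩ := hs2 (S.X₂.obj.map e'.op τ') (fun {Z} a b hab => by
    have hab' : ∀ i, (![a.left, b.left] : Fin 2 → (Z.left ⟶ W.left)) i ≫ g.left = (a ≫ g).left :=
      Fin.forall_fin_two.2 ⟨rfl, (congrArg (fun m => m.left) hab).symm⟩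
    let l : Z ⟶ powP g 1 := MorphismProperty.Over.homMk
      (pwLift g.left 1 (a ≫ g).left ![a.left, b.left] hab')
      ((Category.assoc _ _ _).symm.trans ((congrArg (· ≫ V.hom) (pwLift_hom _ _ _ _ _)).trans
        (MorphismProperty.Over.w (a ≫ g))))
    have hl : ∀ j : Fin 2, l ≫ powPδ g 0 j = (![b, a] : Fin 2 → (Z ⟶ W)) j ≫ e' := by
      intro j
      refine MorphismProperty.Over.Hom.ext (pw_hom_ext g.left 0 _ _ fun x => ?_)
      refine (Category.assoc _ _ _).trans ((congrArg (l.left ≫ ·) (pwδ_pr g.left 0 j x)).trans ?_)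
      refine Eq.trans ?_ ((Category.assoc _ _ _).trans (congrArg (_ ≫ ·)
        (pwLift_pr g.left 0 g.left (fun _ => 𝟙 _) (fun _ => Category.id_comp _) x))).symm
      refine (pwLift_pr g.left 1 (a ≫ g).left ![a.left, b.left] hab' (j.succAbove x)).trans (Eq.trans ?_ (Category.comp_id _).symm)
      fin_cases x
      fin_cases j <;> rfl
    change S.X₂.obj.map a.op _ = S.X₂.obj.map b.op _
    have h1 : cob S.X₂.obj g 0 τ' =
        S.X₂.obj.map (powPδ g 0 0).op τ' - S.X₂.obj.map (powPδ g 0 1).op τ' := by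
      simp [cob, Fin.sum_univ_succ]
      abel
    rw [h1, sub_eq_zero] at hτ'
    have h0 := congrArg (S.X₂.obj.map l.op) hτ'
    rw [← Functor.map_comp_apply, ← Functor.map_comp_apply, ← op_comp, ← op_comp, hl, hl] at h0
    rw [← Functor.map_comp_apply, ← Functor.map_comp_apply, ← op_comp, ← op_comp]
    exact h0.symm)
  refine ⟨σ, (h3 _ hcovg).isSeparatedFor.ext ?_⟩
  rintro Y q ⟨Y', a, _, ⟨⟩, rfl⟩
  change S.X₃.obj.map (a ≫ g).op (S.g.hom.app _ σ) = S.X₃.obj.map (a ≫ g).op s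
  rw [op_comp, Functor.map_comp_apply, Functor.map_comp_apply]
  refine congrArg _ ?_
  rw [← NatTrans.naturality_apply S.g.hom, show S.X₂.obj.map g.op σ = _ from hσ,
    NatTrans.naturality_apply S.g.hom, hgτ', ← Functor.map_comp_apply, ← op_comp]
  rw [show e' ≫ powPHom g 0 = g from MorphismProperty.Over.Hom.ext
    (pwLift_hom g.left 0 g.left (fun _ => 𝟙 _) fun _ => Category.id_comp _)]

/-- Sections map onto the sections of a quotient by an acyclic sheaf, on ind-etale objects. -/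
theorem Acyc.surjective {S : ShortComplex (ProEtS.AbP X)} (hS : S.ShortExact) (h : Acyc S.X₁)
    {V : X.ProEt} (hV : IE V) : Function.Surjective (S.g.hom.app (op V)) := by
  intro s
  let J := Scheme.ProEt.topology X
  have := hV.isAffine
  have : Epi S.g := hS.epi_g
  have hls : Sheaf.IsLocallySurjective S.g := (Sheaf.isLocallySurjective_iff_epi' _ S.g).2 ‹_›
  obtain ⟨W, g, hg, hsurj, n, O, hdisj, hcovO, hO⟩ :=
    exists_relIE_refinement (Presheaf.imageSieve_mem J S.g.hom (U := op V) s)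
  have := hg.isAffine_src
  choose t ht using hO
  have h2 := (isSheaf_iff_isSheaf_of_type _ _).1
    ((sheafCompose J (forget AddCommGrpCat.{u + 1})).obj S.X₂).property
  have h3 := (isSheaf_iff_isSheaf_of_type _ _).1
    ((sheafCompose J (forget AddCommGrpCat.{u + 1})).obj S.X₃).property
  obtain ⟨t₀, ht₀⟩ := (ProEt.bijective_of_decomposition h2 O hdisj hcovO).2 t
  have htg : S.g.hom.app (op W) t₀ = S.X₃.obj.map g.op s := by
    refine (ProEt.bijective_of_decomposition h3 O hdisj hcovO).1 (funext fun k => ?_)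
    change S.X₃.obj.map (ProEt.openHom (O k)).op (S.g.hom.app (op W) t₀) =
      S.X₃.obj.map (ProEt.openHom (O k)).op (S.X₃.obj.map g.op s)
    rw [← NatTrans.naturality_apply S.g.hom,
      show S.X₂.obj.map (ProEt.openHom (O k)).op t₀ = t k from congrFun ht₀ k,
      ← Functor.map_comp_apply, ← op_comp]
    exact ht k
  exact exists_lift_of_cech hS g (ProEt.singleton_mem_topology g) (h g hg hV) s t₀ htg

/-- The quotient of an acyclic sheaf by an acyclic one is acyclic. -/
theorem Acyc.right {S : ShortComplex (ProEtS.AbP X)} (hS : S.ShortExact) (h₁ : Acyc S.X₁)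
    (h₂ : Acyc S.X₂) : Acyc S.X₃ := by
  intro W V g hg hV n c hc
  let J := Scheme.ProEt.topology X
  have : Mono S.f := hS.mono_f
  have hinj : ∀ U, Function.Injective (S.f.hom.app U) := fun U =>
    (AddCommGrpCat.mono_iff_injective _).1
      (inferInstanceAs (Mono (((sheafToPresheaf J AddCommGrpCat.{u + 1}).map S.f).app U)))
  have hex : ∀ (U : X.ProEtᵒᵖ) (x : S.X₂.obj.obj U), S.g.hom.app U x = 0 →
      ∃ y, S.f.hom.app U y = x := fun U x hx =>
    (ShortComplex.ab_exact_iff_function_exact _).1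
      ((hS.exact.map_of_mono_of_preservesKernel
        (sheafToPresheaf J AddCommGrpCat.{u + 1} ⋙ (evaluation _ _).obj U) hS.mono_f
          inferInstance)) x |>.1 hx
  obtain ⟨t, rfl⟩ := Acyc.surjective hS h₁ (IE.of_relIE (hg.powPHom (n + 1)) hV) c
  have hc' : S.g.hom.app _ (cob S.X₂.obj g (n + 1) t) = 0 := (cob_natural S.g.hom g _ t).trans hc
  obtain ⟨c₁, hc₁⟩ := hex _ _ hc'
  obtain ⟨b₁, hb₁⟩ := h₁ g hg hV (n + 1) c₁ (hinj _ (by
    change S.f.hom.app _ (cob S.X₁.obj g (n + 2) c₁) = _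
    rw [cob_natural, hc₁, cob_cob, map_zero]))
  obtain ⟨b, hb⟩ := h₂ g hg hV n (t - S.f.hom.app _ b₁) (by
    change cob S.X₂.obj g (n + 1) _ = 0
    rw [cob_sub, ← cob_natural, ← hc₁]
    exact sub_eq_zero.2 (congrArg _ hb₁.symm))
  refine ⟨S.g.hom.app _ b, ?_⟩
  change cob S.X₃.obj g n _ = _
  rw [← cob_natural, show cob S.X₂.obj g n b = _ from hb, map_sub,
    show S.g.hom.app _ (S.f.hom.app _ b₁) = 0 from congrArg (fun m => m.hom.app _ b₁) S.zero,
    sub_zero]

end Groth.EtaleDeep.Eps
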