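import Groth.Agent.EtaleDeep.Eps.Tower
import Groth.Agent.EtaleBase.AffineCriterion

/-!
# The unit of `ε⁻¹ ⊣ ε_*`
-/

set_option autoImplicit false
set_option backward.isDefEq.respectTransparency.types false
set_option linter.style.haveILetI false

universe u

open CategoryTheory CategoryTheory.Limits AlgebraicGeometry Opposite

namespace Groth.EtaleDeep.Eps

variable {X : Scheme.{u}}

/-- A morphism of etale sheaves bijective on affine objects is an isomorphism. -/
theorem isIso_of_bijective_affine {F G : EtCoh.Ab X} (φ : F ⟶ G)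
    (h : ∀ E : X.Etale, IsAffine E.left → Function.Bijective (φ.hom.app (op E))) : IsIso φ := by
  have hF := (isSheaf_iff_isSheaf_of_type _ _).1
    ((sheafCompose X.smallEtaleTopology (forget AddCommGrpCat.{u + 1})).obj F).property
  have hG := (isSheaf_iff_isSheaf_of_type _ _).1
    ((sheafCompose X.smallEtaleTopology (forget AddCommGrpCat.{u + 1})).obj G).property
  suffices ∀ T, Function.Bijective (φ.hom.app (op T)) by
    have : ∀ T, IsIso (φ.hom.app T) := fun T =>
      (ConcreteCategory.isIso_iff_bijective _).2 (this T.unop)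
    have : IsIso ((sheafToPresheaf _ _).map φ) := NatIso.isIso_of_isIso_app φ.hom
    exact isIso_of_reflects_iso φ (sheafToPresheaf _ _)
  have hcov : ∀ T : X.Etale, Sieve.generate (Presieve.ofArrows
      (fun W : T.left.affineOpens => EtaleBase.openObj T W.1) fun W => EtaleBase.openHom T W.1) ∈
        X.smallEtaleTopology T := fun T => by
    rw [EtaleBase.mem_topology_iff]
    intro x
    obtain ⟨_, ⟨W, hW, rfl⟩, hx, -⟩ :=
      T.left.isBasis_affineOpens.exists_subset_of_mem_open (Set.mem_univ x) isOpen_univ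
    exact ⟨_, EtaleBase.openHom T W, (⟨x, hx⟩ : W),
      Sieve.le_generate _ _ _ (Presieve.ofArrows.mk (⟨W, hW⟩ : T.left.affineOpens)), rfl⟩
  have hinj : ∀ T, Function.Injective (φ.hom.app (op T)) := fun T x y hxy => by
    refine (hF _ (hcov T)).isSeparatedFor.ext ?_
    rintro Y q ⟨Y', a, b, ⟨k⟩, rfl⟩
    change F.obj.map (a ≫ EtaleBase.openHom T k.1).op x = F.obj.map (a ≫ EtaleBase.openHom T k.1).op y
    rw [op_comp, Functor.map_comp_apply, Functor.map_comp_apply]
    refine congrArg _ ((h (EtaleBase.openObj T k.1) k.2).1 ?_)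
    rw [NatTrans.naturality_apply φ.hom, NatTrans.naturality_apply φ.hom, hxy]
  intro T
  refine ⟨hinj T, fun s => ?_⟩
  choose t ht using fun k : T.left.affineOpens =>
    (h (EtaleBase.openObj T k.1) k.2).2 (G.obj.map (EtaleBase.openHom T k.1).op s)
  have hs := (Presieve.isSheafFor_iff_generate _).2 (hF _ (hcov T))
  rw [Presieve.isSheafFor_arrows_iff] at hs
  obtain ⟨x, hx, -⟩ := hs t fun k l Y a b hab => hinj Y (by
    change φ.hom.app _ (F.obj.map a.op (t k)) = φ.hom.app _ (F.obj.map b.op (t l))
    rw [NatTrans.naturality_apply φ.hom, NatTrans.naturality_apply φ.hom, ht, ht,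
      ← Functor.map_comp_apply, ← Functor.map_comp_apply, ← op_comp, ← op_comp, hab])
  refine ⟨x, (hG _ (hcov T)).isSeparatedFor.ext ?_⟩
  rintro Y q ⟨Y', a, b, ⟨k⟩, rfl⟩
  change G.obj.map (a ≫ EtaleBase.openHom T k.1).op (φ.hom.app _ x) =
    G.obj.map (a ≫ EtaleBase.openHom T k.1).op s
  rw [op_comp, Functor.map_comp_apply, Functor.map_comp_apply]
  refine congrArg _ ?_
  rw [← NatTrans.naturality_apply φ.hom,
    show F.obj.map (EtaleBase.openHom T k.1).op x = t k from hx k]
  exact ht k

variable [ProEtS.EpsCont X] (F : EtCoh.Ab X)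

/-- `ε⁻¹F` is the sheafification of the presheaf inverse image. -/
noncomputable def epsIso :
    (ProEtS.epsPull X).obj F ≅
      (presheafToSheaf (Scheme.ProEt.topology X) AddCommGrpCat.{u + 1}).obj (lanObj F.obj) :=
  ((ProEtS.epsAdj X).leftAdjointUniq
    (Functor.sheafPullbackConstruction.sheafAdjunctionContinuous (ProEtS.eps X)
      AddCommGrpCat.{u + 1} X.smallEtaleTopology (Scheme.ProEt.topology X))).app F

/-- The sections of `ε⁻¹F` given by germs. -/
noncomputable def sec {W : X.ProEt} (E : X.Etale) (a : W ⟶ (ProEtS.eps X).obj E)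
    (s : F.obj.obj (op E)) : ((ProEtS.epsPull X).obj F).obj.obj (op W) :=
  ((ProEtS.epsPull X).obj F).obj.map a.op (((ProEtS.epsAdj X).unit.app F).hom.app (op E) s)

theorem epsIso_sec {W : X.ProEt} (E : X.Etale) (a : W ⟶ (ProEtS.eps X).obj E)
    (s : F.obj.obj (op E)) :
    (epsIso F).hom.hom.app (op W) (sec F E a s) =
      (toSheafify (Scheme.ProEt.topology X) (lanObj F.obj)).app (op W) (germ F.obj E a s) := by
  let J := Scheme.ProEt.topology X
  let adj₂ := Functor.sheafPullbackConstruction.sheafAdjunctionContinuous (ProEtS.eps X)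
    AddCommGrpCat.{u + 1} X.smallEtaleTopology J
  have hunit : (adj₂.unit.app F).hom =
      (ProEtS.eps X).op.leftKanExtensionUnit F.obj ≫
        Functor.whiskerLeft (ProEtS.eps X).op (toSheafify J (lanObj F.obj)) := by
    have h := Adjunction.map_restrictFullyFaithful_unit_app
      (((ProEtS.eps X).op.lanAdjunction AddCommGrpCat.{u + 1}).comp
        (sheafificationAdjunction J AddCommGrpCat.{u + 1}))
      (fullyFaithfulSheafToPresheaf X.smallEtaleTopology AddCommGrpCat.{u + 1})
      (Functor.FullyFaithful.id _) (L := Functor.sheafPullbackConstruction.sheafPullback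
        (ProEtS.eps X) AddCommGrpCat.{u + 1} X.smallEtaleTopology J)
      (R := ProEtS.epsPush X) (Iso.refl _) (Iso.refl _) F
    refine h.trans ?_
    simp [Adjunction.comp_unit_app]
    rfl
  have h1 : (ProEtS.epsAdj X).unit.app F ≫ (ProEtS.epsPush X).map (epsIso F).hom =
      adj₂.unit.app F := Adjunction.unit_leftAdjointUniq_hom_app _ _ F
  have h2 := congrArg (fun m => m.hom.app (op E) s) h1
  rw [sec, NatTrans.naturality_apply (epsIso F).hom.hom, germ,
    NatTrans.naturality_apply (toSheafify (Scheme.ProEt.topology X) (lanObj F.obj))]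
  refine congrArg _ (h2.trans ?_)
  exact congrArg (fun m => m.app (op E) s) hunit

theorem bijective_epsIso (W : X.ProEt) :
    Function.Bijective ((epsIso F).hom.hom.app (op W)) :=
  (ConcreteCategory.isIso_iff_bijective _).1
    (inferInstanceAs (IsIso (((sheafToPresheaf _ _).map (epsIso F).hom).app (op W))))

/-- Every section of `ε⁻¹F` over a tower comes from a germ. -/
theorem Tower.exists_sec {V : X.ProEt} (T : Tower V)
    (x : ((ProEtS.epsPull X).obj F).obj.obj (op V)) :
    ∃ (E : X.Etale) (a : V ⟶ (ProEtS.eps X).obj E) (s : F.obj.obj (op E)), sec F E a s = x := by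
  obtain ⟨g, hg⟩ := (T.bijective_toSheafify F).2 ((epsIso F).hom.hom.app (op V) x)
  obtain ⟨E, a, s, rfl⟩ := exists_germ F.obj g
  exact ⟨E, a, s, (bijective_epsIso F V).1 ((epsIso_sec F E a s).trans hg)⟩

/-- The unit is bijective on affine objects. -/
theorem bijective_unit_app (E : X.Etale) [IsAffine E.left] :
    Function.Bijective (((ProEtS.epsAdj X).unit.app F).hom.app (op E)) := by
  have key : ∀ s, (epsIso F).hom.hom.app (op ((ProEtS.eps X).obj E))
      (((ProEtS.epsAdj X).unit.app F).hom.app (op E) s) =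
      (toSheafify (Scheme.ProEt.topology X) (lanObj F.obj)).app (op ((ProEtS.eps X).obj E))
        (germ F.obj E (𝟙 _) s) := by
    intro s
    rw [← epsIso_sec, sec, op_id]
    exact congrArg _ (Functor.map_id_apply _ _ _).symm
  have h : Function.Bijective (fun s => (epsIso F).hom.hom.app (op ((ProEtS.eps X).obj E))
      (((ProEtS.epsAdj X).unit.app F).hom.app (op E) s)) := by
    simp only [key]
    exact ((Tower.ofEtale E).bijective_toSheafify F).comp (bijective_germ_id F E)
  exact ((bijective_epsIso F _).of_comp_iff' _).1 h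

/-- `F → ε_*ε⁻¹F` is an isomorphism. -/
theorem isIso_unit_app : IsIso ((ProEtS.epsAdj X).unit.app F) :=
  isIso_of_bijective_affine _ fun E hE => by
    have := hE
    exact bijective_unit_app F E

end Groth.EtaleDeep.Eps
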