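import Groth.Agent.EtaleDeep.Eps.Nerve
import Groth.Agent.EtaleDeep.Eps.Unit
import Groth.Agent.EtaleBase.CechInjective

/-!
# Čech complexes of inverse images
-/

set_option autoImplicit false
set_option backward.isDefEq.respectTransparency.types false
set_option linter.style.haveILetI false

universe u

open CategoryTheory CategoryTheory.Limits AlgebraicGeometry Opposite

namespace Groth.EtaleDeep.Eps

theorem pw_mem {P : MorphismProperty Scheme.{u}} [P.IsStableUnderBaseChange]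
    [P.IsStableUnderComposition] {W V : Scheme.{u}} (g : W ⟶ V) (hg : P g) :
    ∀ n, P (pw g n).hom
  | 0 => hg
  | n + 1 => P.comp_mem _ _ (P.pullback_fst _ _ hg) (pw_mem g hg n)

theorem isAffine_pw {W V : Scheme.{u}} (g : W ⟶ V) [IsAffine W] [IsAffine V] :
    ∀ n, IsAffine (pw g n).left
  | 0 => ‹IsAffine W›
  | n + 1 => by
    have := isAffine_pw g n
    exact inferInstanceAs (IsAffine (pullback (pw g n).hom g))

/-- Čech exactness in positive degrees for a presheaf on abstract face data. -/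
def CechExact {C : Type*} [Category C] (P : Cᵒᵖ ⥤ AddCommGrpCat.{u + 1}) (N : ℕ → C)
    (δ : ∀ n, Fin (n + 2) → (N (n + 1) ⟶ N n)) : Prop :=
  ∀ (n : ℕ) (c : P.obj (op (N (n + 1)))),
    (∑ j : Fin (n + 3), (-1 : ℤ) ^ (j : ℕ) • P.map (δ (n + 1) j).op c) = 0 →
      ∃ b : P.obj (op (N n)), (∑ j : Fin (n + 2), (-1 : ℤ) ^ (j : ℕ) • P.map (δ n j).op b) = c

variable {X : Scheme.{u}}

/-- The fibre powers in the pro-etale site. -/
noncomputable def powP {W V : X.ProEt} (g : W ⟶ V) (n : ℕ) : X.ProEt :=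
  haveI : WeaklyEtale ((pw g.left n).hom ≫ V.hom) :=
    MorphismProperty.comp_mem @WeaklyEtale _ _
      (pw_mem g.left (ProEt.weaklyEtale_left g) n) V.prop
  Scheme.ProEt.mk ((pw g.left n).hom ≫ V.hom)

/-- The faces in the pro-etale site. -/
noncomputable def powPδ {W V : X.ProEt} (g : W ⟶ V) (n : ℕ) (j : Fin (n + 2)) :
    powP g (n + 1) ⟶ powP g n :=
  MorphismProperty.Over.homMk (pwδ g.left n j)
    ((Category.assoc _ _ _).symm.trans (congrArg (· ≫ V.hom) (pwδ_hom g.left n j)))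

/-- Čech exactness for an arrow of the pro-etale site. -/
def CechExactP (P : X.ProEtᵒᵖ ⥤ AddCommGrpCat.{u + 1}) {W V : X.ProEt} (g : W ⟶ V) : Prop :=
  CechExact P (powP g) (powPδ g)

/-- The fibre powers in the etale site. -/
noncomputable def powE {E' E : X.Etale} (q : E' ⟶ E) (n : ℕ) : X.Etale :=
  haveI : Etale ((pw q.left n).hom ≫ E.hom) :=
    MorphismProperty.comp_mem @Etale _ _
      (pw_mem q.left (show Etale q.left from inferInstance) n) E.prop
  Scheme.Etale.mk ((pw q.left n).hom ≫ E.hom)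

/-- The faces in the etale site. -/
noncomputable def powEδ {E' E : X.Etale} (q : E' ⟶ E) (n : ℕ) (j : Fin (n + 2)) :
    powE q (n + 1) ⟶ powE q n :=
  MorphismProperty.Over.homMk (pwδ q.left n j)
    ((Category.assoc _ _ _).symm.trans (congrArg (· ≫ E.hom) (pwδ_hom q.left n j)))

/-- Projections in the etale site. -/
noncomputable def powEpr {E' E : X.Etale} (q : E' ⟶ E) (n : ℕ) (a : Fin (n + 1)) :
    powE q n ⟶ E' :=
  MorphismProperty.Over.homMk (pr q.left n a)
    ((congrArg (pr q.left n a ≫ ·) (MorphismProperty.Over.w q).symm).trans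
      ((Category.assoc _ _ _).symm.trans (congrArg (· ≫ E.hom) (pr_w q.left n a))))

theorem sheafToPresheaf_injective (I : EtCoh.Ab X) [Injective I] : Injective I.obj :=
  Injective.injective_of_adjoint
    (sheafificationAdjunction X.smallEtaleTopology AddCommGrpCat.{u + 1}) I

open EtaleBase.CechInj in
/-- Čech exactness of injective presheaves on the etale site. -/
theorem cechExact_injective (P : X.Etaleᵒᵖ ⥤ AddCommGrpCat.{u + 1}) [Injective P]
    {E' E : X.Etale} (q : E' ⟶ E) : CechExact P (powE q) (powEδ q) := by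
  have : HasFiniteProducts (Over E) := by
    have : HasPullbacks X.Etale := inferInstance
    exact hasFiniteProducts_of_has_binary_and_terminal
  let Uf : PUnit.{u + 2} → Over E := fun _ => Over.mk q
  let σ : ∀ n, Fin (n + 1) → PUnit.{u + 2} := fun n _ => PUnit.unit
  have hσ : ∀ n (τ : Fin (n + 1) → PUnit.{u + 2}), τ = σ n := fun n τ => rfl
  have hpr : ∀ n (a : Fin (n + 1)), proj (Uf := Uf) (σ n) a ≫ q = (∏ᶜ (Uf ∘ σ n)).hom :=
    fun n a => proj_hom (Uf := Uf) (σ n) a
  let θ : ∀ n, W (Uf := Uf) (σ n) ⟶ powE q n := fun n => MorphismProperty.Over.homMk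
    (pwLift q.left n (∏ᶜ (Uf ∘ σ n)).hom.left (fun a => (proj (Uf := Uf) (σ n) a).left)
      fun a => congrArg (fun m => m.left) (hpr n a))
    ((Category.assoc _ _ _).symm.trans ((congrArg (· ≫ E.hom) (pwLift_hom _ _ _ _ _)).trans
      (MorphismProperty.Over.w (∏ᶜ (Uf ∘ σ n)).hom)))
  have hθ : ∀ n a, θ n ≫ powEpr q n a = proj (Uf := Uf) (σ n) a := fun n a =>
    MorphismProperty.Over.Hom.ext (pwLift_pr q.left n (∏ᶜ (Uf ∘ σ n)).hom.left
      (fun a => (proj (Uf := Uf) (σ n) a).left) (fun a => congrArg (fun m => m.left) (hpr n a)) a)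
  have hext : ∀ n {Z : X.Etale} (f f' : Z ⟶ powE q n),
      (∀ a, f ≫ powEpr q n a = f' ≫ powEpr q n a) → f = f' := fun n Z f f' h =>
    MorphismProperty.Over.Hom.ext (pw_hom_ext q.left n _ _ fun a => congrArg (fun m => m.left) (h a))
  have hq : ∀ n a, powEpr q n a ≫ q =
      (powEpr q n 0 ≫ q) := fun n a => MorphismProperty.Over.Hom.ext
    ((pr_w q.left n a).trans (pr_w q.left n 0).symm)
  let θ' : ∀ n, powE q n ⟶ W (Uf := Uf) (σ n) := fun n =>
    (Pi.lift fun a => (Over.homMk (powEpr q n a) (hq n a) :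
      Over.mk (powEpr q n 0 ≫ q) ⟶ (Uf ∘ σ n) a)).left
  have hθ' : ∀ n a, θ' n ≫ proj (Uf := Uf) (σ n) a = powEpr q n a := fun n a =>
    congrArg CommaMorphism.left (Pi.lift_π (fun a => (Over.homMk (powEpr q n a) (hq n a) :
      Over.mk (powEpr q n 0 ≫ q) ⟶ (Uf ∘ σ n) a)) a)
  have hθθ : ∀ n, θ' n ≫ θ n = 𝟙 _ := fun n => hext n _ _ fun a => by
    rw [Category.assoc, hθ, hθ', Category.id_comp]
  have hδ : ∀ n (j : Fin (n + 2)) (a : Fin (n + 1)),
      powEδ q n j ≫ powEpr q n a = powEpr q (n + 1) (j.succAbove a) := fun n j a =>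
    MorphismProperty.Over.Hom.ext (pwδ_pr q.left n j a)
  have hθδ : ∀ n (j : Fin (n + 2)),
      δW (Uf := Uf) (σ (n + 1)) j ≫ θ n = θ (n + 1) ≫ powEδ q n j := fun n j =>
    hext n _ _ fun a => by
      rw [Category.assoc, Category.assoc, hθ, hδ, hθ]
      exact δW_proj (σ (n + 1)) j a
  have hθ'δ : ∀ n (j : Fin (n + 2)),
      θ' (n + 1) ≫ δW (Uf := Uf) (σ (n + 1)) j = powEδ q n j ≫ θ' n := fun n j =>
    EtaleBase.CechInj.hom_ext (σ n) _ _ fun a => by
      rw [Category.assoc, Category.assoc, hθ', hδ]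
      exact (congrArg (θ' (n + 1) ≫ ·) (δW_proj (σ (n + 1)) j a)).trans (hθ' (n + 1) _)
  intro n c hc
  obtain ⟨b, hb⟩ := exists_coboundary_eq (Uf := Uf) P (n := n)
    (fun _ => P.map (θ (n + 1)).op c) (funext fun τ => by
      rw [hσ _ τ]
      change (∑ j : Fin (n + 3), (-1 : ℤ) ^ (j : ℕ) • P.map (δW (σ (n + 2)) j).op (P.map (θ (n + 1)).op c)) = 0
      have h := congrArg (P.map (θ (n + 2)).op) hc
      rw [map_zero, map_sum] at h
      refine Eq.trans (Finset.sum_congr rfl fun j _ => ?_) h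
      rw [map_zsmul, ← Functor.map_comp_apply, ← Functor.map_comp_apply, ← op_comp, ← op_comp, hθδ])
  refine ⟨P.map (θ' n).op (b (σ n)), ?_⟩
  have h := congrArg (P.map (θ' (n + 1)).op) (congrFun hb (σ (n + 1)))
  rw [← Functor.map_comp_apply, ← op_comp, hθθ, op_id, Functor.map_id_apply] at h
  refine Eq.trans ?_ h
  change _ = P.map (θ' (n + 1)).op (∑ j : Fin (n + 2), (-1 : ℤ) ^ (j : ℕ) • P.map (δW (σ (n + 1)) j).op (b (σ n)))
  rw [map_sum]
  refine Finset.sum_congr rfl fun j _ => ?_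
  rw [map_zsmul, ← Functor.map_comp_apply, ← Functor.map_comp_apply, ← op_comp, ← op_comp, hθ'δ]

end Groth.EtaleDeep.Eps
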