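import Groth.Agent.EtaleDeep.Eps.Derived

/-!
# Continuity of the inverse image along limits with affine transition maps
-/

set_option autoImplicit false
set_option backward.isDefEq.respectTransparency.types false
set_option backward.isDefEq.respectTransparency false
set_option linter.style.haveILetI false

universe u

open CategoryTheory CategoryTheory.Limits AlgebraicGeometry Opposite

namespace Groth.EtaleDeep.Eps

variable {X : Scheme.{u}}

/-- A finite jointly surjective family of affine objects covers a quasi-separated object. -/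
theorem affine_family_mem_topology_of_qs {ι : Type u} [Finite ι] {U : X.ProEt}
    [QuasiSeparatedSpace U.left] (V : ι → X.ProEt) (g : ∀ i, V i ⟶ U) [∀ i, IsAffine (V i).left]
    (hcov : ∀ x : U.left, ∃ i, x ∈ Set.range (g i).left) :
    Sieve.generate (Presieve.ofArrows V g) ∈ Scheme.ProEt.topology X U := by
  refine ProEt.mem_topology_of_mem_precoverage V g ?_
  let 𝒰 : U.left.Cover (Scheme.precoverage @WeaklyEtale) :=
    { I₀ := ι
      X := fun i => (V i).left
      f := fun i => (g i).left
      mem₀ := by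
        rw [Scheme.presieve₀_mem_precoverage_iff]
        exact ⟨hcov, fun i => ProEt.weaklyEtale_left (g i)⟩ }
  have : Finite 𝒰.I₀ := ‹Finite ι›
  have : ∀ i, QuasiCompact (𝒰.f i) := fun i =>
    have : CompactSpace ↥(V i).left := inferInstance
    (inferInstance : QuasiCompact (g i).left)
  exact ⟨(Scheme.presieve₀_mem_qcPrecoverage_iff (E := 𝒰.toPreZeroHypercover)).2
    QuasiCompactCover.of_finite, 𝒰.mem₀⟩

variable {K : Type u} [SmallCategory K] [IsCofiltered K] {V : X.ProEt} (S : LimSys K V)

namespace LimSys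

variable {k : K} {W : X.ProEt} (g : W ⟶ S.D.obj k)

/-- The stages of the base change of a system. -/
noncomputable def bcObj (j : Over k) : X.ProEt :=
  haveI : WeaklyEtale (pullback.fst g.left (S.D.map j.hom).left ≫ W.hom) :=
    MorphismProperty.comp_mem @WeaklyEtale _ _
      (MorphismProperty.pullback_fst _ _ (ProEt.weaklyEtale_left (S.D.map j.hom))) W.prop
  Scheme.ProEt.mk (pullback.fst g.left (S.D.map j.hom).left ≫ W.hom)

/-- The limit of the base change of a system. -/
noncomputable def bcPt : X.ProEt :=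
  haveI : WeaklyEtale (pullback.fst g.left (S.π k).left ≫ W.hom) :=
    MorphismProperty.comp_mem @WeaklyEtale _ _
      (MorphismProperty.pullback_fst _ _ (ProEt.weaklyEtale_left (S.π k))) W.prop
  Scheme.ProEt.mk (pullback.fst g.left (S.π k).left ≫ W.hom)

/-- First projection of a stage. -/
noncomputable def bcFst (j : Over k) : S.bcObj g j ⟶ W :=
  MorphismProperty.Over.homMk (pullback.fst g.left (S.D.map j.hom).left) rfl

/-- Second projection of a stage. -/
noncomputable def bcSnd (j : Over k) : S.bcObj g j ⟶ S.D.obj j.left :=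
  MorphismProperty.Over.homMk (pullback.snd g.left (S.D.map j.hom).left) (by
    change pullback.snd _ _ ≫ (S.D.obj j.left).hom = pullback.fst _ _ ≫ W.hom
    rw [← MorphismProperty.Over.w (S.D.map j.hom), ← MorphismProperty.Over.w g]
    exact (pullback.condition_assoc (f := g.left) (g := (S.D.map j.hom).left) (S.D.obj k).hom).symm)

/-- First projection of the limit. -/
noncomputable def bcPtFst : S.bcPt g ⟶ W :=
  MorphismProperty.Over.homMk (pullback.fst g.left (S.π k).left) rfl

/-- Second projection of the limit. -/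
noncomputable def bcPtSnd : S.bcPt g ⟶ V :=
  MorphismProperty.Over.homMk (pullback.snd g.left (S.π k).left) (by
    change pullback.snd _ _ ≫ V.hom = pullback.fst _ _ ≫ W.hom
    rw [← MorphismProperty.Over.w (S.π k), ← MorphismProperty.Over.w g]
    exact (pullback.condition_assoc (f := g.left) (g := (S.π k).left) (S.D.obj k).hom).symm)

lemma bc_condition (j : Over k) : S.bcFst g j ≫ g = S.bcSnd g j ≫ S.D.map j.hom :=
  MorphismProperty.Over.Hom.ext pullback.condition

lemma bcPt_condition : S.bcPtFst g ≫ g = S.bcPtSnd g ≫ S.π k :=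
  MorphismProperty.Over.Hom.ext pullback.condition

lemma bc_hom_ext {j : Over k} {R : X.ProEt} {a b : R ⟶ S.bcObj g j}
    (h₁ : a ≫ S.bcFst g j = b ≫ S.bcFst g j) (h₂ : a ≫ S.bcSnd g j = b ≫ S.bcSnd g j) : a = b :=
  MorphismProperty.Over.Hom.ext (pullback.hom_ext (congrArg (fun m => m.left) h₁)
    (congrArg (fun m => m.left) h₂))

lemma bcPt_hom_ext {R : X.ProEt} {a b : R ⟶ S.bcPt g}
    (h₁ : a ≫ S.bcPtFst g = b ≫ S.bcPtFst g) (h₂ : a ≫ S.bcPtSnd g = b ≫ S.bcPtSnd g) : a = b :=
  MorphismProperty.Over.Hom.ext (pullback.hom_ext (congrArg (fun m => m.left) h₁)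
    (congrArg (fun m => m.left) h₂))

theorem bc_exists_lift {j : Over k} {R : X.ProEt} (a : R ⟶ W) (b : R ⟶ S.D.obj j.left)
    (h : a ≫ g = b ≫ S.D.map j.hom) :
    ∃ l : R ⟶ S.bcObj g j, l ≫ S.bcFst g j = a ∧ l ≫ S.bcSnd g j = b :=
  ⟨MorphismProperty.Over.homMk (pullback.lift a.left b.left (congrArg (fun m => m.left) h))
    ((pullback.lift_fst_assoc _ _ _ _).trans (MorphismProperty.Over.w a)),
    MorphismProperty.Over.Hom.ext (pullback.lift_fst _ _ _),
    MorphismProperty.Over.Hom.ext (pullback.lift_snd _ _ _)⟩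

theorem bcPt_exists_lift {R : X.ProEt} (a : R ⟶ W) (b : R ⟶ V) (h : a ≫ g = b ≫ S.π k) :
    ∃ l : R ⟶ S.bcPt g, l ≫ S.bcPtFst g = a ∧ l ≫ S.bcPtSnd g = b :=
  ⟨MorphismProperty.Over.homMk (pullback.lift a.left b.left (congrArg (fun m => m.left) h))
    ((pullback.lift_fst_assoc _ _ _ _).trans (MorphismProperty.Over.w a)),
    MorphismProperty.Over.Hom.ext (pullback.lift_fst _ _ _),
    MorphismProperty.Over.Hom.ext (pullback.lift_snd _ _ _)⟩

lemma bc_map_condition {i j : Over k} (f : i ⟶ j) :
    S.bcFst g i ≫ g = (S.bcSnd g i ≫ S.D.map f.left) ≫ S.D.map j.hom := by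
  rw [Category.assoc, ← Functor.map_comp, Over.w f, bc_condition]

/-- The transition maps of the base change of a system. -/
noncomputable def bcMap {i j : Over k} (f : i ⟶ j) : S.bcObj g i ⟶ S.bcObj g j :=
  (S.bc_exists_lift g (S.bcFst g i) (S.bcSnd g i ≫ S.D.map f.left)
    (S.bc_map_condition g f)).choose

lemma bcMap_fst {i j : Over k} (f : i ⟶ j) : S.bcMap g f ≫ S.bcFst g j = S.bcFst g i :=
  (S.bc_exists_lift g (S.bcFst g i) (S.bcSnd g i ≫ S.D.map f.left)
    (S.bc_map_condition g f)).choose_spec.1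

lemma bcMap_snd {i j : Over k} (f : i ⟶ j) :
    S.bcMap g f ≫ S.bcSnd g j = S.bcSnd g i ≫ S.D.map f.left :=
  (S.bc_exists_lift g (S.bcFst g i) (S.bcSnd g i ≫ S.D.map f.left)
    (S.bc_map_condition g f)).choose_spec.2

/-- The diagram of the base change of a system. -/
noncomputable abbrev bcD : Over k ⥤ X.ProEt where
  obj := S.bcObj g
  map f := S.bcMap g f
  map_id j := by
    refine S.bc_hom_ext g ?_ ?_
    · rw [bcMap_fst, Category.id_comp]
    · rw [bcMap_snd, Category.id_comp]
      exact (congrArg (S.bcSnd g j ≫ ·) (S.D.map_id j.left)).trans (Category.comp_id _)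
  map_comp f f' := by
    refine S.bc_hom_ext g ?_ ?_
    · rw [bcMap_fst, Category.assoc, bcMap_fst, bcMap_fst]
    · rw [bcMap_snd, Category.assoc, bcMap_snd, ← Category.assoc, bcMap_snd, Category.assoc,
        Over.comp_left, Functor.map_comp]

lemma bcD_map_fst {i j : Over k} (f : i ⟶ j) : (S.bcD g).map f ≫ S.bcFst g j = S.bcFst g i :=
  S.bcMap_fst g f

lemma bcD_map_snd {i j : Over k} (f : i ⟶ j) :
    (S.bcD g).map f ≫ S.bcSnd g j = S.bcSnd g i ≫ S.D.map f.left :=
  S.bcMap_snd g f

lemma bcπ_condition (j : Over k) :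
    S.bcPtFst g ≫ g = (S.bcPtSnd g ≫ S.π j.left) ≫ S.D.map j.hom := by
  rw [Category.assoc, S.π_w, bcPt_condition]

/-- The projections of the base change of a system. -/
noncomputable def bcπ (j : Over k) : S.bcPt g ⟶ S.bcObj g j :=
  (S.bc_exists_lift g (S.bcPtFst g) (S.bcPtSnd g ≫ S.π j.left) (S.bcπ_condition g j)).choose

lemma bcπ_fst (j : Over k) : S.bcπ g j ≫ S.bcFst g j = S.bcPtFst g :=
  (S.bc_exists_lift g (S.bcPtFst g) (S.bcPtSnd g ≫ S.π j.left) (S.bcπ_condition g j)).choose_spec.1

lemma bcπ_snd (j : Over k) : S.bcπ g j ≫ S.bcSnd g j = S.bcPtSnd g ≫ S.π j.left :=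
  (S.bc_exists_lift g (S.bcPtFst g) (S.bcPtSnd g ≫ S.π j.left) (S.bcπ_condition g j)).choose_spec.2

lemma bcπ_w {i j : Over k} (f : i ⟶ j) : S.bcπ g i ≫ (S.bcD g).map f = S.bcπ g j :=
  S.bc_hom_ext g (by rw [Category.assoc, bcD_map_fst, bcπ_fst, bcπ_fst])
    (by rw [Category.assoc, bcD_map_snd, ← Category.assoc, bcπ_snd, Category.assoc, S.π_w, bcπ_snd])

lemma isAffineHom_bcD {i j : Over k} (f : i ⟶ j) : IsAffineHom ((S.bcD g).map f).left := by
  have : IsAffineHom (S.D.map i.hom).left := S.affineHom i.hom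
  have : IsAffineHom (S.D.map j.hom).left := S.affineHom j.hom
  have : IsAffineHom ((S.bcD g).map f ≫ S.bcFst g j).left := by
    rw [bcD_map_fst]
    exact MorphismProperty.pullback_fst (P := @IsAffineHom) g.left (S.D.map i.hom).left ‹_›
  have : IsAffineHom (((S.bcD g).map f).left ≫ (S.bcFst g j).left) := this
  have : IsAffineHom (S.bcFst g j).left :=
    MorphismProperty.pullback_fst (P := @IsAffineHom) g.left (S.D.map j.hom).left ‹_›
  exact IsAffineHom.of_comp _ (S.bcFst g j).left

/-- The cone of schemes of the base change. -/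
noncomputable abbrev bcCone : Cone (S.bcD g ⋙ Scheme.ProEt.forget X ⋙ Over.forget X) where
  pt := (S.bcPt g).left
  π :=
    { app := fun j => (S.bcπ g j).left
      naturality := fun i j f => (Category.id_comp _).trans
        (congrArg (fun m => m.left) (S.bcπ_w g f)).symm }

/-- The base change of a system is a limit. -/
theorem nonempty_isLimit_bcCone : Nonempty (IsLimit (S.bcCone g)) := by
  let cV : Cone ((Over.forget k ⋙ S.D) ⋙ Scheme.ProEt.forget X ⋙ Over.forget X) :=
    { pt := V.left
      π :=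
        { app := fun j => (S.π j.left).left
          naturality := fun i j f => (Category.id_comp _).trans
            (congrArg (fun m => m.left) (S.π_w f.left)).symm } }
  let hV : IsLimit cV := IsLimit.ofIsoLimit
    ((Functor.Initial.isLimitWhiskerEquiv (Over.forget k) S.cone).symm S.isLimit)
    (Cone.ext (Iso.refl _) fun j => (Category.id_comp _).symm)
  let top : Over k := Over.mk (𝟙 k)
  let sv : Cone (S.bcD g ⋙ Scheme.ProEt.forget X ⋙ Over.forget X) →
      Cone ((Over.forget k ⋙ S.D) ⋙ Scheme.ProEt.forget X ⋙ Over.forget X) := fun s =>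
    { pt := s.pt
      π :=
        { app := fun j => s.π.app j ≫ (S.bcSnd g j).left
          naturality := fun i j f => by
            refine (Category.id_comp _).trans ?_
            refine (congrArg (· ≫ (S.bcSnd g j).left) (s.w f).symm).trans ?_
            refine (Category.assoc _ _ _).trans ((congrArg (s.π.app i ≫ ·)
              (congrArg (fun m => m.left) (S.bcD_map_snd g f))).trans ?_)
            exact (Category.assoc _ _ _).symm } }
  have hfst : ∀ (s : Cone (S.bcD g ⋙ Scheme.ProEt.forget X ⋙ Over.forget X)) (j : Over k),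
      s.π.app j ≫ (S.bcFst g j).left = s.π.app top ≫ (S.bcFst g top).left := fun s j => by
    refine Eq.trans ?_ (congrArg (· ≫ (S.bcFst g top).left) (s.w (Over.homMk j.hom : j ⟶ top)))
    exact ((Category.assoc _ _ _).trans (congrArg (s.π.app j ≫ ·)
      (congrArg (fun m => m.left) (S.bcD_map_fst g (Over.homMk j.hom : j ⟶ top))))).symm
  have hw : ∀ s : Cone (S.bcD g ⋙ Scheme.ProEt.forget X ⋙ Over.forget X),
      (s.π.app top ≫ (S.bcFst g top).left) ≫ g.left = hV.lift (sv s) ≫ (S.π k).left := fun s => by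
    refine (Category.assoc _ _ _).trans ?_
    refine Eq.trans ?_ (hV.fac (sv s) top).symm
    refine congrArg (s.π.app top ≫ ·) ?_
    exact (congrArg (fun m => m.left) (S.bc_condition g top)).trans
      ((congrArg ((S.bcSnd g top).left ≫ ·) (congrArg (fun m => m.left) (S.D.map_id k))).trans
        (Category.comp_id _))
  have hπ₁ : ∀ j, (S.bcπ g j).left ≫ (S.bcFst g j).left = pullback.fst g.left (S.π k).left :=
    fun j => congrArg (fun m => m.left) (S.bcπ_fst g j)
  have hπ₂ : ∀ j, (S.bcπ g j).left ≫ (S.bcSnd g j).left =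
      pullback.snd g.left (S.π k).left ≫ (S.π j.left).left :=
    fun j => congrArg (fun m => m.left) (S.bcπ_snd g j)
  exact ⟨{
    lift := fun s => pullback.lift _ _ (hw s)
    fac := fun s j => by
      refine pullback.hom_ext ?_ ?_
      · refine (Category.assoc _ _ _).trans ((congrArg (_ ≫ ·) (hπ₁ j)).trans ?_)
        exact (pullback.lift_fst _ _ _).trans (hfst s j).symm
      · refine (Category.assoc _ _ _).trans ((congrArg (_ ≫ ·) (hπ₂ j)).trans ?_)
        refine (Category.assoc _ _ _).symm.trans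
          ((congrArg (· ≫ _) (pullback.lift_snd _ _ _)).trans ?_)
        exact hV.fac (sv s) j
    uniq := fun s m hm => by
      refine pullback.hom_ext ?_ ?_
      · refine Eq.trans ?_ (pullback.lift_fst _ _ _).symm
        refine (congrArg (m ≫ ·) (hπ₁ top).symm).trans ?_
        exact (Category.assoc _ _ _).symm.trans (congrArg (· ≫ _) (hm top))
      · refine Eq.trans ?_ (pullback.lift_snd _ _ _).symm
        refine hV.hom_ext fun j => ?_
        refine Eq.trans ?_ (hV.fac (sv s) j).symm
        refine (Category.assoc _ _ _).trans ((congrArg (m ≫ ·) (hπ₂ j).symm).trans ?_)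
        exact (Category.assoc _ _ _).symm.trans (congrArg (· ≫ _) (hm j)) }⟩

/-- The base change of a system along a quasi-compact quasi-separated object. -/
noncomputable abbrev bc [CompactSpace W.left] [QuasiSeparatedSpace W.left] :
    LimSys (Over k) (S.bcPt g) where
  D := S.bcD g
  compact j := by
    have : IsAffineHom (S.D.map j.hom).left := S.affineHom j.hom
    have : IsAffineHom (pullback.fst g.left (S.D.map j.hom).left) :=
      MorphismProperty.pullback_fst (P := @IsAffineHom) _ _ this
    exact QuasiCompact.compactSpace_of_compactSpace (pullback.fst g.left (S.D.map j.hom).left)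
  qsep j := by
    have : IsAffineHom (S.D.map j.hom).left := S.affineHom j.hom
    have : IsAffineHom (pullback.fst g.left (S.D.map j.hom).left) :=
      MorphismProperty.pullback_fst (P := @IsAffineHom) _ _ this
    exact quasiSeparatedSpace_of_quasiSeparated (pullback.fst g.left (S.D.map j.hom).left)
  affineHom f := S.isAffineHom_bcD g f
  π := S.bcπ g
  π_w f := S.bcπ_w g f
  isLimit := IsLimit.ofIsoLimit (S.nonempty_isLimit_bcCone g).some
    (Cone.ext (Iso.refl _) fun j => (Category.id_comp _).symm)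

end LimSys

variable (F : EtCoh.Ab X)

/-- The sheafified presheaf inverse image. -/
noncomputable abbrev shL : X.ProEtᵒᵖ ⥤ AddCommGrpCat.{u + 1} :=
  sheafify (Scheme.ProEt.topology X) (lanObj F.obj)

/-- The unit to the sheafified presheaf inverse image. -/
noncomputable abbrev η : lanObj F.obj ⟶ shL F :=
  toSheafify (Scheme.ProEt.topology X) (lanObj F.obj)

theorem isSheaf_shL : Presieve.IsSheaf (Scheme.ProEt.topology X)
    (shL F ⋙ forget AddCommGrpCat.{u + 1}) :=
  (isSheaf_iff_isSheaf_of_type _ _).1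
    ((sheafCompose (Scheme.ProEt.topology X) (forget AddCommGrpCat.{u + 1})).obj
      ((presheafToSheaf (Scheme.ProEt.topology X) AddCommGrpCat.{u + 1}).obj (lanObj F.obj))).property

namespace LimSys

/-- A section of a stage vanishing on the limit vanishes at a later stage. -/
theorem shL_exists_map_eq_zero {k : K} (s : (shL F).obj (op (S.D.obj k)))
    (h : (shL F).map (S.π k).op s = 0) :
    ∃ (j : K) (f : j ⟶ k), (shL F).map (S.D.map f).op s = 0 := by
  classical
  have := S.compact k
  have := S.qsep k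
  obtain ⟨n, W, g, hW, hcov, hmem⟩ := ProEt.exists_affine_refinement
    (Presheaf.imageSieve_mem (Scheme.ProEt.topology X) (η F) (U := op (S.D.obj k)) s)
  choose r hr using hmem
  have hz : ∀ a, ∃ (j : Over k), (lanObj F.obj).map (S.bcFst (g a) j).op (r a) = 0 := fun a => by
    have h0 : (lanObj F.obj).map ((S.bc (g a)).π (Over.mk (𝟙 k))).op
        ((lanObj F.obj).map (S.bcFst (g a) (Over.mk (𝟙 k))).op (r a)) = 0 := by
      apply toSheafify_injective F _
      rw [← Functor.map_comp_apply, ← op_comp, map_zero]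
      change (η F).app _ ((lanObj F.obj).map (S.bcπ (g a) _ ≫ _).op (r a)) = 0
      rw [S.bcπ_fst, NatTrans.naturality_apply (η F)]
      refine (congrArg ((shL F).map (S.bcPtFst (g a)).op) (hr a)).trans ?_
      rw [← Functor.map_comp_apply, ← op_comp, S.bcPt_condition, op_comp, Functor.map_comp_apply, h,
        map_zero]
    obtain ⟨j, f, hj⟩ := (S.bc (g a)).exists_map_eq_zero F _ h0
    refine ⟨j, ?_⟩
    rw [← Functor.map_comp_apply, ← op_comp] at hj
    change (lanObj F.obj).map ((S.bcD (g a)).map f ≫ _).op (r a) = 0 at hj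
    rwa [S.bcD_map_fst] at hj
  choose jj hjj using hz
  obtain ⟨j, hj⟩ := IsCofiltered.inf_objs_exists (Finset.univ.image jj)
  refine ⟨j.left, j.hom, ?_⟩
  have hcov' := (Scheme.ProEt.topology X).pullback_stable (S.D.map j.hom)
    (affine_family_mem_topology_of_qs (ι := ULift.{u} (Fin n)) (fun a => W a.down) (fun a => g a.down)
      fun x => (hcov x).imp' ULift.up fun _ h => h)
  refine (isSheaf_shL F _ hcov').isSeparatedFor.ext fun Y y hy => ?_
  obtain ⟨Y', b, _, ⟨a⟩, hb⟩ := hy
  change (shL F).map y.op ((shL F).map (S.D.map j.hom).op s) = (shL F).map y.op 0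
  obtain ⟨l, hl₁, hl₂⟩ := S.bc_exists_lift (g a.down) b y hb
  obtain ⟨fa⟩ := hj (Finset.mem_image_of_mem jj (Finset.mem_univ a.down))
  have e : b = (l ≫ (S.bcD (g a.down)).map fa) ≫ S.bcFst (g a.down) (jj a.down) := by
    rw [Category.assoc, S.bcD_map_fst, hl₁]
  rw [map_zero, ← Functor.map_comp_apply, ← op_comp, ← hb, op_comp, Functor.map_comp_apply,
    ← show (η F).app _ (r a.down) = (shL F).map (g a.down).op s from hr a.down,
    ← NatTrans.naturality_apply (η F), e, op_comp, Functor.map_comp_apply, hjj, map_zero, map_zero]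

/-- A stage datum describing a section near a point. -/
structure Chart (s : (shL F).obj (op V)) where
  /-- the stage -/
  i : K
  /-- the object -/
  A : X.ProEt
  isAffine : IsAffine A.left
  /-- the map to the stage -/
  q : A ⟶ S.D.obj i
  etale : Etale q.left
  /-- the section -/
  τ : (lanObj F.obj).obj (op A)
  good : ∀ (R : X.ProEt) (x : R ⟶ V) (y : R ⟶ A), x ≫ S.π i = y ≫ q →
    (shL F).map x.op s = (η F).app (op R) ((lanObj F.obj).map y.op τ)

variable {S F}

theorem Chart.exists_move {s : (shL F).obj (op V)} (c : S.Chart F s) {j : K} (f : j ⟶ c.i) :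
    ∃ c' : S.Chart F s, c'.i = j ∧
      ∀ v : V.left, (S.π c.i).left v ∈ Set.range c.q.left →
        (S.π c'.i).left v ∈ Set.range c'.q.left := by
  have := c.isAffine
  have := c.etale
  have := S.affineHom f
  let o : Over c.i := Over.mk f
  refine ⟨⟨j, S.bcObj c.q o, inferInstanceAs (IsAffine (pullback c.q.left (S.D.map f).left)),
    S.bcSnd c.q o, inferInstanceAs (Etale (pullback.snd c.q.left (S.D.map f).left)),
    (lanObj F.obj).map (S.bcFst c.q o).op c.τ, fun R x y hxy => ?_⟩, rfl, fun v hv => ?_⟩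
  · rw [← Functor.map_comp_apply, ← op_comp]
    refine c.good R x _ ?_
    refine Eq.trans ?_ (Category.assoc _ _ _).symm
    rw [← S.π_w f]
    exact (Category.assoc _ _ _).symm.trans ((congrArg (· ≫ S.D.map f) hxy).trans
      ((Category.assoc _ _ _).trans (congrArg (y ≫ ·) (S.bc_condition c.q o).symm)))
  · obtain ⟨a, ha⟩ := hv
    have h1 : (S.D.map f).left ((S.π j).left v) = (S.π c.i).left v :=
      congrArg (fun m => m.left v) (S.π_w f)
    obtain ⟨z, -, hz⟩ := Scheme.Pullback.exists_preimage_pullback (f := c.q.left)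
      (g := (S.D.map f).left) a ((S.π j).left v) (ha.trans h1.symm)
    exact ⟨z, hz⟩

variable (S) in
include S in
theorem compactSpace_pt : CompactSpace V.left := by
  have : ∀ k, CompactSpace ↥((S.D ⋙ Scheme.ProEt.forget X ⋙ Over.forget X).obj k) := S.compact
  have : ∀ {i j} (f : i ⟶ j), IsAffineHom ((S.D ⋙ Scheme.ProEt.forget X ⋙ Over.forget X).map f) :=
    S.affineHom
  exact Scheme.compactSpace_of_isLimit _ S.cone S.isLimit

variable (S) in
theorem exists_chart (s : (shL F).obj (op V)) (v : V.left) :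
    ∃ c : S.Chart F s, (S.π c.i).left v ∈ Set.range c.q.left := by
  have := S.compactSpace_pt
  obtain ⟨n, W, g, hW, hcov, hmem⟩ := ProEt.exists_affine_refinement
    (Presheaf.imageSieve_mem (Scheme.ProEt.topology X) (η F) (U := op V) s)
  obtain ⟨l, w, hw⟩ := hcov v
  obtain ⟨r, hr⟩ := hmem l
  obtain ⟨E, b, t, rfl⟩ := exists_germ F.obj r
  obtain ⟨k₀⟩ : Nonempty K := IsCofiltered.nonempty
  have : Etale (pullback.fst (S.D.obj k₀).hom E.hom) := MorphismProperty.pullback_fst _ _ E.prop
  have : WeaklyEtale (pullback.fst (S.D.obj k₀).hom E.hom ≫ (S.D.obj k₀).hom) :=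
    MorphismProperty.comp_mem @WeaklyEtale _ _ inferInstance (S.D.obj k₀).prop
  let PE : X.ProEt := Scheme.ProEt.mk (pullback.fst (S.D.obj k₀).hom E.hom ≫ (S.D.obj k₀).hom)
  let gE : PE ⟶ S.D.obj k₀ := MorphismProperty.Over.homMk (pullback.fst (S.D.obj k₀).hom E.hom) rfl
  let pE : PE ⟶ (ProEtS.eps X).obj E :=
    toEps (pullback.snd (S.D.obj k₀).hom E.hom) pullback.condition.symm
  let b₀ : W l ⟶ PE := MorphismProperty.Over.homMk
    (pullback.lift (g l ≫ S.π k₀).left b.left
      ((MorphismProperty.Over.w (g l ≫ S.π k₀)).trans (eps_w b).symm))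
    ((pullback.lift_fst_assoc _ _ _ _).trans (MorphismProperty.Over.w (g l ≫ S.π k₀)))
  have hb₁ : b₀ ≫ gE = g l ≫ S.π k₀ := MorphismProperty.Over.Hom.ext (pullback.lift_fst _ _ _)
  have hb₂ : b₀ ≫ pE = b := MorphismProperty.Over.Hom.ext (pullback.lift_snd _ _ _)
  obtain ⟨σ, hσ₁, hσ₂⟩ := S.bcPt_exists_lift gE b₀ (g l) hb₁
  let z : (shL F).obj (op (S.bcPt gE)) := (shL F).map (S.bcPtSnd gE).op s -
    (η F).app (op (S.bcPt gE)) (germ F.obj E (S.bcPtFst gE ≫ pE) t)
  have hz : (shL F).map σ.op z = 0 := by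
    rw [map_sub, ← Functor.map_comp_apply, ← op_comp, hσ₂, ← NatTrans.naturality_apply (η F),
      map_germ, ← Category.assoc, hσ₁, hb₂, sub_eq_zero]
    exact hr.symm
  obtain ⟨O, hwO, hO⟩ := exists_open_zero F z σ hz w
  obtain ⟨hlim⟩ := S.nonempty_isLimit_bcCone gE
  have : ∀ {i j : Over k₀} (f : i ⟶ j),
      IsAffineHom ((S.bcD gE ⋙ Scheme.ProEt.forget X ⋙ Over.forget X).map f) :=
    fun f => S.isAffineHom_bcD gE f
  obtain ⟨_, ⟨i, A₀, hA₀, rfl⟩, hwA, hAO⟩ := TopologicalSpace.Opens.isBasis_iff_nbhd.1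
    (isBasis_preimage_isAffineOpen (S.bcD gE ⋙ Scheme.ProEt.forget X ⋙ Over.forget X) (S.bcCone gE)
      hlim) (show σ.left w ∈ O from hwO)
  let A₁ : (S.bcObj gE i).left.Opens := A₀
  have : Etale gE.left := ‹Etale (pullback.fst (S.D.obj k₀).hom E.hom)›
  have : Etale (S.bcSnd gE i).left :=
    inferInstanceAs (Etale (pullback.snd gE.left (S.D.map i.hom).left))
  let A : X.ProEt := Scheme.ProEt.mk (A₁.ι ≫ (S.bcObj gE i).hom)
  let ι₁ : A ⟶ S.bcObj gE i := ProEt.openHom A₁
  refine ⟨⟨i.left, A, hA₀, ι₁ ≫ S.bcSnd gE i,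
    inferInstanceAs (Etale (A₁.ι ≫ (S.bcSnd gE i).left)),
    germ F.obj E (ι₁ ≫ S.bcFst gE i ≫ pE) t, fun R x y hxy => ?_⟩, ?_⟩
  · have hc : (y ≫ ι₁ ≫ S.bcFst gE i) ≫ gE = x ≫ S.π k₀ := by
      rw [Category.assoc, Category.assoc, S.bc_condition, ← S.π_w i.hom]
      rw [← Category.assoc ι₁, ← Category.assoc, ← hxy, Category.assoc]
    obtain ⟨m, hm₁, hm₂⟩ := S.bcPt_exists_lift gE (y ≫ ι₁ ≫ S.bcFst gE i) x hc
    have h1 : m ≫ S.bcπ gE i = y ≫ ι₁ := S.bc_hom_ext gE
      (by rw [Category.assoc, S.bcπ_fst, hm₁, Category.assoc])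
      (by rw [Category.assoc, S.bcπ_snd, ← Category.assoc, hm₂, hxy, Category.assoc])
    have hmO : Set.range m.left ⊆ (O : Set (S.bcPt gE).left) := by
      rintro _ ⟨r, rfl⟩
      apply hAO
      change (S.bcπ gE i).left (m.left r) ∈ A₁
      rw [show (S.bcπ gE i).left (m.left r) = A₁.ι (y.left r) from
        congrArg (fun e => e.left r) h1]
      exact (y.left r).2
    obtain ⟨l', hl'⟩ := exists_lift_opens (T := (S.bcPt gE).left) O m.left hmO
    let mO : R ⟶ Scheme.ProEt.mk (O.ι ≫ (S.bcPt gE).hom) := MorphismProperty.Over.homMk l'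
      ((Category.assoc _ _ _).symm.trans ((congrArg (· ≫ (S.bcPt gE).hom) hl').trans
        (MorphismProperty.Over.w m)))
    have hmO' : mO ≫ ProEt.openHom O = m := MorphismProperty.Over.Hom.ext hl'
    have h2 : (shL F).map m.op z = 0 := by
      rw [← hmO', op_comp, Functor.map_comp_apply, hO, map_zero]
    rw [map_sub, ← Functor.map_comp_apply, ← op_comp, hm₂, ← NatTrans.naturality_apply (η F),
      map_germ, ← Category.assoc, hm₁, sub_eq_zero] at h2
    simp only [map_germ, Category.assoc] at h2 ⊢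
    exact h2
  · refine ⟨⟨(S.bcπ gE i).left (σ.left w), hwA⟩, ?_⟩
    change (S.bcSnd gE i).left ((S.bcπ gE i).left (σ.left w)) = _
    refine (congrArg (fun e => e.left (σ.left w)) (S.bcπ_snd gE i)).trans ?_
    refine congrArg (S.π i.left).left ?_
    exact (congrArg (fun e => e.left w) hσ₂).trans hw

variable (S) in
/-- Every section over the limit comes from a stage. -/
theorem shL_exists_map_eq (s : (shL F).obj (op V)) :
    ∃ (k : K) (y : (shL F).obj (op (S.D.obj k))), (shL F).map (S.π k).op y = s := by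
  classical
  have := S.compactSpace_pt
  have : ∀ k, CompactSpace ↥((S.D ⋙ Scheme.ProEt.forget X ⋙ Over.forget X).obj k) := S.compact
  have hA' : ∀ {i j} (f : i ⟶ j),
      IsAffineHom ((S.D ⋙ Scheme.ProEt.forget X ⋙ Over.forget X).map f) := S.affineHom
  choose c₀ hc₀ using S.exists_chart (F := F) s
  obtain ⟨ts, hts⟩ := isCompact_univ.elim_finite_subcover
    (fun v => (S.π (c₀ v).i).left ⁻¹' Set.range (c₀ v).q.left)
    (fun v => by
      have := (c₀ v).etale
      exact (c₀ v).q.left.isOpenMap.isOpen_range.preimage (S.π (c₀ v).i).left.continuous)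
    (fun v _ => Set.mem_iUnion.2 ⟨v, hc₀ v⟩)
  obtain ⟨j₀, fj⟩ := IsCofiltered.inf_objs_exists (ts.image fun v => (c₀ v).i)
  choose c₁ hc₁ hc₁' using fun v : ts => (c₀ v.1).exists_move
    ((fj (Finset.mem_image_of_mem _ v.2)).some : j₀ ⟶ (c₀ v.1).i)
  -- reach a stage where the charts cover
  let U₀ : (S.D.obj j₀).left.Opens :=
    ⨆ a : ts, ⟨(hc₁ a ▸ Set.range (c₁ a).q.left : Set (S.D.obj j₀).left), by
      have := (c₁ a).etale
      generalize hc₁ a = h
      subst h
      exact (c₁ a).q.left.isOpenMap.isOpen_range⟩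
  have hU₀ : ∀ (a : ts) (x : (S.D.obj j₀).left),
      x ∈ (hc₁ a ▸ Set.range (c₁ a).q.left : Set (S.D.obj j₀).left) → x ∈ U₀ := fun a x hx =>
    TopologicalSpace.Opens.mem_iSup.2 ⟨a, hx⟩
  obtain ⟨j₁, f₁, hf₁⟩ := exists_map_eq_top (S.D ⋙ Scheme.ProEt.forget X ⋙ Over.forget X) S.cone
    S.isLimit (i := j₀) U₀ (top_le_iff.1 fun v _ => by
      obtain ⟨v', hv', hv⟩ := Set.mem_iUnion₂.1 (hts (Set.mem_univ v))
      refine hU₀ ⟨v', hv'⟩ _ ?_
      change (S.π j₀).left v ∈ _
      have key : ∀ u : ts, (S.π (c₁ u).i).left v ∈ Set.range (c₁ u).q.left →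
          (S.π j₀).left v ∈ (hc₁ u ▸ Set.range (c₁ u).q.left : Set (S.D.obj j₀).left) := by
        intro u h
        generalize hc₁ u = hu
        subst hu
        exact h
      exact key _ (hc₁' ⟨v', hv'⟩ v hv))
  have hnorm : ∀ a : ts, ∃ (A : X.ProEt) (q : A ⟶ S.D.obj j₁) (τ : (lanObj F.obj).obj (op A)),
      IsAffine A.left ∧ Etale q.left ∧
      (∀ x : (S.D.obj j₁).left,
        (S.D.map f₁).left x ∈ (hc₁ a ▸ Set.range (c₁ a).q.left : Set (S.D.obj j₀).left) →
          x ∈ Set.range q.left) ∧
      ∀ (R : X.ProEt) (x : R ⟶ V) (y : R ⟶ A), x ≫ S.π j₁ = y ≫ q →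
        (shL F).map x.op s = (η F).app (op R) ((lanObj F.obj).map y.op τ) := by
    intro a
    generalize hc₁ a = h
    subst h
    have := (c₁ a).isAffine
    have := (c₁ a).etale
    have := S.affineHom f₁
    let o : Over (c₁ a).i := Over.mk f₁
    refine ⟨S.bcObj (c₁ a).q o, S.bcSnd (c₁ a).q o,
      (lanObj F.obj).map (S.bcFst (c₁ a).q o).op (c₁ a).τ,
      inferInstanceAs (IsAffine (pullback (c₁ a).q.left (S.D.map f₁).left)),
      inferInstanceAs (Etale (pullback.snd (c₁ a).q.left (S.D.map f₁).left)), fun x hx => ?_,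
      fun R x y hxy => ?_⟩
    · obtain ⟨p, hp⟩ := hx
      obtain ⟨z, -, hz⟩ := Scheme.Pullback.exists_preimage_pullback (f := (c₁ a).q.left)
        (g := (S.D.map f₁).left) p x hp
      exact ⟨z, hz⟩
    · rw [← Functor.map_comp_apply, ← op_comp]
      refine (c₁ a).good R x _ ?_
      refine Eq.trans ?_ (Category.assoc _ _ _).symm
      rw [← S.π_w f₁]
      exact (Category.assoc _ _ _).symm.trans ((congrArg (· ≫ S.D.map f₁) hxy).trans
        ((Category.assoc _ _ _).trans (congrArg (y ≫ ·) (S.bc_condition (c₁ a).q o).symm)))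
  choose A q τ hA hq hcov hgood using hnorm
  have := S.qsep j₁
  -- the overlaps
  have hpair : ∀ a b : ts, ∃ o : Over j₁, ∀ (Z : X.ProEt) (za : Z ⟶ A a) (zb : Z ⟶ A b)
      (y : Z ⟶ S.D.obj o.left), za ≫ q a = zb ≫ q b → za ≫ q a = y ≫ S.D.map o.hom →
      (η F).app (op Z) ((lanObj F.obj).map za.op (τ a)) =
        (η F).app (op Z) ((lanObj F.obj).map zb.op (τ b)) := by
    intro a b
    have := hA a
    have := hA b
    have := hq a
    have := hq b
    have : WeaklyEtale (pullback.fst (q a).left (q b).left ≫ (A a).hom) :=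
      MorphismProperty.comp_mem @WeaklyEtale _ _
        (MorphismProperty.pullback_fst _ _ (ProEt.weaklyEtale_left (q b))) (A a).prop
    let P : X.ProEt := Scheme.ProEt.mk (pullback.fst (q a).left (q b).left ≫ (A a).hom)
    let pa : P ⟶ A a := MorphismProperty.Over.homMk (pullback.fst (q a).left (q b).left) rfl
    let pb : P ⟶ A b := MorphismProperty.Over.homMk (pullback.snd (q a).left (q b).left) (by
      change pullback.snd _ _ ≫ (A b).hom = pullback.fst _ _ ≫ (A a).hom
      rw [← MorphismProperty.Over.w (q a), ← MorphismProperty.Over.w (q b)]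
      exact (pullback.condition_assoc (f := (q a).left) (g := (q b).left) (S.D.obj j₁).hom).symm)
    have hpab : pa ≫ q a = pb ≫ q b := MorphismProperty.Over.Hom.ext pullback.condition
    have : QuasiCompact (q b).left := inferInstance
    have : QuasiSeparated (q b).left := inferInstance
    have : CompactSpace ↥P.left :=
      QuasiCompact.compactSpace_of_compactSpace (pullback.fst (q a).left (q b).left)
    have : QuasiSeparatedSpace ↥P.left :=
      quasiSeparatedSpace_of_quasiSeparated (pullback.fst (q a).left (q b).left)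
    let g : P ⟶ S.D.obj j₁ := pa ≫ q a
    let d : (shL F).obj (op P) := (η F).app (op P) ((lanObj F.obj).map pa.op (τ a)) -
      (η F).app (op P) ((lanObj F.obj).map pb.op (τ b))
    let top : Over j₁ := Over.mk (𝟙 j₁)
    have hd : (shL F).map ((S.bc g).π top).op ((shL F).map (S.bcFst g top).op d) = 0 := by
      rw [← Functor.map_comp_apply, ← op_comp]
      change (shL F).map (S.bcπ g top ≫ S.bcFst g top).op d = 0
      rw [S.bcπ_fst, map_sub, ← NatTrans.naturality_apply (η F), ← NatTrans.naturality_apply (η F),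
        ← Functor.map_comp_apply, ← Functor.map_comp_apply, ← op_comp, ← op_comp,
        ← hgood a (S.bcPt g) (S.bcPtSnd g) _ ?_, ← hgood b (S.bcPt g) (S.bcPtSnd g) _ ?_, sub_self]
      · rw [Category.assoc, ← hpab]
        exact (S.bcPt_condition g).symm
      · rw [Category.assoc]
        exact (S.bcPt_condition g).symm
    obtain ⟨o, f, ho⟩ := (S.bc g).shL_exists_map_eq_zero F _ hd
    refine ⟨o, fun Z za zb y hab hy => ?_⟩
    let zP : Z ⟶ P := MorphismProperty.Over.homMk
      (pullback.lift za.left zb.left (congrArg (fun m => m.left) hab))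
      ((pullback.lift_fst_assoc _ _ _ _).trans (MorphismProperty.Over.w za))
    have hza : zP ≫ pa = za := MorphismProperty.Over.Hom.ext (pullback.lift_fst _ _ _)
    have hzb : zP ≫ pb = zb := MorphismProperty.Over.Hom.ext (pullback.lift_snd _ _ _)
    obtain ⟨l, hl₁, -⟩ := S.bc_exists_lift g zP y (by rw [← Category.assoc, hza, hy])
    have h0 := congrArg ((shL F).map l.op) ho
    rw [← Functor.map_comp_apply, ← op_comp, ← Functor.map_comp_apply, ← op_comp, map_zero] at h0
    change (shL F).map (l ≫ (S.bcD g).map f ≫ S.bcFst g top).op d = 0 at h0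
    rw [S.bcD_map_fst, hl₁, map_sub, ← NatTrans.naturality_apply (η F),
      ← NatTrans.naturality_apply (η F), ← Functor.map_comp_apply, ← Functor.map_comp_apply,
      ← op_comp, ← op_comp, hza, hzb, sub_eq_zero] at h0
    exact h0
  choose ob hob using hpair
  obtain ⟨o, ho⟩ := IsCofiltered.inf_objs_exists (Finset.univ.image fun p : ts × ts => ob p.1 p.2)
  have := hA
  have := S.qsep o.left
  have hBaff : ∀ a, IsAffine (S.bcObj (q a) o).left := fun a =>
    have := hA a
    have := S.affineHom o.hom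
    inferInstanceAs (IsAffine (pullback (q a).left (S.D.map o.hom).left))
  have hcovB := affine_family_mem_topology_of_qs (ι := ULift.{u} ts)
    (fun a => S.bcObj (q a.down) o) (fun a => S.bcSnd (q a.down) o) fun x => by
      have hx : (S.D.map f₁).left ((S.D.map o.hom).left x) ∈ U₀ := hf₁.ge (Set.mem_univ _)
      obtain ⟨a, ha⟩ := TopologicalSpace.Opens.mem_iSup.1 hx
      obtain ⟨p, hp⟩ := hcov a _ ha
      obtain ⟨z, -, hz⟩ := Scheme.Pullback.exists_preimage_pullback (f := (q a).left)
        (g := (S.D.map o.hom).left) p x hp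
      exact ⟨⟨a⟩, z, hz⟩
  have hsf := (Presieve.isSheafFor_iff_generate _).2 (isSheaf_shL F _ hcovB)
  rw [Presieve.isSheafFor_arrows_iff] at hsf
  obtain ⟨y, hy, -⟩ := hsf (fun a : ULift.{u} ts => (η F).app _
    ((lanObj F.obj).map (S.bcFst (q a.down) o).op (τ a.down))) fun a b Z za zb hab => by
    change (shL F).map za.op ((η F).app _ _) = (shL F).map zb.op ((η F).app _ _)
    rw [← NatTrans.naturality_apply (η F), ← NatTrans.naturality_apply (η F),
      ← Functor.map_comp_apply, ← Functor.map_comp_apply, ← op_comp, ← op_comp]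
    obtain ⟨fo⟩ := ho (Finset.mem_image_of_mem (fun p : ts × ts => ob p.1 p.2)
      (Finset.mem_univ (a.down, b.down)))
    refine hob a.down b.down Z _ _ (za ≫ S.bcSnd (q a.down) o ≫ S.D.map fo.left) ?_ ?_
    · rw [Category.assoc, Category.assoc, S.bc_condition, S.bc_condition, ← Category.assoc, hab,
        Category.assoc]
    · rw [Category.assoc, S.bc_condition, Category.assoc, Category.assoc, ← Functor.map_comp,
        Over.w fo]
  refine ⟨o.left, y, ?_⟩
  refine (isSheaf_shL F _ ((Scheme.ProEt.topology X).pullback_stable (S.π o.left) hcovB)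
    ).isSeparatedFor.ext fun Y x hx => ?_
  obtain ⟨Y', b, _, ⟨a⟩, hb⟩ := hx
  change (shL F).map x.op ((shL F).map (S.π o.left).op y) = (shL F).map x.op s
  rw [← Functor.map_comp_apply, ← op_comp, ← hb, op_comp, Functor.map_comp_apply,
    show (shL F).map (S.bcSnd (q a.down) o).op y = _ from hy a, ← NatTrans.naturality_apply (η F),
    ← Functor.map_comp_apply, ← op_comp]
  refine (hgood a.down _ x _ ?_).symm
  rw [← S.π_w o.hom, ← Category.assoc, ← hb, Category.assoc, Category.assoc, S.bc_condition]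

end LimSys

end Groth.EtaleDeep.Eps

namespace Groth.EtaleDeep.Eps

variable {X : Scheme.{u}} [ProEtS.EpsCont X] {K : Type u} [SmallCategory K] [IsCofiltered K]

/-- Sections of `ε⁻¹F` commute with limits with affine transition maps. -/
theorem nonempty_isColimit_epsPull (D : K ⥤ X.ProEt)
    [∀ (i j : K) (a : i ⟶ j), IsAffineHom (D.map a).left]
    [∀ i, CompactSpace ↥(D.obj i).left] [∀ i, QuasiSeparatedSpace ↥(D.obj i).left]
    (c : Cone D) (hc : IsLimit ((Scheme.ProEt.forget X ⋙ Over.forget X).mapCone c))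
    (F : EtCoh.Ab X) :
    Nonempty (IsColimit (((ProEtS.epsPull X).obj F).obj.mapCocone c.op)) := by
  let G := ((ProEtS.epsPull X).obj F).obj
  let S : LimSys K c.pt :=
    { D := D
      compact := fun k => inferInstance
      qsep := fun k => inferInstance
      affineHom := fun f => inferInstance
      π := c.π.app
      π_w := fun f => c.w f
      isLimit := IsLimit.ofIsoLimit hc (Cone.ext (Iso.refl _) fun j => (Category.id_comp _).symm) }
  let e := (epsIso F).hom.hom
  have : ReflectsColimitsOfShape Kᵒᵖ (forget AddCommGrpCat.{u + 1}) := by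
    have : PreservesFilteredColimitsOfSize.{u, u} (forget AddCommGrpCat.{u + 1}) :=
      preservesFilteredColimitsOfSize_shrink.{u, u + 1, u, u + 1} _
    have : PreservesColimitsOfShape Kᵒᵖ (forget AddCommGrpCat.{u + 1}) :=
      PreservesFilteredColimitsOfSize.preserves_filtered_colimits _
    exact reflectsColimitsOfShape_of_reflectsIsomorphisms
  refine ⟨isColimitOfReflects (forget AddCommGrpCat.{u + 1})
    (Types.FilteredColimit.isColimitOf' _ _ (fun x => ?_) fun i a b hab => ?_)⟩
  · obtain ⟨k, y, hy⟩ := S.shL_exists_map_eq (F := F) (e.app _ x)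
    obtain ⟨y', rfl⟩ := (bijective_epsIso F (D.obj k)).2 y
    refine ⟨op k, y', (bijective_epsIso F c.pt).1 ?_⟩
    change e.app _ x = e.app _ (G.map (c.π.app k).op y')
    rw [NatTrans.naturality_apply e]
    exact hy.symm
  · have h0 : (shL F).map (S.π i.unop).op (e.app _ a - e.app _ b) = 0 := by
      refine (map_sub _ _ _).trans (sub_eq_zero.2 ?_)
      refine (NatTrans.naturality_apply e (S.π i.unop).op a).symm.trans ?_
      exact (congrArg (e.app _) hab).trans (NatTrans.naturality_apply e (S.π i.unop).op b)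
    obtain ⟨j, f, hj⟩ := S.shL_exists_map_eq_zero F _ h0
    refine ⟨op j, f.op, (bijective_epsIso F (D.obj j)).1 ?_⟩
    change e.app _ (G.map (D.map f).op a) = e.app _ (G.map (D.map f).op b)
    rw [NatTrans.naturality_apply e, NatTrans.naturality_apply e, ← sub_eq_zero, ← map_sub]
    exact hj

end Groth.EtaleDeep.Eps
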