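import Groth.Agent.EtaleDeep.Eps.Derived
import Groth.Prelude.Def_WeakSerre
import Mathlib.Algebra.Homology.DerivedCategory.Ext.Map

/-!
# Etale cohomology as pro-etale cohomology of the inverse image
-/

set_option autoImplicit false
set_option backward.isDefEq.respectTransparency.types false
set_option linter.style.haveILetI false

universe w w' v v' u u'

open CategoryTheory CategoryTheory.Limits AlgebraicGeometry Opposite Abelian

namespace Groth.EtaleDeep.Eps

section General

variable {C : Type u} [Category.{v} C] [Abelian C] [EnoughInjectives C] [HasExt.{w} C]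
  {D : Type u'} [Category.{v'} D] [Abelian D] [HasExt.{w'} D]
  (L : C ⥤ D) [L.Additive] [PreservesFiniteLimits L] [PreservesFiniteColimits L]

/-- A fully faithful exact functor induces isomorphisms on `Ext` when images of injectives are
acyclic. -/
theorem bijective_mapExactFunctor (Z : C) [L.Full] [L.Faithful]
    (hac : ∀ (I : C) [Injective I] (n : ℕ), Subsingleton (Ext.{w'} (L.obj Z) (L.obj I) (n + 1))) :
    ∀ (n : ℕ) (F : C), Function.Bijective (L.mapExtAddHom Z F n) := by
  intro n
  induction n with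
  | zero =>
    intro F
    rw [Functor.mapExtAddHom_coe, Ext.mapExactFunctor₀]
    exact Ext.homEquiv₀.symm.bijective.comp
      (Function.Bijective.comp (g := L.map) ⟨L.map_injective, L.map_surjective⟩ Ext.homEquiv₀.bijective)
  | succ n ih =>
    intro F
    let S := Groth.SiteCohomology.injSES F
    have hS : S.ShortExact := Groth.SiteCohomology.injSES_shortExact F
    have : Injective S.X₂ := inferInstanceAs (Injective (Injective.under F))
    have := Ext.subsingleton_of_injective Z S.X₂ n
    have : Subsingleton (Ext (L.obj Z) (S.map L).X₂ (n + 1)) := hac S.X₂ n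
    refine ⟨(injective_iff_map_eq_zero _).2 fun x hx => ?_, fun e => ?_⟩
    · obtain ⟨y, rfl⟩ := Groth.SiteCohomology.ext_surjective_postcomp_extClass hS Z n x
      rw [Functor.mapExtAddHom_apply, Ext.mapExactFunctor_comp, Ext.mapExactFunctor_extClass] at hx
      obtain ⟨z', hz'⟩ := Ext.covariant_sequence_exact₃ (L.obj Z) (hS.map_of_exact L) _ rfl hx
      obtain ⟨z, rfl⟩ := (ih S.X₂).2 z'
      have hy : y = z.comp (Ext.mk₀ S.g) (add_zero n) := by
        refine (ih S.X₃).1 (hz'.symm.trans ?_)
        rw [Functor.mapExtAddHom_apply, Functor.mapExtAddHom_apply, Ext.mapExactFunctor_comp,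
          Ext.mapExactFunctor_mk₀]
        rfl
      rw [hy, Ext.comp_assoc_of_second_deg_zero, hS.comp_extClass, Ext.comp_zero]
    · obtain ⟨y', rfl⟩ := Groth.SiteCohomology.ext_surjective_postcomp_extClass
        (hS.map_of_exact L) (L.obj Z) n e
      obtain ⟨y, rfl⟩ := (ih S.X₃).2 y'
      refine ⟨y.comp hS.extClass rfl, ?_⟩
      rw [Functor.mapExtAddHom_apply, Ext.mapExactFunctor_comp, Ext.mapExactFunctor_extClass]
      rfl

end General

end Groth.EtaleDeep.Eps

namespace Groth.EtaleDeep.Eps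

variable {X : Scheme.{u}} [ProEtS.EpsCont X]

/-- `ε_*`-acyclic sheaves with injective direct image have vanishing `Ext` against inverse images. -/
theorem subsingleton_ext_epsPull (Z I : EtCoh.Ab X) [Injective I] (n : ℕ) :
    Subsingleton (Ext ((ProEtS.epsPull X).obj Z) ((ProEtS.epsPull X).obj I) (n + 1)) := by
  have := preservesFiniteLimits_epsPush (X := X)
  have := epsPull_preservesFiniteLimits (X := X)
  have : (ProEtS.epsPull X).PreservesMonomorphisms := inferInstance
  refine Groth.SiteCohomology.subsingleton_ext_succ_of_class ((ProEtS.epsPull X).obj Z)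
    (fun G => CohFin.RightAcyclic (ProEtS.epsPush X) G ∧ Injective ((ProEtS.epsPush X).obj G))
    ?_ ?_ n _ ⟨fun j => isZero_repsPush_epsPull j I, ?_⟩
  case refine_3 =>
    have := isIso_unit_app I
    exact Injective.of_iso (asIso ((ProEtS.epsAdj X).unit.app I)) ‹_›
  all_goals
    intro F S hS hF hF' hinj
    subst hF'
    have hJ : Injective ((ProEtS.epsPush X).obj S.X₂) :=
      Injective.injective_of_adjoint (ProEtS.epsAdj X) S.X₂
    obtain ⟨e⟩ := CohFin.nonempty_rightDerived_one_iso_of_injective (F := ProEtS.epsPush X) hS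
    have hepi : Epi ((ProEtS.epsPush X).map S.g) :=
      Preadditive.epi_of_isZero_cokernel _ ((hF.1 0).of_iso e.symm)
    have := hS.mono_f
    have hT : (S.map (ProEtS.epsPush X)).ShortExact :=
      ShortComplex.ShortExact.mk' (hS.exact.map_of_mono_of_preservesKernel _ this inferInstance)
        (inferInstanceAs (Mono ((ProEtS.epsPush X).map S.f))) hepi
    have : Injective (S.map (ProEtS.epsPush X)).X₁ := hF.2
    let sp := hT.splittingOfInjective
  · intro f
    refine ⟨((ProEtS.epsAdj X).homEquiv Z S.X₂).symm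
      ((ProEtS.epsAdj X).homEquiv Z S.X₃ f ≫ sp.s), ?_⟩
    apply ((ProEtS.epsAdj X).homEquiv Z S.X₃).injective
    rw [Adjunction.homEquiv_naturality_right, Equiv.apply_symm_apply, Category.assoc]
    exact (congrArg ((ProEtS.epsAdj X).homEquiv Z S.X₃ f ≫ ·) sp.s_g).trans (Category.comp_id _)
  · refine ⟨CohFin.rightAcyclic_quotient hS hF.1, ?_⟩
    exact (Retract.mk sp.s ((ProEtS.epsPush X).map S.g) sp.s_g :
      Retract ((ProEtS.epsPush X).obj S.X₃) ((ProEtS.epsPush X).obj S.X₂)).injective

/-- The comparison of etale and pro-etale cohomology. -/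
theorem nonempty_H_addEquiv_HP (F : EtCoh.Ab X) (i : ℕ) :
    Nonempty (EtCoh.H X F i ≃+ ProEtS.HP X ((ProEtS.epsPull X).obj F) i) := by
  have := preservesFiniteLimits_epsPush (X := X)
  have := epsPull_preservesFiniteLimits (X := X)
  have : PreservesFiniteColimits (ProEtS.epsPull X) :=
    have : PreservesColimitsOfSize.{0, 0} (ProEtS.epsPull X) :=
      (ProEtS.epsAdj X).leftAdjoint_preservesColimits
    PreservesColimitsOfSize.preservesFiniteColimits _
  have : (ProEtS.epsPull X).Additive := (ProEtS.epsAdj X).left_adjoint_additive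
  have : ∀ G, IsIso ((ProEtS.epsAdj X).unit.app G) := isIso_unit_app
  have : IsIso (ProEtS.epsAdj X).unit := NatIso.isIso_of_isIso_app _
  have hff := (ProEtS.epsAdj X).fullyFaithfulLOfIsIsoUnit
  have := hff.full
  have := hff.faithful
  let hTE : IsTerminal (Scheme.Etale.mk (𝟙 X) : X.Etale) :=
    IsTerminal.ofUniqueHom (fun V => MorphismProperty.Over.homMk V.hom (Category.comp_id _))
      fun V m => MorphismProperty.Over.Hom.ext
        ((Category.comp_id m.left).symm.trans (MorphismProperty.Over.w m))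
  let eC : constantSheaf X.smallEtaleTopology AddCommGrpCat.{u + 1} ⋙ ProEtS.epsPull X ≅
      constantSheaf (Scheme.ProEt.topology X) AddCommGrpCat.{u + 1} :=
    Adjunction.leftAdjointUniq ((constantSheafAdj X.smallEtaleTopology _ hTE).comp (ProEtS.epsAdj X))
      (constantSheafAdj (Scheme.ProEt.topology X) _ (isTerminalTopP X))
  let A : AddCommGrpCat.{u + 1} := AddCommGrpCat.of (ULift.{u + 1} ℤ)
  let e₁ : Ext ((constantSheaf X.smallEtaleTopology _).obj A) F i ≃+
      Ext ((ProEtS.epsPull X).obj ((constantSheaf X.smallEtaleTopology _).obj A))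
        ((ProEtS.epsPull X).obj F) i :=
    AddEquiv.ofBijective ((ProEtS.epsPull X).mapExtAddHom _ F i)
      (bijective_mapExactFunctor _ _ (fun I _ n => subsingleton_ext_epsPull _ I n) i F)
  refine ⟨e₁.trans ?_⟩
  exact
    { toFun := fun x => (Ext.mk₀ (eC.app A).inv).comp x (zero_add i)
      invFun := fun x => (Ext.mk₀ (eC.app A).hom).comp x (zero_add i)
      left_inv := fun x => by
        dsimp only
        rw [Ext.mk₀_comp_mk₀_assoc, Iso.hom_inv_id, Ext.mk₀_id_comp]
      right_inv := fun x => by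
        dsimp only
        rw [Ext.mk₀_comp_mk₀_assoc, Iso.inv_hom_id]
        exact Ext.mk₀_id_comp x
      map_add' := fun x y => Ext.comp_add _ _ _ _ }

end Groth.EtaleDeep.Eps

namespace Groth.EtaleDeep.Eps

section General

variable {C : Type u} [Category.{v} C] [Abelian C] [EnoughInjectives C]
  {D : Type u'} [Category.{v'} D] [Abelian D] (F : C ⥤ D) [F.Additive] [PreservesFiniteLimits F]

/-- A left exact functor preserves the surjection of a short exact sequence with acyclic kernel. -/
theorem epi_map_of_isZero_rightDerived_one {S : ShortComplex C} (hS : S.ShortExact)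
    (h : IsZero ((F.rightDerived 1).obj S.X₁)) : Epi (F.map S.g) := by
  obtain ⟨ψ, t, w, hψ, ht, hK⟩ := CohFin.exists_ladder hS
  obtain ⟨e⟩ := CohFin.nonempty_rightDerived_one_iso_of_injective (F := F)
    (CohFin.hullSeq_shortExact hS)
  have : Epi (F.map (CohFin.hullSeq S).g) := Preadditive.epi_of_isZero_cokernel _ (h.of_iso e.symm)
  have := hK.mono_f
  have : Mono (F.map ψ) := inferInstance
  have := (CohFin.injSeq_shortExact S.X₂).mono_f
  have hI : ((CohFin.injSeq S.X₂).map F).Exact :=
    (CohFin.injSeq_shortExact S.X₂).exact.map_of_mono_of_preservesKernel F this inferInstance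
  rw [epi_iff_surjective_up_to_refinements]
  intro P x
  obtain ⟨P', π, hπ, j, hj⟩ :=
    surjective_up_to_refinements_of_epi (F.map (CohFin.hullSeq S).g) (x ≫ F.map ψ)
  obtain ⟨P'', π', hπ', i, hi⟩ := hI.exact_up_to_refinements j (by
    change j ≫ F.map (CohFin.injSeq S.X₂).g = 0
    rw [← ht, Functor.map_comp, ← Category.assoc, ← hj, Category.assoc, Category.assoc,
      ← Functor.map_comp, w, Functor.map_zero, comp_zero, comp_zero])
  refine ⟨P'', π' ≫ π, inferInstance, i, ?_⟩
  rw [← cancel_mono (F.map ψ), Category.assoc, Category.assoc, Category.assoc, hj, ← Functor.map_comp,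
    hψ, Functor.map_comp]
  exact (Category.assoc _ _ _).symm.trans ((congrArg (· ≫ _) hi).trans (Category.assoc _ _ _))

end General

variable {X : Scheme.{u}} [ProEtS.EpsCont X]

/-- The essential image of a weak Serre class under `ε⁻¹` is a weak Serre class. -/
theorem isWeakSerre_image_epsPull (S : ObjectProperty (EtCoh.Ab X)) [WSerre.IsWeakSerre S] :
    WSerre.IsWeakSerre (fun F : ProEtS.AbP X =>
      ∃ G : EtCoh.Ab X, S G ∧ Nonempty ((ProEtS.epsPull X).obj G ≅ F)) := by
  have := preservesFiniteLimits_epsPush (X := X)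
  have := epsPull_preservesFiniteLimits (X := X)
  have : PreservesFiniteColimits (ProEtS.epsPull X) :=
    have : PreservesColimitsOfSize.{0, 0} (ProEtS.epsPull X) :=
      (ProEtS.epsAdj X).leftAdjoint_preservesColimits
    PreservesColimitsOfSize.preservesFiniteColimits _
  have : ∀ G, IsIso ((ProEtS.epsAdj X).unit.app G) := isIso_unit_app
  have : IsIso (ProEtS.epsAdj X).unit := NatIso.isIso_of_isIso_app _
  have hff := (ProEtS.epsAdj X).fullyFaithfulLOfIsIsoUnit
  have := hff.full
  let L := ProEtS.epsPull X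
  let R := ProEtS.epsPush X
  have : L.Additive := (ProEtS.epsAdj X).left_adjoint_additive
  let P : ObjectProperty (ProEtS.AbP X) := fun F => ∃ G : EtCoh.Ab X, S G ∧ Nonempty (L.obj G ≅ F)
  obtain ⟨Z, hZ, hSZ⟩ := S.exists_prop_of_containsZero
  have hzero : P.ContainsZero := ⟨⟨L.obj Z, L.map_isZero hZ, Z, hSZ, ⟨Iso.refl _⟩⟩⟩
  have hker : P.IsClosedUnderKernels := by
    refine ⟨fun K hK => ?_⟩
    obtain ⟨f, k, hk, ⟨A, hA, ⟨eA⟩⟩, ⟨B, hB, ⟨eB⟩⟩⟩ := hK
    obtain ⟨g, hg⟩ := L.map_surjective (eA.hom ≫ f ≫ eB.inv)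
    refine ⟨kernel g, S.prop_kernel g hA hB,
      ⟨PreservesKernel.iso L g ≪≫ kernel.mapIso (L.map g) f eA eB ?_ ≪≫
        (limit.isLimit _).conePointUniqueUpToIso hk⟩⟩
    rw [hg, Category.assoc, Category.assoc, Iso.inv_hom_id, Category.comp_id]
  have hcok : P.IsClosedUnderCokernels := by
    refine ⟨fun K hK => ?_⟩
    obtain ⟨f, k, hk, ⟨A, hA, ⟨eA⟩⟩, ⟨B, hB, ⟨eB⟩⟩⟩ := hK
    obtain ⟨g, hg⟩ := L.map_surjective (eA.hom ≫ f ≫ eB.inv)
    refine ⟨cokernel g, S.prop_cokernel g hA hB,
      ⟨PreservesCokernel.iso L g ≪≫ cokernel.mapIso (L.map g) f eA eB ?_ ≪≫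
        (colimit.isColimit _).coconePointUniqueUpToIso hk⟩⟩
    rw [hg, Category.assoc, Category.assoc, Iso.inv_hom_id, Category.comp_id]
  have hext : P.IsClosedUnderExtensions := by
    refine ⟨fun {T} hT h₁ h₃ => ?_⟩
    obtain ⟨A, hA, ⟨eA⟩⟩ := h₁
    obtain ⟨B, hB, ⟨eB⟩⟩ := h₃
    have hε : ∀ (G : EtCoh.Ab X) (F : ProEtS.AbP X) (e : L.obj G ≅ F),
        IsIso ((ProEtS.epsAdj X).counit.app F) := fun G F e => by
      rw [← NatTrans.isIso_app_iff_of_iso (ProEtS.epsAdj X).counit e,
        IsIso.eq_inv_of_hom_inv_id ((ProEtS.epsAdj X).left_triangle_components G)]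
      infer_instance
    have := hε A T.X₁ eA
    have := hε B T.X₃ eB
    have h0 : IsZero ((R.rightDerived 1).obj T.X₁) :=
      (isZero_repsPush_epsPull 0 A).of_iso ((R.rightDerived 1).mapIso eA.symm)
    have hepi : Epi (R.map T.g) := epi_map_of_isZero_rightDerived_one R hT h0
    have := hT.mono_f
    have hR : (T.map R).ShortExact :=
      ShortComplex.ShortExact.mk' (hT.exact.map_of_mono_of_preservesKernel _ this inferInstance)
        (inferInstanceAs (Mono (R.map T.f))) hepi
    have hS2 : S (R.obj T.X₂) := by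
      have hRA : S (R.obj T.X₁) := S.prop_of_iso (asIso ((ProEtS.epsAdj X).unit.app A) ≪≫ R.mapIso eA) hA
      have hRB : S (R.obj T.X₃) := S.prop_of_iso (asIso ((ProEtS.epsAdj X).unit.app B) ≪≫ R.mapIso eB) hB
      exact S.prop_X₂_of_shortExact hR hRA hRB
    let φ : (T.map R).map L ⟶ T :=
      { τ₁ := (ProEtS.epsAdj X).counit.app T.X₁
        τ₂ := (ProEtS.epsAdj X).counit.app T.X₂
        τ₃ := (ProEtS.epsAdj X).counit.app T.X₃
        comm₁₂ := ((ProEtS.epsAdj X).counit.naturality T.f).symm
        comm₂₃ := ((ProEtS.epsAdj X).counit.naturality T.g).symm }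
    have : IsIso φ.τ₁ := ‹IsIso ((ProEtS.epsAdj X).counit.app T.X₁)›
    have : IsIso φ.τ₃ := ‹IsIso ((ProEtS.epsAdj X).counit.app T.X₃)›
    have : IsIso φ.τ₂ := ShortComplex.isIso₂_of_shortExact_of_isIso₁₃ φ (hR.map_of_exact L) hT
    exact ⟨R.obj T.X₂, hS2, ⟨@asIso _ _ _ _ φ.τ₂ this⟩⟩
  exact { hzero, hker, hcok, hext with }

end Groth.EtaleDeep.Eps
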