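import Groth.Agent.EtaleDeep.Eps.Cech

/-!
# Continuity of the presheaf inverse image
-/

set_option autoImplicit false
set_option backward.isDefEq.respectTransparency.types false
set_option linter.style.haveILetI false

universe u

open CategoryTheory CategoryTheory.Limits AlgebraicGeometry Opposite

namespace Groth.EtaleDeep.Eps

variable {X : Scheme.{u}} {K : Type u} [SmallCategory K] [IsCofiltered K]

/-- A cofiltered system of quasi-compact quasi-separated objects with affine transition maps and its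
limit on underlying schemes. -/
structure LimSys (K : Type u) [SmallCategory K] (V : X.ProEt) where
  /-- the diagram -/
  D : K ⥤ X.ProEt
  compact : ∀ k, CompactSpace ↥(D.obj k).left
  qsep : ∀ k, QuasiSeparatedSpace ↥(D.obj k).left
  affineHom : ∀ {i j : K} (f : i ⟶ j), IsAffineHom (D.map f).left
  /-- the projections -/
  π : ∀ k, V ⟶ D.obj k
  π_w : ∀ {i j : K} (f : i ⟶ j), π i ≫ D.map f = π j
  isLimit : IsLimit
    ({ pt := V.left
       π := { app := fun j => (π j).left
              naturality := fun _ _ f => (Category.id_comp _).trans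
                (congrArg (fun m => m.left) (π_w f)).symm } } :
      Cone (D ⋙ Scheme.ProEt.forget X ⋙ Over.forget X))

namespace LimSys

variable {V : X.ProEt} (S : LimSys K V) (P : X.Etaleᵒᵖ ⥤ AddCommGrpCat.{u + 1}) (F : EtCoh.Ab X)

/-- The cone of schemes. -/
noncomputable abbrev cone : Cone (S.D ⋙ Scheme.ProEt.forget X ⋙ Over.forget X) where
  pt := V.left
  π :=
    { app := fun j => (S.π j).left
      naturality := fun _ _ f => (Category.id_comp _).trans
        (congrArg (fun m => m.left) (S.π_w f)).symm }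

/-- Every section over the limit comes from a stage. -/
theorem exists_map_eq (x : (lanObj P).obj (op V)) :
    ∃ (k : K) (y : (lanObj P).obj (op (S.D.obj k))), (lanObj P).map (S.π k).op y = x := by
  obtain ⟨E, a, s, rfl⟩ := exists_germ P x
  have : ∀ k, CompactSpace ↥((S.D ⋙ Scheme.ProEt.forget X ⋙ Over.forget X).obj k) := S.compact
  have : ∀ k, QuasiSeparatedSpace ↥((S.D ⋙ Scheme.ProEt.forget X ⋙ Over.forget X).obj k) := S.qsep
  have : ∀ {i j} (f : i ⟶ j), IsAffineHom ((S.D ⋙ Scheme.ProEt.forget X ⋙ Over.forget X).map f) :=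
    S.affineHom
  have : Etale E.hom := E.prop
  have : LocallyOfFinitePresentation E.hom := inferInstance
  let t : (S.D ⋙ Scheme.ProEt.forget X ⋙ Over.forget X) ⟶ (Functor.const K).obj X :=
    { app := fun k => (S.D.obj k).hom
      naturality := fun i j f =>
        (MorphismProperty.Over.w (S.D.map f)).trans (Category.comp_id _).symm }
  obtain ⟨k, g, hg, hgf⟩ := Scheme.exists_π_app_comp_eq_of_locallyOfFinitePresentation
    (S.D ⋙ Scheme.ProEt.forget X ⋙ Over.forget X) t E.hom S.cone S.isLimit a.left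
    (NatTrans.ext (funext fun k => (MorphismProperty.Over.w (S.π k)).trans (eps_w a).symm))
  refine ⟨k, germ P E (toEps g hgf) s, ?_⟩
  rw [map_germ]
  congr 1
  exact MorphismProperty.Over.Hom.ext hg

/-- A section of a stage vanishing on the limit vanishes at a later stage. -/
theorem exists_map_eq_zero {k : K} (y : (lanObj F.obj).obj (op (S.D.obj k)))
    (h : (lanObj F.obj).map (S.π k).op y = 0) :
    ∃ (j : K) (f : j ⟶ k), (lanObj F.obj).map (S.D.map f).op y = 0 := by
  obtain ⟨E, a, s, rfl⟩ := exists_germ F.obj y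
  rw [map_germ, germ_eq_zero_iff] at h
  have : ∀ k, CompactSpace ↥((S.D ⋙ Scheme.ProEt.forget X ⋙ Over.forget X).obj k) := S.compact
  have : ∀ {i j} (f : i ⟶ j), IsAffineHom ((S.D ⋙ Scheme.ProEt.forget X ⋙ Over.forget X).map f) :=
    S.affineHom
  let O : (S.D.obj k).left.Opens :=
    ⟨a.left ⁻¹' EtaleBase.vanishSet F E s,
      (EtaleBase.isOpen_vanishSet F E s).preimage a.left.continuous⟩
  obtain ⟨j, f, hf⟩ := exists_map_eq_top (S.D ⋙ Scheme.ProEt.forget X ⋙ Over.forget X) S.cone
    S.isLimit (i := k) O (top_le_iff.1 fun v _ => h ⟨v, rfl⟩)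
  refine ⟨j, f, ?_⟩
  rw [map_germ, germ_eq_zero_iff]
  rintro _ ⟨w, rfl⟩
  exact hf.ge (Set.mem_univ w)

end LimSys

/-- Čech exactness passes to limits. -/
theorem cechExact_limit (F : EtCoh.Ab X) {N : ℕ → X.ProEt}
    {δ : ∀ n, Fin (n + 2) → (N (n + 1) ⟶ N n)} (S : ∀ n, LimSys K (N n))
    (δD : ∀ n, Fin (n + 2) → ((S (n + 1)).D ⟶ (S n).D))
    (hδ : ∀ n j k, (S (n + 1)).π k ≫ (δD n j).app k = δ n j ≫ (S n).π k)
    (hex : ∀ k, CechExact (lanObj F.obj) (fun n => (S n).D.obj k) fun n j => (δD n j).app k) :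
    CechExact (lanObj F.obj) N δ := by
  intro n c hc
  let L := lanObj F.obj
  obtain ⟨k, y, rfl⟩ := (S (n + 1)).exists_map_eq F.obj c
  have key : ∀ m j (l : K) (z : L.obj (op ((S m).D.obj l))),
      L.map (δ m j).op (L.map ((S m).π l).op z) =
        L.map ((S (m + 1)).π l).op (L.map ((δD m j).app l).op z) := fun m j l z => by
    rw [← Functor.map_comp_apply, ← Functor.map_comp_apply, ← op_comp, ← op_comp, hδ]
  have hz : L.map ((S (n + 2)).π k).op
      (∑ j : Fin (n + 3), (-1 : ℤ) ^ (j : ℕ) • L.map ((δD (n + 1) j).app k).op y) = 0 := by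
    refine Eq.trans ?_ hc
    rw [map_sum]
    exact Finset.sum_congr rfl fun j _ => by rw [map_zsmul, key]
  obtain ⟨l, f, hl⟩ := (S (n + 2)).exists_map_eq_zero F _ hz
  obtain ⟨b, hb⟩ := hex l n (L.map ((S (n + 1)).D.map f).op y) (by
    refine Eq.trans ?_ hl
    rw [map_sum]
    refine Finset.sum_congr rfl fun j _ => ?_
    rw [map_zsmul, ← Functor.map_comp_apply, ← Functor.map_comp_apply, ← op_comp, ← op_comp,
      NatTrans.naturality])
  refine ⟨L.map ((S n).π l).op b, ?_⟩
  have h := congrArg (L.map ((S (n + 1)).π l).op) hb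
  rw [← Functor.map_comp_apply, ← op_comp, (S (n + 1)).π_w] at h
  refine Eq.trans ?_ h
  rw [map_sum]
  exact Finset.sum_congr rfl fun j _ => by rw [map_zsmul, key]

end Groth.EtaleDeep.Eps
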