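import Groth.Agent.EtaleDeep.Eps.Qcqs
import Groth.Agent.EtaleDeep.Eps.Derived

/-!
# Acyclicity on quasi-compact quasi-separated towers
-/

set_option autoImplicit false
set_option backward.isDefEq.respectTransparency.types false
set_option linter.style.haveILetI false

universe u

open CategoryTheory CategoryTheory.Limits AlgebraicGeometry Opposite

namespace Groth.EtaleDeep.Eps

variable {X : Scheme.{u}}

/-- Čech exactness of the cokernel from that of the other two terms. -/
theorem cechExactP_right {S : ShortComplex (ProEtS.AbP X)} (hS : S.ShortExact) {W V : X.ProEt}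
    (g : W ⟶ V) (hsurj : ∀ n, Function.Surjective (S.g.hom.app (op (powP g n))))
    (h₁ : CechExactP S.X₁.obj g) (h₂ : CechExactP S.X₂.obj g) : CechExactP S.X₃.obj g := by
  intro n c hc
  let J := Scheme.ProEt.topology X
  have : Mono S.f := hS.mono_f
  have hinj : ∀ U, Function.Injective (S.f.hom.app U) := fun U =>
    (AddCommGrpCat.mono_iff_injective _).1
      (inferInstanceAs (Mono (((sheafToPresheaf J AddCommGrpCat.{u + 1}).map S.f).app U)))
  have hex : ∀ (U : X.ProEtᵒᵖ) (x : S.X₂.obj.obj U), S.g.hom.app U x = 0 →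
      ∃ y, S.f.hom.app U y = x := fun U x hx =>
    (ShortComplex.ab_exact_iff_function_exact _).1
      ((hS.exact.map_of_mono_of_preservesKernel
        (sheafToPresheaf J AddCommGrpCat.{u + 1} ⋙ (evaluation _ _).obj U) hS.mono_f
          inferInstance)) x |>.1 hx
  obtain ⟨t, rfl⟩ := hsurj (n + 1) c
  have hc' : S.g.hom.app _ (cob S.X₂.obj g (n + 1) t) = 0 := (cob_natural S.g.hom g _ t).trans hc
  obtain ⟨c₁, hc₁⟩ := hex _ _ hc'
  obtain ⟨b₁, hb₁⟩ := h₁ (n + 1) c₁ (hinj _ (by
    change S.f.hom.app _ (cob S.X₁.obj g (n + 2) c₁) = _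
    rw [cob_natural, hc₁, cob_cob, map_zero]))
  obtain ⟨b, hb⟩ := h₂ n (t - S.f.hom.app _ b₁) (by
    change cob S.X₂.obj g (n + 1) _ = 0
    rw [cob_sub, ← cob_natural, ← hc₁]
    exact sub_eq_zero.2 (congrArg _ hb₁.symm))
  refine ⟨S.g.hom.app _ b, ?_⟩
  change cob S.X₃.obj g n _ = _
  rw [← cob_natural, show cob S.X₂.obj g n b = _ from hb, map_sub,
    show S.g.hom.app _ (S.f.hom.app _ b₁) = 0 from congrArg (fun m => m.hom.app _ b₁) S.zero,
    sub_zero]

/-- Čech exactness passes from the presheaf inverse image to `ε⁻¹`. -/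
theorem cechExactP_epsPull [ProEtS.EpsCont X] (F : EtCoh.Ab X) {W V : X.ProEt} (g : W ⟶ V)
    (hb : ∀ n, Function.Bijective ((toSheafify (Scheme.ProEt.topology X) (lanObj F.obj)).app
      (op (powP g n))))
    (h : CechExactP (lanObj F.obj) g) : CechExactP ((ProEtS.epsPull X).obj F).obj g := by
  intro n c hc
  let L := lanObj F.obj
  let η := toSheafify (Scheme.ProEt.topology X) L
  let e := (epsIso F).hom.hom
  obtain ⟨c', hc'⟩ := (hb (n + 1)).2 (e.app _ c)
  obtain ⟨b', hb'⟩ := h n c' ((hb (n + 2)).1 (by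
    change η.app _ (cob L g (n + 1) c') = _
    rw [cob_natural, hc', map_zero]
    refine Eq.trans ?_ (map_zero (e.app (op (powP g (n + 2)))).hom)
    exact (cob_natural e g (n + 1) c).symm.trans (congrArg (e.app _) hc)))
  obtain ⟨b, hb0⟩ := (bijective_epsIso F (powP g n)).2 (η.app _ b')
  refine ⟨b, (bijective_epsIso F (powP g (n + 1))).1 ?_⟩
  change e.app _ (cob _ g n b) = e.app _ c
  rw [cob_natural, show e.app _ b = η.app _ b' from hb0]
  refine (cob_natural η g n b').symm.trans ?_
  exact (congrArg (η.app _) hb').trans hc'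

/-- Čech acyclicity on ind-etale objects and on towers. -/
structure Good (G : ProEtS.AbP X) : Prop where
  acyc : Acyc G
  cover : ∀ {P : X.ProEt} (T : ETow P) (k₀ : T.K) {E' : X.Etale} [IsAffine E'.left]
    (q : E' ⟶ T.D.obj k₀), CechExactP G.obj (T.coverHom k₀ q)

/-- A tower has a surjective pullback of an affine etale object of a stage. -/
theorem ETow.exists_cover {P : X.ProEt} (T : ETow P) :
    ∃ (k₀ : T.K) (E' : X.Etale) (_ : IsAffine E'.left) (q : E' ⟶ T.D.obj k₀),
      Sieve.generate (Presieve.singleton (T.coverHom k₀ q)) ∈ Scheme.ProEt.topology X P := by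
  obtain ⟨k₀⟩ : Nonempty T.K := IsCofiltered.nonempty
  let E := (T.D.obj k₀)
  have := T.compact k₀
  let 𝒰 := E.left.affineCover.finiteSubcover
  have : Finite 𝒰.I₀ := inferInstance
  have hU : ∀ i, IsAffine (𝒰.X i) := fun i =>
    inferInstanceAs (IsAffine (E.left.affineCover.X _))
  have : ∀ i, Etale (𝒰.f i) := fun i =>
    have : IsOpenImmersion (𝒰.f i) := inferInstance
    inferInstance
  have : Etale (Sigma.desc 𝒰.f) := IsZariskiLocalAtSource.sigmaDesc (P := @Etale) this
  have : Etale (Sigma.desc 𝒰.f ≫ E.hom) := MorphismProperty.comp_mem @Etale _ _ this E.prop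
  let E' : X.Etale := Scheme.Etale.mk (Sigma.desc 𝒰.f ≫ E.hom)
  have hE' : IsAffine E'.left := inferInstanceAs (IsAffine (∐ 𝒰.X))
  let q : E' ⟶ E := MorphismProperty.Over.homMk (Sigma.desc 𝒰.f) rfl
  refine ⟨k₀, E', hE', q, ?_⟩
  have : Surjective (Sigma.desc 𝒰.f) := inferInstance
  have : Surjective (T.coverHom k₀ q).left :=
    MorphismProperty.pullback_snd (P := @Surjective) (Sigma.desc 𝒰.f) (T.π k₀).left this
  have : IsAffine (T.cover k₀ q).left := (T.IE_cover k₀ q).isAffine
  have : QuasiSeparatedSpace P.left := T.quasiSeparatedSpace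
  have : CompactSpace (T.cover k₀ q).left := inferInstance
  have : QuasiCompact (T.coverHom k₀ q).left := inferInstance
  exact ProEt.singleton_mem_topology _

/-- Sections map onto the sections of a quotient by a good sheaf, on towers. -/
theorem Good.surjective {S : ShortComplex (ProEtS.AbP X)} (hS : S.ShortExact) (h : Good S.X₁)
    {P : X.ProEt} (T : ETow P) : Function.Surjective (S.g.hom.app (op P)) := by
  intro s
  obtain ⟨k₀, E', hE', q, hcov⟩ := T.exists_cover
  obtain ⟨t₀, ht₀⟩ := h.acyc.surjective hS (T.IE_cover k₀ q) (S.X₃.obj.map (T.coverHom k₀ q).op s)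
  exact exists_lift_of_cech hS (T.coverHom k₀ q) hcov (h.cover T k₀ q) s t₀ ht₀

theorem Good.right {S : ShortComplex (ProEtS.AbP X)} (hS : S.ShortExact) (h₁ : Good S.X₁)
    (h₂ : Good S.X₂) : Good S.X₃ :=
  ⟨Acyc.right hS h₁.acyc h₂.acyc, fun T k₀ _ _ q =>
    cechExactP_right hS _ (fun n => h₁.surjective hS ((T.cover_powers k₀ q).1 n).some)
      (h₁.cover T k₀ q) (h₂.cover T k₀ q)⟩

theorem good_injective (J : ProEtS.AbP X) [Injective J] : Good J :=
  ⟨acyc_injective J, fun T k₀ _ _ q =>
    have : Injective J.obj := Injective.injective_of_adjoint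
      (sheafificationAdjunction (Scheme.ProEt.topology X) AddCommGrpCat.{u + 1}) J
    cechExactP_injective J.obj _⟩

theorem good_epsPull [ProEtS.EpsCont X] (I : EtCoh.Ab X) [Injective I] :
    Good ((ProEtS.epsPull X).obj I) :=
  ⟨acyc_epsPull I, fun T k₀ _ _ q =>
    cechExactP_epsPull I _ (fun n => (((T.cover_powers k₀ q).1 n).some).bijective_toSheafify I)
      ((T.cover_powers k₀ q).2 I)⟩

end Groth.EtaleDeep.Eps
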