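import Groth.Agent.EtaleDeep.Eps.Cont
import Groth.Agent.EtaleDeep.IndEt.Etale

/-!
# Ind-etale morphisms of affine objects of the pro-etale site
-/

set_option autoImplicit false
set_option backward.isDefEq.respectTransparency.types false
set_option linter.style.haveILetI false

universe u

open CategoryTheory CategoryTheory.Limits AlgebraicGeometry Opposite

namespace Groth.EtaleDeep.Eps

/-- Ind-etale ring maps, as a property of morphisms of `CommRingCat`. -/
def IndEt : MorphismProperty CommRingCat.{u} := fun A B φ =>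
  letI := φ.hom.toAlgebra
  EtPBC.IsIndEtale A B

theorem indEt_iff {A B : Type u} [CommRing A] [CommRing B] [Algebra A B] :
    IndEt (CommRingCat.ofHom (algebraMap A B)) ↔ EtPBC.IsIndEtale A B := by
  have h : (algebraMap A B).toAlgebra = ‹Algebra A B› := Algebra.algebra_ext _ _ fun _ => rfl
  change @EtPBC.IsIndEtale A B _ _ (algebraMap A B).toAlgebra ↔ _
  rw [h]

theorem isIndEtale_of_etale (A B : Type u) [CommRing A] [CommRing B] [Algebra A B]
    [Algebra.Etale A B] : EtPBC.IsIndEtale A B :=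
  IndEt.isIndEtale_iff.mpr ⟨
    { J := Discrete PUnit.{u + 1}
      G := fun _ => B
      f := fun _ => AlgHom.id A B
      f_id := fun _ _ => rfl
      f_comp := fun _ _ _ => rfl
      g := fun _ => AlgHom.id A B
      g_f := fun _ _ => rfl
      surj := fun b => ⟨⟨⟨⟩⟩, b, rfl⟩
      eq := fun i x y h => ⟨i, 𝟙 i, h⟩
      prop := fun _ => ‹_› }⟩

theorem indEt_comp {A B C : CommRingCat.{u}} (φ : A ⟶ B) (ψ : B ⟶ C) (hφ : IndEt φ)
    (hψ : IndEt ψ) : IndEt (φ ≫ ψ) := by
  letI := φ.hom.toAlgebra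
  letI := ψ.hom.toAlgebra
  letI : Algebra A C := (φ ≫ ψ).hom.toAlgebra
  have : IsScalarTower A B C := IsScalarTower.of_algebraMap_eq fun _ => rfl
  exact IndEt.isIndEtale_trans (A := A) (B := B) (C := C) hφ hψ

theorem indEt_of_isIso {A B : CommRingCat.{u}} (φ : A ⟶ B) [IsIso φ] : IndEt φ := by
  letI := φ.hom.toAlgebra
  have : Algebra.Etale A B := Algebra.Etale.of_equiv
    ({ (asIso φ).commRingCatIsoToRingEquiv with commutes' := fun _ => rfl } : A ≃ₐ[A] B)
  exact isIndEtale_of_etale A B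

theorem indEt_of_isPushout {A B C P : CommRingCat.{u}} {φ : A ⟶ B} {ψ : A ⟶ C} {inl : B ⟶ P}
    {inr : C ⟶ P} (h : IsPushout φ ψ inl inr) (hψ : IndEt ψ) : IndEt inl := by
  letI := φ.hom.toAlgebra
  letI := ψ.hom.toAlgebra
  have hT : IsPushout φ ψ (CommRingCat.ofHom (Algebra.TensorProduct.includeLeftRingHom
      (R := A) (A := B) (B := C)))
      (CommRingCat.ofHom (Algebra.TensorProduct.includeRight (R := A) (A := B) (B := C)).toRingHom) :=
    CommRingCat.isPushout_tensorProduct A B C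
  have h1 : IndEt (CommRingCat.ofHom (Algebra.TensorProduct.includeLeftRingHom
      (R := A) (A := B) (B := C))) := indEt_iff.2 (IndEt.isIndEtale_baseChange B hψ)
  rw [← hT.inl_isoIsPushout_hom B C h]
  exact indEt_comp _ _ h1 (indEt_of_isIso _)

variable {X : Scheme.{u}}

/-- An affine object over an affine one, ind-etale on global sections. -/
structure RelIE {W V : X.ProEt} (g : W ⟶ V) : Prop where
  isAffine_src : IsAffine W.left
  isAffine_tgt : IsAffine V.left
  indEt : IndEt g.left.appTop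

/-- An affine object ind-etale over an affine etale object. -/
def IE (V : X.ProEt) : Prop :=
  ∃ (E : X.Etale) (a : V ⟶ (ProEtS.eps X).obj E), RelIE a

theorem IE.isAffine {V : X.ProEt} (h : IE V) : IsAffine V.left := by
  obtain ⟨E, a, ha⟩ := h
  exact ha.isAffine_src

theorem RelIE.comp {U W V : X.ProEt} {f : U ⟶ W} {g : W ⟶ V} (hf : RelIE f) (hg : RelIE g) :
    RelIE (f ≫ g) :=
  ⟨hf.isAffine_src, hg.isAffine_tgt, by
    have := indEt_comp _ _ hg.indEt hf.indEt
    exact (Scheme.Hom.comp_appTop f.left g.left).symm ▸ this⟩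

theorem RelIE.of_isIso {W V : X.ProEt} (g : W ⟶ V) [IsIso g.left] [IsAffine V.left] : RelIE g :=
  ⟨IsAffine.of_isIso g.left, ‹_›,
    have : IsIso g.left.appTop := inferInstanceAs (IsIso (Scheme.Γ.map g.left.op))
    indEt_of_isIso _⟩

theorem RelIE.of_etale {W V : X.ProEt} (g : W ⟶ V) [Etale g.left] [IsAffine W.left]
    [IsAffine V.left] : RelIE g := by
  refine ⟨‹_›, ‹_›, ?_⟩
  letI := g.left.appTop.hom.toAlgebra
  have : Algebra.Etale Γ(V.left, ⊤) Γ(W.left, ⊤) :=
    RingHom.etale_algebraMap.1 ((HasRingHomProperty.iff_of_isAffine (P := @Etale)).1 ‹_›)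
  exact isIndEtale_of_etale _ _

theorem IE.of_relIE {W V : X.ProEt} {g : W ⟶ V} (hg : RelIE g) (hV : IE V) : IE W := by
  obtain ⟨E, a, ha⟩ := hV
  exact ⟨E, g ≫ a, hg.comp ha⟩

theorem IE.eps (E : X.Etale) [IsAffine E.left] : IE ((ProEtS.eps X).obj E) := by
  refine ⟨E, 𝟙 _, ?_, ?_, ?_⟩
  · assumption
  · assumption
  · exact (show IndEt (𝟙 Γ(E.left, ⊤)) from indEt_of_isIso _)

/-- Ind-etale morphisms are stable under base change. -/
theorem indEt_appTop_of_isPullback {P A B Z : Scheme.{u}} {fst : P ⟶ A} {snd : P ⟶ B} {f : A ⟶ Z}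
    {g : B ⟶ Z} [IsAffine A] [IsAffine B] [IsAffine Z] (h : IsPullback fst snd f g)
    (hg : IndEt g.appTop) : IndEt fst.appTop :=
  indEt_of_isPushout (isPushout_appTop_of_isPullback h) hg

/-- The fibre powers of an ind-etale morphism are ind-etale over the base. -/
theorem indEt_pw {W V : Scheme.{u}} (g : W ⟶ V) [IsAffine W] [IsAffine V] (hg : IndEt g.appTop) :
    ∀ n, IndEt (pw g n).hom.appTop
  | 0 => hg
  | n + 1 => by
    have := isAffine_pw g n
    have h1 := indEt_appTop_of_isPullback (IsPullback.of_hasPullback (pw g n).hom g) hg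
    exact (Scheme.Hom.comp_appTop (pullback.fst (pw g n).hom g) (pw g n).hom).symm ▸
      indEt_comp _ _ (indEt_pw g hg n) h1

/-- The structure map of a fibre power. -/
noncomputable def powPHom {W V : X.ProEt} (g : W ⟶ V) (n : ℕ) : powP g n ⟶ V :=
  MorphismProperty.Over.homMk (pw g.left n).hom rfl

theorem RelIE.powPHom {W V : X.ProEt} {g : W ⟶ V} (hg : RelIE g) (n : ℕ) :
    RelIE (Eps.powPHom g n) := by
  have := hg.isAffine_src
  have := hg.isAffine_tgt
  exact ⟨isAffine_pw g.left n, hg.isAffine_tgt, indEt_pw g.left hg.indEt n⟩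

end Groth.EtaleDeep.Eps
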