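import Groth.Agent.EtaleDeep.ProEt.Basic
import Groth.Agent.EtaleDeep.ProEtSite
import Groth.Agent.EtaleBase.Support
import Groth.Agent.ZetaAn.LanExact

/-!
# The presheaf inverse image from the etale to the pro-etale site
-/

set_option autoImplicit false
set_option backward.isDefEq.respectTransparency.types false
set_option linter.style.haveILetI false

universe u

open CategoryTheory CategoryTheory.Limits AlgebraicGeometry Opposite

namespace Groth.EtaleDeep.Eps

variable {X : Scheme.{u}}

lemma exists_lift_opens {T W : Scheme.{u}} (O : T.Opens) (a : W ⟶ T)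
    (h : Set.range a ⊆ (O : Set T)) : ∃ l : W ⟶ O.toScheme, l ≫ O.ι = a :=
  ⟨IsOpenImmersion.lift O.ι a (by rw [Scheme.Opens.range_ι]; exact h),
    IsOpenImmersion.lift_fac _ _ _⟩

theorem preservesFiniteLimits_eps : PreservesFiniteLimits (ProEtS.eps X) := by
  have : PreservesFiniteLimits (ProEtS.eps X ⋙ Scheme.ProEt.forget X) :=
    inferInstanceAs (PreservesFiniteLimits (Scheme.Etale.forget X))
  exact preservesFiniteLimits_of_reflects_of_preserves (ProEtS.eps X) (Scheme.ProEt.forget X)

theorem flat_eps : RepresentablyFlat (ProEtS.eps X) := by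
  have := preservesFiniteLimits_eps (X := X)
  exact flat_of_preservesFiniteLimits _

/-- A map from `W` to an etale object. -/
noncomputable def toEps {W : X.ProEt} {E : X.Etale} (a : W.left ⟶ E.left)
    (w : a ≫ E.hom = W.hom) : W ⟶ (ProEtS.eps X).obj E :=
  MorphismProperty.Over.homMk a w

lemma eps_w {W : X.ProEt} {E : X.Etale} (a : W ⟶ (ProEtS.eps X).obj E) :
    a.left ≫ E.hom = W.hom :=
  MorphismProperty.Over.w a

/-- Preimage of a map between etale objects. -/
noncomputable def epsPreimage {E E' : X.Etale}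
    (a : (ProEtS.eps X).obj E' ⟶ (ProEtS.eps X).obj E) : E' ⟶ E :=
  MorphismProperty.Over.homMk a.left (eps_w a)

lemma map_epsPreimage {E E' : X.Etale} (a : (ProEtS.eps X).obj E' ⟶ (ProEtS.eps X).obj E) :
    (ProEtS.eps X).map (epsPreimage a) = a :=
  MorphismProperty.Over.Hom.ext rfl

theorem preservesColimitsOfShape_lan (W : X.ProEt) :
    PreservesColimitsOfShape (CostructuredArrow (ProEtS.eps X).op (op W))
      (forget AddCommGrpCat.{u + 1}) := by
  have := flat_eps (X := X)
  have : IsFiltered (CostructuredArrow (ProEtS.eps X).op (op W)) := inferInstance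
  have : PreservesFilteredColimitsOfSize.{u, u + 1} (forget AddCommGrpCat.{u + 1}) :=
    preservesFilteredColimitsOfSize_shrink.{u + 1, u + 1, u, u + 1} _
  exact PreservesFilteredColimitsOfSize.preserves_filtered_colimits _

variable (F : X.Etaleᵒᵖ ⥤ AddCommGrpCat.{u + 1})

/-- The presheaf inverse image. -/
noncomputable abbrev lanObj : X.ProEtᵒᵖ ⥤ AddCommGrpCat.{u + 1} :=
  (ProEtS.eps X).op.leftKanExtension F

/-- The element attached to a morphism to an etale object and a section. -/
noncomputable def germ {W : X.ProEt} (E : X.Etale) (a : W ⟶ (ProEtS.eps X).obj E)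
    (s : F.obj (op E)) : (lanObj F).obj (op W) :=
  (lanObj F).map a.op (((ProEtS.eps X).op.leftKanExtensionUnit F).app (op E) s)

lemma map_germ {W W' : X.ProEt} (g : W' ⟶ W) (E : X.Etale) (a : W ⟶ (ProEtS.eps X).obj E)
    (s : F.obj (op E)) :
    (lanObj F).map g.op (germ F E a s) = germ F E (g ≫ a) s := by
  rw [germ, germ, op_comp, Functor.map_comp]
  rfl

lemma germ_map {W : X.ProEt} {E E' : X.Etale} (h : E' ⟶ E) (a : W ⟶ (ProEtS.eps X).obj E')
    (s : F.obj (op E)) :
    germ F E' a (F.map h.op s) = germ F E (a ≫ (ProEtS.eps X).map h) s := by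
  rw [germ, germ, NatTrans.naturality_apply ((ProEtS.eps X).op.leftKanExtensionUnit F) h.op s,
    op_comp, Functor.map_comp]
  rfl

lemma germ_zero {W : X.ProEt} (E : X.Etale) (a : W ⟶ (ProEtS.eps X).obj E) :
    germ F E a 0 = 0 := by
  rw [germ, map_zero, map_zero]

lemma germ_sub {W : X.ProEt} (E : X.Etale) (a : W ⟶ (ProEtS.eps X).obj E) (s t : F.obj (op E)) :
    germ F E a (s - t) = germ F E a s - germ F E a t := by
  rw [germ, map_sub, map_sub]
  rfl

theorem exists_germ {W : X.ProEt} (x : (lanObj F).obj (op W)) :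
    ∃ (E : X.Etale) (a : W ⟶ (ProEtS.eps X).obj E) (s : F.obj (op E)), germ F E a s = x := by
  have := preservesColimitsOfShape_lan W
  obtain ⟨j, s, hs⟩ := Types.jointly_surjective_of_isColimit
    (isColimitOfPreserves (forget AddCommGrpCat.{u + 1})
      ((ProEtS.eps X).op.isPointwiseLeftKanExtensionLeftKanExtensionUnit F (op W))) x
  exact ⟨j.left.unop, j.hom.unop, s, hs⟩

theorem germ_eq_germ {W : X.ProEt} {E : X.Etale} {a : W ⟶ (ProEtS.eps X).obj E}
    {s s' : F.obj (op E)} (h : germ F E a s = germ F E a s') :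
    ∃ (E' : X.Etale) (p : E' ⟶ E) (b : W ⟶ (ProEtS.eps X).obj E'),
      b ≫ (ProEtS.eps X).map p = a ∧ F.map p.op s = F.map p.op s' := by
  have := flat_eps (X := X)
  have : IsFiltered (CostructuredArrow (ProEtS.eps X).op (op W)) := inferInstance
  have := preservesColimitsOfShape_lan W
  obtain ⟨j, q, hq⟩ := (Types.FilteredColimit.isColimit_eq_iff'
    (isColimitOfPreserves (forget AddCommGrpCat.{u + 1})
      ((ProEtS.eps X).op.isPointwiseLeftKanExtensionLeftKanExtensionUnit F (op W)))
    (i := CostructuredArrow.mk (Y := op E) a.op) s s').1 h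
  exact ⟨j.left.unop, q.left.unop, j.hom.unop, Quiver.Hom.op_inj (CostructuredArrow.w q), hq⟩

theorem exists_common_germ {W : X.ProEt} (x y : (lanObj F).obj (op W)) :
    ∃ (E : X.Etale) (a : W ⟶ (ProEtS.eps X).obj E) (s t : F.obj (op E)),
      germ F E a s = x ∧ germ F E a t = y := by
  have := flat_eps (X := X)
  have : IsFiltered (CostructuredArrow (ProEtS.eps X).op (op W)) := inferInstance
  obtain ⟨E₁, a₁, s₁, rfl⟩ := exists_germ F x
  obtain ⟨E₂, a₂, s₂, rfl⟩ := exists_germ F y
  let i₁ := CostructuredArrow.mk (S := (ProEtS.eps X).op) (Y := op E₁) a₁.op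
  let i₂ := CostructuredArrow.mk (S := (ProEtS.eps X).op) (Y := op E₂) a₂.op
  let k := IsFiltered.max i₁ i₂
  let q₁ : i₁ ⟶ k := IsFiltered.leftToMax i₁ i₂
  let q₂ : i₂ ⟶ k := IsFiltered.rightToMax i₁ i₂
  refine ⟨k.left.unop, k.hom.unop, F.map q₁.left.unop.op s₁, F.map q₂.left.unop.op s₂, ?_, ?_⟩
  · rw [germ_map]
    congr 1
    exact Quiver.Hom.op_inj (CostructuredArrow.w q₁)
  · rw [germ_map]
    congr 1
    exact Quiver.Hom.op_inj (CostructuredArrow.w q₂)

/-- Left Kan extension along `ε` is exact. -/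
theorem lan_preservesFiniteLimits_eps :
    PreservesFiniteLimits ((ProEtS.eps X).op.lan : (X.Etaleᵒᵖ ⥤ AddCommGrpCat.{u + 1}) ⥤ _) := by
  have := flat_eps (X := X)
  exact Groth.ZetaAn.lan_preservesFiniteLimits _

/-- `ε⁻¹` is exact. -/
theorem epsPull_preservesFiniteLimits [ProEtS.EpsCont X] :
    PreservesFiniteLimits (ProEtS.epsPull X) := by
  have := flat_eps (X := X)
  have := lan_preservesFiniteLimits_eps (X := X)
  exact Functor.sheafPullbackConstruction.preservesFiniteLimits _ _ _ _

section sheaf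

variable (F : EtCoh.Ab X)

/-- A germ of a sheaf vanishes iff the image lies in the vanishing set. -/
theorem germ_eq_zero_iff {W : X.ProEt} (E : X.Etale) (a : W ⟶ (ProEtS.eps X).obj E)
    (s : F.obj.obj (op E)) :
    germ F.obj E a s = 0 ↔ Set.range a.left ⊆ EtaleBase.vanishSet F E s := by
  constructor
  · intro h
    obtain ⟨E', p, b, rfl, hp⟩ := germ_eq_germ F.obj (h.trans (germ_zero F.obj E a).symm)
    rw [map_zero] at hp
    have h1 := (EtaleBase.map_eq_zero_iff_range_subset F p s).1 hp
    rintro _ ⟨x, rfl⟩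
    exact h1 ⟨b.left x, rfl⟩
  · intro h
    let O : E.left.Opens := ⟨_, EtaleBase.isOpen_vanishSet F E s⟩
    let E' : X.Etale := Scheme.Etale.mk (O.ι ≫ E.hom)
    let p : E' ⟶ E := MorphismProperty.Over.homMk O.ι rfl
    obtain ⟨l, hl⟩ := exists_lift_opens (T := E.left) O a.left h
    let b : W ⟶ (ProEtS.eps X).obj E' := toEps l (by
      change l ≫ O.ι ≫ E.hom = W.hom
      exact (Category.assoc _ _ _).symm.trans ((congrArg (· ≫ E.hom) hl).trans (eps_w a)))
    have hb : b ≫ (ProEtS.eps X).map p = a := MorphismProperty.Over.Hom.ext hl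
    have hp : F.obj.map p.op s = 0 := (EtaleBase.map_eq_zero_iff_range_subset F p s).2 (by
      rintro _ ⟨x, rfl⟩
      exact x.2)
    rw [← hb, ← germ_map, hp, germ_zero]

theorem germ_eq_iff {W : X.ProEt} (E : X.Etale) (a : W ⟶ (ProEtS.eps X).obj E)
    (s t : F.obj.obj (op E)) :
    germ F.obj E a s = germ F.obj E a t ↔
      Set.range a.left ⊆ EtaleBase.vanishSet F E (s - t) := by
  rw [← germ_eq_zero_iff, germ_sub, sub_eq_zero]

/-- Germs are determined on jointly surjective families. -/
theorem eq_of_jointly_surjective {ι : Type*} {W : X.ProEt} (V : ι → X.ProEt) (g : ∀ k, V k ⟶ W)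
    (hcov : ∀ x : W.left, ∃ k, x ∈ Set.range (g k).left) (x y : (lanObj F.obj).obj (op W))
    (h : ∀ k, (lanObj F.obj).map (g k).op x = (lanObj F.obj).map (g k).op y) : x = y := by
  obtain ⟨E, a, s, t, rfl, rfl⟩ := exists_common_germ F.obj x y
  rw [germ_eq_iff]
  rintro _ ⟨w, rfl⟩
  obtain ⟨k, v, rfl⟩ := hcov w
  have hk := h k
  rw [map_germ, map_germ, germ_eq_iff] at hk
  exact hk ⟨v, rfl⟩

/-- Sections over an etale object. -/
theorem bijective_germ_id (E : X.Etale) :
    Function.Bijective (germ F.obj E (𝟙 ((ProEtS.eps X).obj E))) := by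
  constructor
  · intro s t h
    rw [germ_eq_iff] at h
    have h0 : F.obj.map (𝟙 E : E ⟶ E).op (s - t) = 0 :=
      (EtaleBase.map_eq_zero_iff_range_subset F (𝟙 E) (s - t)).2 fun x hx => h hx
    rwa [op_id, Functor.map_id_apply, sub_eq_zero] at h0
  · intro x
    obtain ⟨E', a, s, rfl⟩ := exists_germ F.obj x
    refine ⟨F.obj.map (epsPreimage a).op s, ?_⟩
    rw [germ_map, map_epsPreimage, Category.id_comp]

end sheaf

end Groth.EtaleDeep.Eps
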