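import Mathlib

/-!
# Iterated fibre powers of an arrow
-/

set_option autoImplicit false

set_option backward.isDefEq.respectTransparency false

universe v u v' u'

open CategoryTheory CategoryTheory.Limits

namespace Groth.EtaleDeep.Eps

variable {C : Type u} [Category.{v} C] [HasPullbacks C]

/-- The `(n+1)`-fold fibre power of `g`, over the target. -/
noncomputable def pw {W V : C} (g : W ⟶ V) : ℕ → Over V
  | 0 => Over.mk g
  | n + 1 => Over.mk (pullback.fst (pw g n).hom g ≫ (pw g n).hom)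

/-- The projections. -/
noncomputable def pr {W V : C} (g : W ⟶ V) : (n : ℕ) → Fin (n + 1) → ((pw g n).left ⟶ W)
  | 0 => fun _ => 𝟙 W
  | n + 1 => Fin.lastCases (pullback.snd (pw g n).hom g)
      fun a => pullback.fst (pw g n).hom g ≫ pr g n a

lemma pr_zero {W V : C} (g : W ⟶ V) (a : Fin 1) : pr g 0 a = 𝟙 W := rfl

lemma pr_last {W V : C} (g : W ⟶ V) (n : ℕ) :
    pr g (n + 1) (Fin.last (n + 1)) = pullback.snd (pw g n).hom g :=
  by simp [pr]

lemma pr_castSucc {W V : C} (g : W ⟶ V) (n : ℕ) (a : Fin (n + 1)) :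
    pr g (n + 1) a.castSucc = pullback.fst (pw g n).hom g ≫ pr g n a :=
  by simp [pr]

lemma pr_w {W V : C} (g : W ⟶ V) : ∀ (n : ℕ) (a : Fin (n + 1)), pr g n a ≫ g = (pw g n).hom
  | 0, _ => Category.id_comp g
  | n + 1, a => by
    induction a using Fin.lastCases with
    | last =>
      rw [pr_last]
      exact pullback.condition.symm
    | cast a =>
      rw [pr_castSucc, Category.assoc, pr_w g n a]
      rfl

lemma pw_hom_ext {W V : C} (g : W ⟶ V) : ∀ (n : ℕ) {Z : C} (f f' : Z ⟶ (pw g n).left)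
    (_ : ∀ a, f ≫ pr g n a = f' ≫ pr g n a), f = f'
  | 0, Z, f, f', h => by
    have := h 0
    rw [pr_zero] at this
    exact (Category.comp_id f).symm.trans (this.trans (Category.comp_id f'))
  | n + 1, Z, f, f', h => by
    refine pullback.hom_ext (pw_hom_ext g n _ _ fun a => ?_) ?_
    · have := h a.castSucc
      rw [pr_castSucc] at this
      exact (Category.assoc _ _ _).trans (this.trans (Category.assoc _ _ _).symm)
    · have := h (Fin.last (n + 1))
      rwa [pr_last] at this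

theorem pw_exists_lift {W V : C} (g : W ⟶ V) : ∀ (n : ℕ) {Z : C} (z : Z ⟶ V)
    (t : Fin (n + 1) → (Z ⟶ W)) (_ : ∀ a, t a ≫ g = z),
    ∃ l : Z ⟶ (pw g n).left, ∀ a, l ≫ pr g n a = t a
  | 0, Z, z, t, _ => ⟨t 0, fun a => by
      rw [Subsingleton.elim (α := Fin 1) a 0, pr_zero]
      exact Category.comp_id _⟩
  | n + 1, Z, z, t, ht => by
    obtain ⟨l, hl⟩ := pw_exists_lift g n z (fun a => t a.castSucc) fun a => ht _
    have hl' : l ≫ (pw g n).hom = t (Fin.last (n + 1)) ≫ g := by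
      rw [← pr_w g n 0, ← Category.assoc, hl, ht, ht]
    refine ⟨pullback.lift l (t (Fin.last (n + 1))) hl', fun a => ?_⟩
    induction a using Fin.lastCases with
    | last =>
      rw [pr_last]
      exact pullback.lift_snd _ _ _
    | cast a =>
      rw [pr_castSucc]
      exact (Category.assoc _ _ _).symm.trans
        ((congrArg (· ≫ _) (pullback.lift_fst _ _ _)).trans (hl a))

/-- The map to a fibre power given by a compatible tuple. -/
noncomputable def pwLift {W V : C} (g : W ⟶ V) (n : ℕ) {Z : C} (z : Z ⟶ V)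
    (t : Fin (n + 1) → (Z ⟶ W)) (ht : ∀ a, t a ≫ g = z) : Z ⟶ (pw g n).left :=
  (pw_exists_lift g n z t ht).choose

@[simp]
lemma pwLift_pr {W V : C} (g : W ⟶ V) (n : ℕ) {Z : C} (z : Z ⟶ V)
    (t : Fin (n + 1) → (Z ⟶ W)) (ht : ∀ a, t a ≫ g = z) (a : Fin (n + 1)) :
    pwLift g n z t ht ≫ pr g n a = t a :=
  (pw_exists_lift g n z t ht).choose_spec a

lemma pwLift_hom {W V : C} (g : W ⟶ V) (n : ℕ) {Z : C} (z : Z ⟶ V)
    (t : Fin (n + 1) → (Z ⟶ W)) (ht : ∀ a, t a ≫ g = z) :
    pwLift g n z t ht ≫ (pw g n).hom = z := by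
  rw [← pr_w g n 0, ← Category.assoc, pwLift_pr, ht]

/-- The face maps. -/
noncomputable def pwδ {W V : C} (g : W ⟶ V) (n : ℕ) (j : Fin (n + 2)) :
    (pw g (n + 1)).left ⟶ (pw g n).left :=
  pwLift g n (pw g (n + 1)).hom (fun a => pr g (n + 1) (j.succAbove a)) fun _ => pr_w _ _ _

lemma pwδ_pr {W V : C} (g : W ⟶ V) (n : ℕ) (j : Fin (n + 2)) (a : Fin (n + 1)) :
    pwδ g n j ≫ pr g n a = pr g (n + 1) (j.succAbove a) :=
  pwLift_pr ..

lemma pwδ_hom {W V : C} (g : W ⟶ V) (n : ℕ) (j : Fin (n + 2)) :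
    pwδ g n j ≫ (pw g n).hom = (pw g (n + 1)).hom :=
  pwLift_hom ..

/-- Functoriality in the arrow. -/
noncomputable def pwMap {W V W' V' : C} {g : W ⟶ V} {g' : W' ⟶ V'} (α : W ⟶ W') (β : V ⟶ V')
    (h : α ≫ g' = g ≫ β) (n : ℕ) : (pw g n).left ⟶ (pw g' n).left :=
  pwLift g' n ((pw g n).hom ≫ β) (fun a => pr g n a ≫ α) fun a => by
    rw [Category.assoc, h, ← Category.assoc, pr_w]

lemma pwMap_pr {W V W' V' : C} {g : W ⟶ V} {g' : W' ⟶ V'} (α : W ⟶ W') (β : V ⟶ V')
    (h : α ≫ g' = g ≫ β) (n : ℕ) (a : Fin (n + 1)) :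
    pwMap α β h n ≫ pr g' n a = pr g n a ≫ α :=
  pwLift_pr ..

lemma pwMap_hom {W V W' V' : C} {g : W ⟶ V} {g' : W' ⟶ V'} (α : W ⟶ W') (β : V ⟶ V')
    (h : α ≫ g' = g ≫ β) (n : ℕ) :
    pwMap α β h n ≫ (pw g' n).hom = (pw g n).hom ≫ β :=
  pwLift_hom ..

lemma pwMap_δ {W V W' V' : C} {g : W ⟶ V} {g' : W' ⟶ V'} (α : W ⟶ W') (β : V ⟶ V')
    (h : α ≫ g' = g ≫ β) (n : ℕ) (j : Fin (n + 2)) :
    pwMap α β h (n + 1) ≫ pwδ g' n j = pwδ g n j ≫ pwMap α β h n :=
  pw_hom_ext g' n _ _ fun a => by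
    rw [Category.assoc, Category.assoc, pwδ_pr, pwMap_pr, pwMap_pr, ← Category.assoc, pwδ_pr]

section Limit

variable {K : Type u'} [Category.{v'} K] {W V : K ⥤ C} (g : W ⟶ V)

/-- The diagram of fibre powers. -/
noncomputable def pwFunctor (n : ℕ) : K ⥤ C where
  obj k := (pw (g.app k) n).left
  map f := pwMap (W.map f) (V.map f) (g.naturality f) n
  map_id k := pw_hom_ext _ n _ _ fun a => by
    rw [pwMap_pr, Category.id_comp, W.map_id, Category.comp_id]
  map_comp f f' := pw_hom_ext _ n _ _ fun a => by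
    rw [pwMap_pr, W.map_comp, Category.assoc, pwMap_pr, ← Category.assoc, ← Category.assoc,
      pwMap_pr]

variable {cW : Cone W} {cV : Cone V} (g₀ : cW.pt ⟶ cV.pt)
  (h : ∀ k, cW.π.app k ≫ g.app k = g₀ ≫ cV.π.app k)

/-- The cone of fibre powers. -/
noncomputable def pwCone (n : ℕ) : Cone (pwFunctor g n) where
  pt := (pw g₀ n).left
  π :=
    { app := fun k => pwMap (cW.π.app k) (cV.π.app k) (h k) n
      naturality := fun i j f => by
        refine (Category.id_comp _).trans (pw_hom_ext _ n _ _ fun a => ?_)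
        dsimp [pwFunctor]
        rw [pwMap_pr, Category.assoc, pwMap_pr, ← Category.assoc, pwMap_pr, Category.assoc, cW.w] }

/-- Fibre powers commute with limits over nonempty index categories. -/
theorem nonempty_isLimit_pwCone (hW : IsLimit cW) (hV : IsLimit cV) (n : ℕ) :
    Nonempty (IsLimit (pwCone g g₀ h n)) := by
  let s₀ : ∀ (_ : Cone (pwFunctor g n)) (_ : Fin (n + 1)), Cone W := fun s a =>
    { pt := s.pt
      π :=
        { app := fun k => s.π.app k ≫ pr (g.app k) n a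
          naturality := fun i j f => by
            refine (Category.id_comp _).trans ?_
            rw [← s.w f, Category.assoc, Category.assoc]
            exact congrArg (s.π.app i ≫ ·)
              (pwMap_pr (W.map f) (V.map f) (g.naturality f) n a) } }
  have hw : ∀ (s : Cone (pwFunctor g n)) (a : Fin (n + 1)),
      hW.lift (s₀ s a) ≫ g₀ = hW.lift (s₀ s 0) ≫ g₀ := fun s a => hV.hom_ext fun k => by
    rw [Category.assoc, Category.assoc, ← h k, ← Category.assoc, ← Category.assoc, hW.fac, hW.fac]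
    dsimp [s₀]
    simp only [Category.assoc, pr_w]
  exact ⟨{
    lift := fun s => pwLift g₀ n _ (fun a => hW.lift (s₀ s a)) (hw s)
    fac := fun s k => pw_hom_ext _ n _ _ fun a => by
      dsimp [pwCone]
      rw [Category.assoc, pwMap_pr, ← Category.assoc, pwLift_pr, hW.fac]
    uniq := fun s m hm => pw_hom_ext _ n _ _ fun a => by
      rw [pwLift_pr]
      refine hW.hom_ext fun k => ?_
      rw [hW.fac]
      dsimp [s₀]
      rw [← hm k]
      dsimp [pwCone]
      rw [Category.assoc, Category.assoc, pwMap_pr] }⟩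

end Limit

end Groth.EtaleDeep.Eps
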