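import Groth.Agent.EtaleDeep.Eps.Push

/-!
# Higher direct images of inverse images from the etale site
-/

set_option autoImplicit false
set_option backward.isDefEq.respectTransparency.types false
set_option linter.style.haveILetI false

universe u

open CategoryTheory CategoryTheory.Limits AlgebraicGeometry Opposite

namespace Groth.EtaleDeep.Eps

variable {X Y : Scheme.{u}} (f : X ⟶ Y) [QuasiCompact f] [QuasiSeparated f] [ProEtS.EpsCont X]
  [ProEtS.EpsCont Y] [ProEtS.PCont f]

omit [QuasiCompact f] [QuasiSeparated f] [ProEtS.EpsCont X] [ProEtS.EpsCont Y] [ProEtS.PCont f] in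
theorem preservesFiniteLimits_etPush : PreservesFiniteLimits (EtCoh.push f) := by
  have : PreservesLimitsOfSize.{0, 0} (EtCoh.push f) :=
    ((EtCoh.bc f).sheafAdjunctionContinuous AddCommGrpCat.{u + 1} Y.smallEtaleTopology
      X.smallEtaleTopology).rightAdjoint_preservesLimits
  exact PreservesLimitsOfSize.preservesFiniteLimits _

/-- The higher direct images of inverse images are the inverse images of the higher direct images. -/
theorem nonempty_RpushP_epsPull : ∀ (q : ℕ) (F : EtCoh.Ab X),
    Nonempty (((ProEtS.pushP f).rightDerived q).obj ((ProEtS.epsPull X).obj F) ≅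
      (ProEtS.epsPull Y).obj (((EtCoh.push f).rightDerived q).obj F)) := by
  have := preservesFiniteLimits_pushP f
  have := preservesFiniteLimits_etPush f
  have := epsPull_preservesFiniteLimits (X := X)
  have : PreservesFiniteColimits (ProEtS.epsPull X) :=
    have : PreservesColimitsOfSize.{0, 0} (ProEtS.epsPull X) :=
      (ProEtS.epsAdj X).leftAdjoint_preservesColimits
    PreservesColimitsOfSize.preservesFiniteColimits _
  have : PreservesColimitsOfSize.{0, 0} (ProEtS.epsPull Y) :=
    (ProEtS.epsAdj Y).leftAdjoint_preservesColimits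
  have : (ProEtS.epsPull Y).Additive := (ProEtS.epsAdj Y).left_adjoint_additive
  intro q
  induction q using Nat.strong_induction_on with
  | _ q ih =>
    intro F
    have hS := CohFin.injSeq_shortExact F
    have hS' := hS.map_of_exact (ProEtS.epsPull X)
    have hac : CohFin.RightAcyclic (ProEtS.pushP f)
        ((CohFin.injSeq F).map (ProEtS.epsPull X)).X₂ :=
      rightAcyclic_pushP_of_good f _ (good_epsPull (CohFin.injSeq F).X₂)
    match q with
    | 0 =>
      have := isIso_pushEpsMate_app f F
      exact ⟨(ProEtS.pushP f).rightDerivedZeroIsoSelf.app _ ≪≫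
        (asIso ((pushEpsMate f).app F)).symm ≪≫
          (ProEtS.epsPull Y).mapIso ((EtCoh.push f).rightDerivedZeroIsoSelf.app F).symm⟩
    | 1 =>
      obtain ⟨e⟩ := CohFin.nonempty_rightDerived_one_iso (F := ProEtS.pushP f) hS' hac
      obtain ⟨e'⟩ := CohFin.nonempty_rightDerived_one_iso_of_injective (F := EtCoh.push f) hS
      have := isIso_pushEpsMate_app f (CohFin.injSeq F).X₂
      have := isIso_pushEpsMate_app f (CohFin.injSeq F).X₃
      exact ⟨e ≪≫ (cokernel.mapIso _ _ (asIso ((pushEpsMate f).app _)) (asIso ((pushEpsMate f).app _))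
        ((pushEpsMate f).naturality (CohFin.injSeq F).g)).symm ≪≫
          (PreservesCokernel.iso (ProEtS.epsPull Y) _).symm ≪≫ (ProEtS.epsPull Y).mapIso e'.symm⟩
    | k + 2 =>
      obtain ⟨e⟩ := CohFin.nonempty_rightDerived_shift (F := ProEtS.pushP f) k _ hS' hac
      obtain ⟨e'⟩ := CohFin.nonempty_rightDerived_shift (F := EtCoh.push f) k _ hS
        (CohFin.rightAcyclic_of_injective _ _)
      obtain ⟨e''⟩ := ih (k + 1) (Nat.lt_succ_self _) (CohFin.injSeq F).X₃
      exact ⟨e ≪≫ e'' ≪≫ (ProEtS.epsPull Y).mapIso e'.symm⟩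

end Groth.EtaleDeep.Eps
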