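import Groth.Agent.EtaleDeep.Eps.Stage

/-!
# Affine towers are ind-etale
-/

set_option autoImplicit false
set_option backward.isDefEq.respectTransparency.types false
set_option linter.style.haveILetI false

universe u

open CategoryTheory CategoryTheory.Limits AlgebraicGeometry Opposite

namespace Groth.EtaleDeep.Eps

variable {X : Scheme.{u}}

/-- A tower is an ind-etale object. -/
theorem Tower.toIE {V : X.ProEt} (T : Tower V) : IE V := by
  obtain ⟨k₀⟩ : Nonempty T.J := IsCofiltered.nonempty
  have hV : IsAffine V.left := T.isAffine_left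
  have : ∀ k, IsAffine (T.D.obj k).left := T.isAffine
  let a := T.π k₀
  refine ⟨T.D.obj k₀, a, hV, T.isAffine k₀, ?_⟩
  let D' : Over k₀ ⥤ Scheme.{u} := Over.forget k₀ ⋙ schD T.D
  let c' : Cone D' := T.cone.whisker (Over.forget k₀)
  let hc' : IsLimit c' := (Functor.Initial.isLimitWhiskerEquiv (Over.forget k₀) T.cone).symm T.isLimit
  have hD : ∀ o, IsAffine (D'.obj o) := fun o => T.isAffine o.left
  have : ∀ o, CompactSpace (D'.obj o) := fun o => inferInstance
  have : ∀ o, QuasiSeparatedSpace (D'.obj o) := fun o => inferInstance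
  have : ∀ {i j : Over k₀} (f : i ⟶ j), IsAffineHom (D'.map f) := fun {i j} f => inferInstance
  obtain ⟨hcol⟩ := nonempty_isColimit_Γ_mapCocone D' c' hc'
  have hT := isColimitOfPreserves (forget CommRingCat.{u}) hcol
  let str : ∀ o : Over k₀, D'.obj o ⟶ (T.D.obj k₀).left := fun o => (T.D.map o.hom).left
  have hstr : ∀ {i j : Over k₀} (f : i ⟶ j), D'.map f ≫ str j = str i := fun {i j} f => by
    refine Eq.trans ?_ (congrArg (fun m => (T.D.map m).left) (Over.w f))
    exact (congrArg (fun m => m.left) (T.D.map_comp f.left j.hom)).symm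
  letI : Algebra Γ((T.D.obj k₀).left, ⊤) Γ(V.left, ⊤) := a.left.appTop.hom.toAlgebra
  letI : ∀ o : (Over k₀)ᵒᵖ, Algebra Γ((T.D.obj k₀).left, ⊤) Γ(D'.obj o.unop, ⊤) :=
    fun o => (str o.unop).appTop.hom.toAlgebra
  change EtPBC.IsIndEtale Γ((T.D.obj k₀).left, ⊤) Γ(V.left, ⊤)
  refine IndEt.isIndEtale_iff.mpr ⟨
    { J := (Over k₀)ᵒᵖ
      G := fun o => Γ(D'.obj o.unop, ⊤)
      f := fun {i j} u => AlgHom.mk (D'.map u.unop).appTop.hom fun r => by
        change ((str i.unop).appTop ≫ (D'.map u.unop).appTop) r = _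
        rw [← Scheme.Hom.comp_appTop, hstr]
        rfl
      f_id := fun i x => ?_
      f_comp := fun u v x => ?_
      g := fun o => AlgHom.mk (c'.π.app o.unop).appTop.hom fun r => by
        change ((str o.unop).appTop ≫ (c'.π.app o.unop).appTop) r = _
        rw [← Scheme.Hom.comp_appTop,
          show c'.π.app o.unop ≫ str o.unop = a.left from T.π_w o.unop.hom]
        rfl
      g_f := fun {i j} u x => ?_
      surj := fun b => by
        obtain ⟨o, x, hx⟩ := Types.jointly_surjective_of_isColimit hT b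
        exact ⟨o, x, hx⟩
      eq := fun i x y h => (Types.FilteredColimit.isColimit_eq_iff' hT x y).mp h
      prop := fun o => ?_ }⟩
  · exact ConcreteCategory.congr_hom ((D'.op ⋙ Scheme.Γ).map_id i) x
  · exact ConcreteCategory.congr_hom ((D'.op ⋙ Scheme.Γ).map_comp u v) x
  · exact ConcreteCategory.congr_hom ((Scheme.Γ.mapCocone c'.op).w u) x
  · have : Etale (str o.unop) := inferInstanceAs (Etale (T.D.map o.unop.hom).left)
    exact RingHom.etale_algebraMap.1 ((HasRingHomProperty.iff_of_isAffine (P := @Etale)).1 this)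

end Groth.EtaleDeep.Eps
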