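import Groth.Agent.EtaleDeep.Eps.Colim
import Groth.Agent.EtaleDeep.Eps.TowerIE

/-!
# Quasi-compact quasi-separated limits of etale objects
-/

set_option autoImplicit false
set_option backward.isDefEq.respectTransparency.types false
set_option backward.isDefEq.respectTransparency false
set_option linter.style.haveILetI false

universe u

open CategoryTheory CategoryTheory.Limits AlgebraicGeometry Opposite

namespace Groth.EtaleDeep.Eps

variable {X : Scheme.{u}}

theorem compactSpace_qs_pw {W V : Scheme.{u}} (g : W ⟶ V) [CompactSpace W] [QuasiSeparatedSpace W]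
    [QuasiSeparatedSpace V] :
    ∀ n, CompactSpace (pw g n).left ∧ QuasiSeparatedSpace (pw g n).left
  | 0 => ⟨‹CompactSpace W›, ‹QuasiSeparatedSpace W›⟩
  | n + 1 => by
    obtain ⟨_, _⟩ := compactSpace_qs_pw g n
    have : QuasiCompact g := inferInstance
    have : QuasiSeparated g := inferInstance
    exact ⟨QuasiCompact.compactSpace_of_compactSpace (pullback.fst (pw g n).hom g),
      quasiSeparatedSpace_of_quasiSeparated (pullback.fst (pw g n).hom g)⟩

/-- Fibre powers commute with base change. -/
theorem isPullback_pwMap {C : Type*} [Category C] [HasPullbacks C] {W V W' V' : C} {g : W ⟶ V}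
    {g' : W' ⟶ V'} {α : W ⟶ W'} {β : V ⟶ V'} (h : IsPullback α g g' β) (n : ℕ) :
    IsPullback (pwMap α β h.w n) (pw g n).hom (pw g' n).hom β := by
  let t : ∀ (c : PullbackCone (pw g' n).hom β) (_ : Fin (n + 1)), c.pt ⟶ W := fun c a =>
    h.lift (c.fst ≫ pr g' n a) c.snd (by rw [Category.assoc, pr_w, c.condition])
  have ht : ∀ c a, t c a ≫ g = c.snd := fun c a => h.lift_snd _ _ _
  have ht' : ∀ c a, t c a ≫ α = c.fst ≫ pr g' n a := fun c a => h.lift_fst _ _ _
  refine IsPullback.of_isLimit' ⟨pwMap_hom α β h.w n⟩ (PullbackCone.IsLimit.mk _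
    (fun c => pwLift g n c.snd (t c) (ht c)) (fun c => ?_) (fun c => pwLift_hom _ _ _ _ _)
    fun c m hm₁ hm₂ => ?_)
  · refine pw_hom_ext g' n _ _ fun a => ?_
    rw [Category.assoc, pwMap_pr, ← Category.assoc, pwLift_pr, ht']
  · refine pw_hom_ext g n _ _ fun a => ?_
    rw [pwLift_pr]
    refine h.hom_ext ?_ ?_
    · rw [ht', Category.assoc, ← pwMap_pr α β h.w n a, ← Category.assoc, hm₁]
    · rw [ht, Category.assoc, pr_w, hm₂]

/-- A presentation as a limit of quasi-compact quasi-separated etale objects. -/
structure ETow (P : X.ProEt) where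
  /-- the index category -/
  K : Type u
  [smallCategory : SmallCategory K]
  [isCofiltered : IsCofiltered K]
  /-- the diagram -/
  D : K ⥤ X.Etale
  compact : ∀ k, CompactSpace ↥(D.obj k).left
  qsep : ∀ k, QuasiSeparatedSpace ↥(D.obj k).left
  affineHom : ∀ {i j : K} (f : i ⟶ j), IsAffineHom (D.map f).left
  /-- the projections -/
  π : ∀ k, P ⟶ (ProEtS.eps X).obj (D.obj k)
  π_w : ∀ {i j : K} (f : i ⟶ j), π i ≫ (ProEtS.eps X).map (D.map f) = π j
  isLimit : IsLimit
    ({ pt := P.left
       π := { app := fun j => (π j).left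
              naturality := fun _ _ f => (Category.id_comp _).trans
                (congrArg (fun m => m.left) (π_w f)).symm } } :
      Cone ((D ⋙ ProEtS.eps X) ⋙ Scheme.ProEt.forget X ⋙ Over.forget X))

attribute [instance] ETow.smallCategory ETow.isCofiltered

namespace ETow

variable {P : X.ProEt} (T : ETow P)

/-- The underlying system. -/
noncomputable abbrev sys : LimSys T.K P where
  D := T.D ⋙ ProEtS.eps X
  compact := T.compact
  qsep := T.qsep
  affineHom := T.affineHom
  π := T.π
  π_w := T.π_w
  isLimit := T.isLimit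

include T in
theorem compactSpace : CompactSpace P.left := T.sys.compactSpace_pt

include T in
theorem quasiSeparatedSpace : QuasiSeparatedSpace P.left := by
  obtain ⟨k⟩ : Nonempty T.K := IsCofiltered.nonempty
  have : ∀ {i j} (f : i ⟶ j),
      IsAffineHom (((T.D ⋙ ProEtS.eps X) ⋙ Scheme.ProEt.forget X ⋙ Over.forget X).map f) :=
    T.affineHom
  have : IsAffineHom (T.π k).left := isAffineHom_π_app _ _ T.isLimit k
  have : QuasiSeparatedSpace ↥((ProEtS.eps X).obj (T.D.obj k)).left := T.qsep k
  exact quasiSeparatedSpace_of_quasiSeparated (T.π k).left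

include T in
/-- Sections of the inverse image over a tower. -/
theorem bijective_toSheafify [ProEtS.EpsCont X] (F : EtCoh.Ab X) :
    Function.Bijective ((η F).app (op P)) := by
  refine ⟨toSheafify_injective F P, fun s => ?_⟩
  obtain ⟨k, y, rfl⟩ := LimSys.shL_exists_map_eq (T.sys) (F := F) s
  have := isIso_unit_app F
  have hu : Function.Bijective (((ProEtS.epsAdj X).unit.app F).hom.app (op (T.D.obj k))) :=
    (ConcreteCategory.isIso_iff_bijective _).1 (inferInstanceAs
      (IsIso (((sheafToPresheaf _ _).map ((ProEtS.epsAdj X).unit.app F)).app (op (T.D.obj k)))))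
  obtain ⟨y', rfl⟩ := (bijective_epsIso F _).2 y
  obtain ⟨t, rfl⟩ := hu.2 y'
  refine ⟨(lanObj F.obj).map (T.π k).op (germ F.obj (T.D.obj k) (𝟙 _) t), ?_⟩
  rw [NatTrans.naturality_apply (η F)]
  refine congrArg ((shL F).map (T.π k).op) ((epsIso_sec F (T.D.obj k) (𝟙 _) t).symm.trans ?_)
  refine congrArg _ ?_
  rw [sec, op_id]
  exact Functor.map_id_apply _ _ _

variable (k₀ : T.K) {E' : X.Etale} (q : E' ⟶ T.D.obj k₀)

/-- The stages of the pullback of an etale object of a stage, as etale objects. -/
noncomputable def coverStage (o : Over k₀) : X.Etale :=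
  haveI : Etale (T.D.map o.hom).left := inferInstance
  haveI : Etale (pullback.fst q.left (T.D.map o.hom).left ≫ E'.hom) :=
    MorphismProperty.comp_mem @Etale _ _ (MorphismProperty.pullback_fst _ _ this) E'.prop
  Scheme.Etale.mk (pullback.fst q.left (T.D.map o.hom).left ≫ E'.hom)

/-- The pullback of an etale object of a stage. -/
noncomputable abbrev cover : X.ProEt := T.sys.bcPt (k := k₀) ((ProEtS.eps X).map q)

/-- The map from the pullback. -/
noncomputable abbrev coverHom : T.cover k₀ q ⟶ P := T.sys.bcPtSnd (k := k₀) ((ProEtS.eps X).map q)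

/-- The pullback of an affine etale object is ind-etale. -/
theorem IE_cover [IsAffine E'.left] : IE (T.cover k₀ q) := by
  let S := T.sys
  let g := (ProEtS.eps X).map q
  refine Tower.toIE
    { J := Over k₀
      D :=
        { obj := T.coverStage k₀ q
          map := fun {i j} f => epsPreimage (E := T.coverStage k₀ q j) (E' := T.coverStage k₀ q i)
            (show (ProEtS.eps X).obj (T.coverStage k₀ q i) ⟶ (ProEtS.eps X).obj (T.coverStage k₀ q j)
              from (S.bcD g).map f)
          map_id := fun i => MorphismProperty.Over.Hom.ext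
            (congrArg (fun m => m.left) ((S.bcD g).map_id i))
          map_comp := fun f f' => MorphismProperty.Over.Hom.ext
            (congrArg (fun m => m.left) ((S.bcD g).map_comp f f')) }
      isAffine := fun o => ?_
      π := fun o => S.bcπ g o
      π_w := fun f => congrArg (fun m => m.left) (S.bcπ_w g f)
      isLimit := IsLimit.ofIsoLimit (S.nonempty_isLimit_bcCone g).some
        (Cone.ext (Iso.refl _) fun j => (Category.id_comp _).symm) }
  have := T.affineHom o.hom
  have : IsAffineHom (pullback.fst q.left (T.D.map o.hom).left) :=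
    MorphismProperty.pullback_fst (P := @IsAffineHom) _ _ this
  exact isAffine_of_isAffineHom (pullback.fst q.left (T.D.map o.hom).left)

end ETow

/-- The fibre powers of an affine etale cover of a tower are towers, and the Čech complexes of
inverse images of injective sheaves along it are exact. -/
theorem ETow.cover_powers {P : X.ProEt} (T : ETow P) (k₀ : T.K) {E' : X.Etale} [IsAffine E'.left]
    (q : E' ⟶ T.D.obj k₀) :
    (∀ n, Nonempty (ETow (powP (T.coverHom k₀ q) n))) ∧
      ∀ (I : EtCoh.Ab X) [Injective I], CechExactP (lanObj I.obj) (T.coverHom k₀ q) := by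
  let S := T.sys
  let g := (ProEtS.eps X).map q
  let Wk : Over k₀ ⥤ Scheme.{u} := S.bcD g ⋙ Scheme.ProEt.forget X ⋙ Over.forget X
  let Dk : Over k₀ ⥤ Scheme.{u} :=
    Over.forget k₀ ⋙ (T.D ⋙ ProEtS.eps X) ⋙ Scheme.ProEt.forget X ⋙ Over.forget X
  let gk : Wk ⟶ Dk :=
    { app := fun o => (S.bcSnd g o).left
      naturality := fun i j f => congrArg (fun m => m.left) (S.bcD_map_snd g f) }
  let cW : Cone Wk := S.bcCone g
  let cV : Cone Dk := S.cone.whisker (Over.forget k₀)
  let hV : IsLimit cV :=
    (Functor.Initial.isLimitWhiskerEquiv (Over.forget k₀) S.cone).symm S.isLimit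
  let hW : IsLimit cW := (S.nonempty_isLimit_bcCone g).some
  let g₀ := (T.coverHom k₀ q).left
  have hcomm : ∀ o, cW.π.app o ≫ gk.app o = g₀ ≫ cV.π.app o := fun o =>
    congrArg (fun m => m.left) (S.bcπ_snd g o)
  let E₀ : Over k₀ → X.Etale := fun o => T.D.obj o.left
  let E₁ : Over k₀ → X.Etale := T.coverStage k₀ q
  let qj : ∀ o, E₁ o ⟶ E₀ o := fun o =>
    epsPreimage (E := E₀ o) (E' := E₁ o)
      (show (ProEtS.eps X).obj (E₁ o) ⟶ (ProEtS.eps X).obj (E₀ o) from S.bcSnd g o)
  let De : ℕ → Over k₀ ⥤ X.Etale := fun n =>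
    { obj := fun j => powE (qj j) n
      map := fun {i j} f => MorphismProperty.Over.homMk ((pwFunctor gk n).map f) (by
        refine (Category.assoc _ _ _).symm.trans ((congrArg (· ≫ (E₀ j).hom)
          (pwMap_hom (Wk.map f) (Dk.map f) (gk.naturality f) n)).trans ?_)
        exact (Category.assoc _ _ _).trans (congrArg ((pw (gk.app i) n).hom ≫ ·)
          (MorphismProperty.Over.w (T.D.map f.left))))
      map_id := fun j => MorphismProperty.Over.Hom.ext ((pwFunctor gk n).map_id j)
      map_comp := fun f f' => MorphismProperty.Over.Hom.ext ((pwFunctor gk n).map_comp f f') }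
  have hqcqs : ∀ n o, CompactSpace ↥((De n).obj o).left ∧ QuasiSeparatedSpace ↥((De n).obj o).left := by
    intro n o
    have h0 := T.affineHom o.hom
    have : IsAffineHom (pullback.fst q.left (T.D.map o.hom).left) :=
      MorphismProperty.pullback_fst (P := @IsAffineHom) _ _ h0
    have h1 : IsAffine (E₁ o).left :=
      isAffine_of_isAffineHom (pullback.fst q.left (T.D.map o.hom).left)
    have h3 : CompactSpace ↥(E₁ o).left := inferInstance
    have h4 : QuasiSeparatedSpace ↥(E₁ o).left := inferInstance
    exact @compactSpace_qs_pw (E₁ o).left (E₀ o).left (gk.app o) h3 h4 (T.qsep o.left) n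
  let πe : ∀ n j, powP (T.coverHom k₀ q) n ⟶ (ProEtS.eps X).obj ((De n).obj j) := fun n j =>
    toEps (pwMap (g := g₀) (g' := gk.app j) (cW.π.app j) (cV.π.app j) (hcomm j) n) (by
      refine (Category.assoc _ _ _).symm.trans ((congrArg (· ≫ (E₀ j).hom)
        (pwMap_hom (cW.π.app j) (cV.π.app j) (hcomm j) n)).trans ?_)
      exact (Category.assoc _ _ _).trans (congrArg ((pw g₀ n).hom ≫ ·) (eps_w (T.π j.left))))
  let Tn : ∀ n, ETow (powP (T.coverHom k₀ q) n) := fun n =>
    { K := Over k₀
      D := De n
      compact := fun o => (hqcqs n o).1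
      qsep := fun o => (hqcqs n o).2
      affineHom := fun {i j} f => by
        have := T.affineHom f.left
        have h0 : IsAffineHom (Dk.map f) := this
        have hp : IsPullback (Wk.map f) (gk.app i) (gk.app j) (Dk.map f) := by
          refine IsPullback.of_right (h₁₂ := pullback.fst q.left (T.D.map j.hom).left)
            (v₁₃ := q.left) (h₂₂ := (T.D.map j.hom).left) ?_ (gk.naturality f)
            (IsPullback.of_hasPullback _ _)
          have e1 : Wk.map f ≫ pullback.fst q.left (T.D.map j.hom).left =
              pullback.fst q.left (T.D.map i.hom).left :=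
            congrArg (fun m => m.left) (S.bcD_map_fst g f)
          have e2 : Dk.map f ≫ (T.D.map j.hom).left = (T.D.map i.hom).left :=
            (congrArg (fun m => m.left) (T.D.map_comp f.left j.hom)).symm.trans
              (congrArg (fun m => (T.D.map m).left) (Over.w f))
          rw [e1, e2]
          exact IsPullback.of_hasPullback _ _
        exact MorphismProperty.of_isPullback (P := @IsAffineHom) (isPullback_pwMap hp n).flip h0
      π := πe n
      π_w := fun {i j} f => MorphismProperty.Over.Hom.ext
        ((pwCone (cW := cW) (cV := cV) gk g₀ hcomm n).w f)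
      isLimit := IsLimit.ofIsoLimit (nonempty_isLimit_pwCone (cW := cW) (cV := cV) gk g₀ hcomm hW hV n).some
        (Cone.ext (Iso.refl _) fun j => (Category.id_comp _).symm) }
  refine ⟨fun n => ⟨Tn n⟩, fun I hI => ?_⟩
  refine cechExact_limit (K := Over k₀) I (fun n => (Tn n).sys)
    (fun n l =>
      { app := fun j => (ProEtS.eps X).map (powEδ (qj j) n l)
        naturality := fun i j f => MorphismProperty.Over.Hom.ext
          (pwMap_δ (Wk.map f) (Dk.map f) (gk.naturality f) n l) })
    (fun n l j => MorphismProperty.Over.Hom.ext (pwMap_δ _ _ (hcomm j) n l)) fun j => ?_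
  exact cechExact_eps I (qj j)

end Groth.EtaleDeep.Eps
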