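import Groth.Agent.EtaleDeep.Eps.Stage
import Groth.Agent.EtaleDeep.IndEt.Enlarge
import Groth.Agent.FlatMor2.WeaklyEtaleStalk

/-!
# Ind-etale refinements of pro-etale coverings
-/

set_option autoImplicit false
set_option backward.isDefEq.respectTransparency.types false
set_option linter.style.haveILetI false

universe u

open CategoryTheory CategoryTheory.Limits AlgebraicGeometry Opposite

namespace Groth.EtaleDeep.Eps

variable {X : Scheme.{u}}

/-- An affine object has a surjection, ind-etale over a given affine object below it. -/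
theorem exists_relIE_cover {W V : X.ProEt} (g : W ⟶ V) [IsAffine W.left] [IsAffine V.left] :
    ∃ (W' : X.ProEt) (h : W' ⟶ W), Surjective h.left ∧ RelIE (h ≫ g) := by
  have := ProEt.weaklyEtale_left g
  let φ := g.left.appTop
  letI : Algebra Γ(V.left, ⊤) Γ(W.left, ⊤) := φ.hom.toAlgebra
  have hnat : Spec.map φ = W.left.isoSpec.inv ≫ g.left ≫ V.left.isoSpec.hom := by
    rw [← Scheme.isoSpec_inv_naturality_assoc, Iso.inv_hom_id, Category.comp_id]
  have hwe : WeaklyEtale (Spec.map φ) := by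
    rw [hnat]; infer_instance
  have hW : Algebra.WeaklyEtale Γ(V.left, ⊤) Γ(W.left, ⊤) :=
    FlatMor2.isWeaklyEtaleHom_iff.1 ((FlatMor2.weaklyEtale_SpecMap_iff φ).1 hwe)
  obtain ⟨D, _, _, _, _, hff, hind, hind'⟩ :=
    IndEt.exists_indEtale_enlarge Γ(V.left, ⊤) Γ(W.left, ⊤)
  let ψ : Γ(W.left, ⊤) ⟶ CommRingCat.of D := CommRingCat.ofHom (algebraMap Γ(W.left, ⊤) D)
  have hψ : WeaklyEtale (Spec.map ψ) := (FlatMor2.weaklyEtale_SpecMap_iff ψ).2
    (FlatMor2.isWeaklyEtaleHom_iff.2 (IndEt.weaklyEtale hind))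
  have hsj : Surjective (Spec.map ψ) :=
    ((flat_and_surjective_SpecMap_iff ψ).2 (RingHom.faithfullyFlat_algebraMap_iff.2 hff)).2
  let W' : X.ProEt := Scheme.ProEt.mk ((Spec.map ψ ≫ W.left.isoSpec.inv) ≫ W.hom)
  let h : W' ⟶ W := MorphismProperty.Over.homMk (Spec.map ψ ≫ W.left.isoSpec.inv) rfl
  refine ⟨W', h, inferInstanceAs (Surjective (Spec.map ψ ≫ W.left.isoSpec.inv)),
    inferInstanceAs (IsAffine (Spec (CommRingCat.of D))), ‹_›, ?_⟩
  have h0 : (Spec.map ψ ≫ W.left.isoSpec.inv) ≫ g.left =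
      Spec.map (φ ≫ ψ) ≫ V.left.isoSpec.inv := by
    rw [Spec.map_comp, Category.assoc, Category.assoc, Scheme.isoSpec_inv_naturality g.left]
  have h1 : IndEt (φ ≫ ψ) := by
    have e : φ ≫ ψ = CommRingCat.ofHom (algebraMap Γ(V.left, ⊤) D) := CommRingCat.hom_ext
      (IsScalarTower.algebraMap_eq Γ(V.left, ⊤) Γ(W.left, ⊤) D).symm
    rw [e]
    exact indEt_iff.2 hind'
  change IndEt ((Spec.map ψ ≫ W.left.isoSpec.inv) ≫ g.left).appTop
  rw [h0, Scheme.Hom.comp_appTop]
  have h2 : IndEt (Spec.map (φ ≫ ψ)).appTop := by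
    have e : (Spec.map (φ ≫ ψ)).appTop =
        (Scheme.ΓSpecIso _).hom ≫ (φ ≫ ψ) ≫ (Scheme.ΓSpecIso (CommRingCat.of D)).inv := by
      rw [← Scheme.ΓSpecIso_naturality_assoc, Iso.hom_inv_id, Category.comp_id]
    rw [e]
    exact indEt_comp _ _ (indEt_of_isIso _) (indEt_comp _ _ h1 (indEt_of_isIso _))
  have : IsIso V.left.isoSpec.inv.appTop :=
    inferInstanceAs (IsIso (Scheme.Γ.map V.left.isoSpec.inv.op))
  exact indEt_comp _ _ (indEt_of_isIso _) h2

/-- A covering sieve of an affine object contains a decomposed ind-etale surjection. -/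
theorem exists_relIE_refinement {V : X.ProEt} [IsAffine V.left] {R : Sieve V}
    (hR : R ∈ Scheme.ProEt.topology X V) :
    ∃ (W : X.ProEt) (g : W ⟶ V), RelIE g ∧ Surjective g.left ∧
      ∃ (n : ℕ) (O : Fin n → W.left.Opens),
        Pairwise (fun k l => Disjoint (O k : Set ↥W.left) (O l)) ∧
        (⋃ k, (O k : Set ↥W.left)) = Set.univ ∧ ∀ k, R.arrows (ProEt.openHom (O k) ≫ g) := by
  have : CompactSpace V.left := inferInstance
  obtain ⟨n, W₀, g₀, hW₀, hcov, hmem⟩ := ProEt.exists_affine_refinement hR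
  let s : (∐ fun k => (W₀ k).left) ⟶ V.left := Sigma.desc fun k => (g₀ k).left
  have hs : WeaklyEtale s :=
    IsZariskiLocalAtSource.sigmaDesc (P := @WeaklyEtale) fun k => ProEt.weaklyEtale_left (g₀ k)
  have : WeaklyEtale (s ≫ V.hom) := MorphismProperty.comp_mem @WeaklyEtale _ _ hs V.prop
  let W₁ : X.ProEt := Scheme.ProEt.mk (s ≫ V.hom)
  let g₁ : W₁ ⟶ V := MorphismProperty.Over.homMk s rfl
  have : IsAffine W₁.left := inferInstanceAs (IsAffine (∐ fun k => (W₀ k).left))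
  obtain ⟨W, h, hsj, hrel⟩ := exists_relIE_cover g₁
  have hsurj₁ : Surjective g₁.left := ⟨fun v => by
    obtain ⟨k, w, hw⟩ := hcov v
    refine ⟨(Sigma.ι (fun k => (W₀ k).left) k) w, ?_⟩
    exact (congrArg (fun m => m w) (Sigma.ι_desc (fun k => (g₀ k).left) k)).trans hw⟩
  refine ⟨W, h ≫ g₁, hrel, inferInstanceAs (Surjective (h.left ≫ g₁.left)), n,
    fun k => h.left ⁻¹ᵁ (Sigma.ι (fun k => (W₀ k).left) k).opensRange, fun k l hkl => ?_, ?_,
    fun k => ?_⟩
  · exact Disjoint.preimage h.left (TopologicalSpace.Opens.coe_disjoint.2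
      (disjoint_opensRange_sigmaι (fun k => (W₀ k).left) k l hkl))
  · refine Set.eq_univ_of_forall fun w => Set.mem_iUnion.2 ?_
    obtain ⟨k, x, hx⟩ := (sigmaOpenCover fun k => (W₀ k).left).exists_eq (h.left w)
    exact ⟨k, ⟨x, hx⟩⟩
  · let O := h.left ⁻¹ᵁ (Sigma.ι (fun k => (W₀ k).left) k).opensRange
    let l : O.toScheme ⟶ (W₀ k).left := IsOpenImmersion.lift (Sigma.ι (fun k => (W₀ k).left) k)
      (O.ι ≫ h.left) (by
        rintro _ ⟨w, rfl⟩
        exact w.2)
    have hl : l ≫ (g₀ k).left = O.ι ≫ h.left ≫ g₁.left := by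
      refine (congrArg (l ≫ ·) (Sigma.ι_desc (fun k => (g₀ k).left) k).symm).trans ?_
      refine (Category.assoc _ _ _).symm.trans ((congrArg (· ≫ s)
        (IsOpenImmersion.lift_fac _ _ _)).trans (Category.assoc _ _ _))
    let m : Scheme.ProEt.mk (O.ι ≫ W.hom) ⟶ W₀ k := MorphismProperty.Over.homMk l (by
      change l ≫ (W₀ k).hom = O.ι ≫ W.hom
      rw [← MorphismProperty.Over.w (g₀ k)]
      refine (Category.assoc _ _ _).symm.trans ((congrArg (· ≫ V.hom) hl).trans ?_)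
      refine (Category.assoc _ _ _).trans (congrArg (O.ι ≫ ·) ?_)
      exact MorphismProperty.Over.w (h ≫ g₁))
    have hm : m ≫ g₀ k = ProEt.openHom O ≫ h ≫ g₁ := MorphismProperty.Over.Hom.ext hl
    exact hm ▸ R.downward_closed (hmem k) m

end Groth.EtaleDeep.Eps
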