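import Groth.Agent.EtaleDeep.Eps.Lan
import Groth.Agent.EtaleDeep.ProEt.ExtZero
import Mathlib.RingTheory.Spectrum.Prime.Topology
import Mathlib.RingTheory.Ideal.MinimalPrime.Basic

/-!
# The presheaf inverse image is separated; open loci of vanishing
-/

set_option autoImplicit false
set_option backward.isDefEq.respectTransparency.types false
set_option linter.style.haveILetI false

universe u

open CategoryTheory CategoryTheory.Limits AlgebraicGeometry Opposite

namespace Groth.EtaleDeep.Eps

theorem exists_affineOpen_mem {U : Scheme.{u}} (x : U) :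
    ∃ O : U.Opens, IsAffineOpen O ∧ x ∈ O := by
  obtain ⟨O, hO, hxO, -⟩ := TopologicalSpace.Opens.isBasis_iff_nbhd.1 U.isBasis_affineOpens
    (TopologicalSpace.Opens.mem_top x)
  exact ⟨O, hO, hxO⟩

/-- Closures of images of closed sets consist of specializations. -/
theorem exists_specializes_of_mem_closure_image_spec {A B : Type u} [CommRing A] [CommRing B]
    (φ : A →+* B) {C : Set (PrimeSpectrum B)} (hC : IsClosed C) {x : PrimeSpectrum A}
    (hx : x ∈ closure (PrimeSpectrum.comap φ '' C)) :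
    ∃ c ∈ C, PrimeSpectrum.comap φ c ⤳ x := by
  obtain ⟨I, rfl⟩ := (PrimeSpectrum.isClosed_iff_zeroLocus_ideal _).1 hC
  let ψ : A →+* B ⧸ I := (Ideal.Quotient.mk I).comp φ
  have hr : Set.range (PrimeSpectrum.comap ψ) = PrimeSpectrum.comap φ '' PrimeSpectrum.zeroLocus I := by
    rw [PrimeSpectrum.comap_comp, Set.range_comp,
      range_comap_of_surjective _ _ Ideal.Quotient.mk_surjective, Ideal.mk_ker]
  rw [← hr, PrimeSpectrum.closure_range_comap, PrimeSpectrum.mem_zeroLocus] at hx
  obtain ⟨p, hp, hpx⟩ := Ideal.exists_minimalPrimes_le (I := RingHom.ker ψ) (J := x.asIdeal) hx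
  obtain ⟨q, hq, hqp⟩ := Ideal.exists_comap_eq_of_mem_minimalPrimes ψ (I := (⊥ : Ideal (B ⧸ I))) p hp
  have : q ≤ q := le_rfl
  refine ⟨PrimeSpectrum.comap (Ideal.Quotient.mk I) ⟨q, hq⟩, ?_, ?_⟩
  · intro a ha
    change Ideal.Quotient.mk I a ∈ q
    rw [Ideal.Quotient.eq_zero_iff_mem.2 ha]
    exact q.zero_mem
  · refine (PrimeSpectrum.le_iff_specializes _ _).1 ?_
    change q.comap ψ ≤ x.asIdeal
    exact hqp.2.trans_le hpx

/-- Closures of images of closed sets of affine schemes consist of specializations. -/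
theorem exists_specializes_of_mem_closure_image {R S : Scheme.{u}} [IsAffine R] [IsAffine S]
    (g : R ⟶ S) {C : Set R} (hC : IsClosed C) {x : S} (hx : x ∈ closure (g '' C)) :
    ∃ c ∈ C, g c ⤳ x := by
  let eR := Scheme.Hom.homeomorph R.isoSpec.hom
  let eS := Scheme.Hom.homeomorph S.isoSpec.hom
  have hn : ∀ r, eS (g r) = PrimeSpectrum.comap g.appTop.hom (eR r) := fun r =>
    congrArg (fun m => m r) (Scheme.isoSpec_hom_naturality g).symm
  have hx' : eS x ∈ closure (PrimeSpectrum.comap g.appTop.hom '' (eR '' C)) := by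
    have h := image_closure_subset_closure_image eS.continuous ⟨x, hx, rfl⟩
    rw [Set.image_image] at h ⊢
    simp only [hn] at h
    exact h
  obtain ⟨_, ⟨c, hc, rfl⟩, hcx⟩ :=
    exists_specializes_of_mem_closure_image_spec _ (eR.isClosedMap _ hC) hx'
  refine ⟨c, hc, ?_⟩
  rw [← hn] at hcx
  exact eS.isInducing.specializes_iff.1 hcx

variable {X : Scheme.{u}}

/-- Covering sieves of the pro-etale site are jointly surjective. -/
theorem exists_mem_range_of_mem_topology {U : X.ProEt} {R : Sieve U}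
    (hR : R ∈ Scheme.ProEt.topology X U) (x : U.left) :
    ∃ (Y : X.ProEt) (g : Y ⟶ U), R.arrows g ∧ x ∈ Set.range g.left := by
  obtain ⟨O, hO, hxO⟩ : ∃ O : U.left.Opens, IsAffineOpen O ∧ x ∈ O :=
    (exists_affineOpen_mem x)
  let U' : X.ProEt := Scheme.ProEt.mk (O.ι ≫ U.hom)
  have : IsAffine U'.left := hO
  have : CompactSpace U'.left := inferInstance
  obtain ⟨n, V, g, -, hcov, hmem⟩ := ProEt.exists_affine_refinement
    ((Scheme.ProEt.topology X).pullback_stable (ProEt.openHom (U := U) O) hR)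
  obtain ⟨k, v, hv⟩ := hcov (⟨x, hxO⟩ : O.toScheme)
  refine ⟨V k, g k ≫ ProEt.openHom (U := U) O, hmem k, v, ?_⟩
  change O.ι ((g k).left v) = x
  rw [hv]
  rfl

variable (F : EtCoh.Ab X)

/-- The presheaf inverse image is separated. -/
theorem toSheafify_injective (U : X.ProEt) :
    Function.Injective ((toSheafify (Scheme.ProEt.topology X) (lanObj F.obj)).app (op U)) := by
  intro a b hab
  have hR := Presheaf.equalizerSieve_mem (Scheme.ProEt.topology X)
    (toSheafify (Scheme.ProEt.topology X) (lanObj F.obj)) a b hab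
  refine eq_of_jointly_surjective F (ι := Σ Y : X.ProEt, {g : Y ⟶ U // (Presheaf.equalizerSieve a b).arrows g})
    (fun k => k.1) (fun k => k.2.1) (fun x => ?_) a b fun k => k.2.2
  obtain ⟨Y, g, hg, hx⟩ := exists_mem_range_of_mem_topology hR x
  exact ⟨⟨Y, g, hg⟩, hx⟩

/-- A section vanishing on a flat quasi-compact map vanishes on an open around its image. -/
theorem exists_open_zero {P W : X.ProEt} (z : (sheafify (Scheme.ProEt.topology X) (lanObj F.obj)).obj (op P))
    (σ : W ⟶ P) (hz : (sheafify (Scheme.ProEt.topology X) (lanObj F.obj)).map σ.op z = 0)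
    (w : W.left) :
    ∃ O : P.left.Opens, σ.left w ∈ O ∧
      (sheafify (Scheme.ProEt.topology X) (lanObj F.obj)).map (ProEt.openHom O).op z = 0 := by
  let J := Scheme.ProEt.topology X
  let G := sheafify J (lanObj F.obj)
  let η := toSheafify J (lanObj F.obj)
  obtain ⟨P₀, hP₀, hwP₀⟩ := exists_affineOpen_mem (σ.left w)
  let P' : X.ProEt := Scheme.ProEt.mk (P₀.ι ≫ P.hom)
  have : IsAffine P'.left := hP₀
  have : CompactSpace P'.left := inferInstance
  let z' : G.obj (op P') := G.map (ProEt.openHom P₀).op z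
  obtain ⟨n, R, g, hR, hcov, hmem⟩ := ProEt.exists_affine_refinement
    (Presheaf.imageSieve_mem J η (U := op P') z')
  choose r hr using hmem
  choose E a t ht using fun k => exists_germ F.obj (r k)
  let C : ∀ k, Set (R k).left := fun k => (a k).left ⁻¹' (EtaleBase.vanishSet F (E k) (t k))ᶜ
  have hC : ∀ k, IsClosed (C k) := fun k =>
    (EtaleBase.isOpen_vanishSet F (E k) (t k)).isClosed_compl.preimage (a k).left.continuous
  let K : Set P'.left := closure (⋃ k, (g k).left '' C k)
  let O' : P.left.Opens := ⟨P₀.ι '' Kᶜ, P₀.ι.isOpenEmbedding.isOpenMap _ isClosed_closure.isOpen_compl⟩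
  refine ⟨O', ⟨⟨σ.left w, hwP₀⟩, ?_, rfl⟩, ?_⟩
  · intro hK
    replace hK : (⟨σ.left w, hwP₀⟩ : P'.left) ∈ closure (⋃ k, (g k).left '' C k) := hK
    rw [closure_iUnion_of_finite] at hK
    obtain ⟨k, hk⟩ := Set.mem_iUnion.1 hK
    obtain ⟨c, hc, hcw⟩ := exists_specializes_of_mem_closure_image (g k).left (hC k) hk
    have := ProEt.weaklyEtale_left σ
    have h2 : P₀.ι ((g k).left c) ⤳ σ.left w := hcw.map P₀.ι.continuous
    obtain ⟨w', -, hw'⟩ := (Flat.generalizingMap σ.left) h2
    let q : R k ⟶ P := g k ≫ ProEt.openHom P₀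
    obtain ⟨y, hy1, hy2⟩ := Scheme.Pullback.exists_preimage_pullback (f := σ.left) (g := q.left) w' c hw'
    have := ProEt.weaklyEtale_left q
    have : WeaklyEtale (pullback.fst σ.left q.left) :=
      MorphismProperty.pullback_fst _ _ (ProEt.weaklyEtale_left q)
    have : WeaklyEtale (pullback.fst σ.left q.left ≫ W.hom) :=
      MorphismProperty.comp_mem @WeaklyEtale _ _ ‹_› W.prop
    let Q : X.ProEt := Scheme.ProEt.mk (pullback.fst σ.left q.left ≫ W.hom)
    let p₁ : Q ⟶ W := MorphismProperty.Over.homMk (pullback.fst σ.left q.left) rfl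
    let p₂ : Q ⟶ R k := MorphismProperty.Over.homMk (pullback.snd σ.left q.left) (by
      change pullback.snd σ.left q.left ≫ (R k).hom = pullback.fst σ.left q.left ≫ W.hom
      rw [← MorphismProperty.Over.w σ, ← MorphismProperty.Over.w q]
      exact (pullback.condition_assoc (f := σ.left) (g := q.left) P.hom).symm)
    have hp : p₂ ≫ g k ≫ ProEt.openHom P₀ = p₁ ≫ σ :=
      MorphismProperty.Over.Hom.ext (pullback.condition (f := σ.left) (g := q.left)).symm
    have h0 : η.app (op Q) ((lanObj F.obj).map p₂.op (r k)) = η.app (op Q) 0 := by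
      rw [map_zero, NatTrans.naturality_apply η, hr k, ← Functor.map_comp_apply, ← op_comp]
      change G.map (p₂ ≫ g k).op (G.map (ProEt.openHom P₀).op z) = 0
      rw [← Functor.map_comp_apply, ← op_comp, Category.assoc, hp, op_comp, Functor.map_comp_apply,
        hz, map_zero]
    have h1 := toSheafify_injective F Q h0
    rw [← ht k, map_germ, germ_eq_zero_iff] at h1
    exact hc (by rw [← hy2]; exact h1 ⟨y, rfl⟩)
  · let P'' : X.ProEt := Scheme.ProEt.mk (O'.ι ≫ P.hom)
    have hle : O' ≤ P₀ := by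
      rintro _ ⟨y, -, rfl⟩
      exact y.2
    let j : P'' ⟶ P' := MorphismProperty.Over.homMk (P.left.homOfLE hle) (by
      change P.left.homOfLE hle ≫ P₀.ι ≫ P.hom = O'.ι ≫ P.hom
      rw [Scheme.homOfLE_ι_assoc])
    have hj : j ≫ ProEt.openHom P₀ = ProEt.openHom O' :=
      MorphismProperty.Over.Hom.ext (Scheme.homOfLE_ι _ hle)
    have hsh : Presieve.IsSheaf J (G ⋙ forget AddCommGrpCat.{u + 1}) :=
      (isSheaf_iff_isSheaf_of_type _ _).1 ((sheafCompose J (forget AddCommGrpCat.{u + 1})).obj
        ((presheafToSheaf J AddCommGrpCat.{u + 1}).obj (lanObj F.obj))).property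
    have hcov' : Sieve.generate (Presieve.ofArrows R g) ∈ J P' :=
      ProEt.affine_family_mem_topology R g hcov
    refine (hsh _ (J.pullback_stable j hcov')).isSeparatedFor.ext ?_
    rintro Y q ⟨_, b, _, ⟨k⟩, hq⟩
    change G.map q.op (G.map (ProEt.openHom O').op z) = G.map q.op (0 : G.obj (op P''))
    rw [map_zero, ← hj, ← Functor.map_comp_apply, ← op_comp, ← Category.assoc, ← hq, Category.assoc,
      op_comp, Functor.map_comp_apply]
    change G.map b.op (G.map (g k ≫ ProEt.openHom P₀).op z) = 0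
    rw [op_comp, Functor.map_comp_apply]
    rw [show G.map (g k).op (G.map (ProEt.openHom P₀).op z) = η.app (op (R k)) (r k) from (hr k).symm,
      ← NatTrans.naturality_apply η]
    refine (congrArg (η.app (op _)) ?_).trans (map_zero _)
    rw [← ht k, map_germ, germ_eq_zero_iff]
    rintro _ ⟨y, rfl⟩
    by_contra hy
    have h1 : (g k).left (b.left y) = j.left (q.left y) :=
      congrArg (fun m => m.left y) hq
    obtain ⟨v, hv, hv'⟩ := (q.left y).2
    have h2 : j.left (q.left y) = v := by
      refine P₀.ι.isOpenEmbedding.injective (Eq.trans ?_ hv'.symm)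
      exact congrArg (fun m => m (q.left y)) (Scheme.homOfLE_ι P.left hle)
    exact hv (subset_closure (Set.mem_iUnion.2 ⟨k, b.left y, hy, h1.trans h2⟩))

end Groth.EtaleDeep.Eps
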