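import Groth.Agent.EtaleDeep.Eps.AffSys

/-!
# Čech exactness of inverse images of injective sheaves along ind-etale morphisms
-/

set_option autoImplicit false
set_option backward.isDefEq.respectTransparency.types false
set_option linter.style.haveILetI false

universe u

open CategoryTheory CategoryTheory.Limits AlgebraicGeometry Opposite

namespace Groth.EtaleDeep.Eps

variable {X : Scheme.{u}}

/-- The constant cone over a cofiltered category is a limit. -/
def isLimitConst {C : Type*} [Category C] {K : Type u} [SmallCategory K] [IsCofiltered K] (V : C)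
    (k₀ : K) :
    IsLimit ({ pt := V, π := { app := fun _ => 𝟙 V } } : Cone ((Functor.const K).obj V)) where
  lift s := s.π.app k₀
  fac s j := by
    have h1 : s.π.app (IsCofiltered.min k₀ j) ≫ 𝟙 V = s.π.app k₀ :=
      s.w (IsCofiltered.minToLeft k₀ j)
    have h2 : s.π.app (IsCofiltered.min k₀ j) ≫ 𝟙 V = s.π.app j :=
      s.w (IsCofiltered.minToRight k₀ j)
    exact (Category.comp_id _).trans (h1.symm.trans h2)
  uniq s m hm := ((hm k₀).symm.trans (Category.comp_id m)).symm

/-- An ind-etale object is a tower. -/
theorem IE.nonempty_tower {V : X.ProEt} (hV : IE V) : Nonempty (Tower V) := by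
  obtain ⟨E, a, ha⟩ := hV
  have := ha.isAffine_src
  have : IsAffine E.left := ha.isAffine_tgt
  obtain ⟨S, -⟩ := exists_affSys (V := E.left) a.left ha.indEt
  let obj : S.K → X.Etale := fun k =>
    have : Etale (S.str k ≫ E.hom) := MorphismProperty.comp_mem @Etale _ _ (S.etale k) E.prop
    Scheme.Etale.mk (S.str k ≫ E.hom)
  exact ⟨
    { J := S.K
      D :=
        { obj := obj
          map := fun {i j} f => MorphismProperty.Over.homMk (S.D.map f)
            ((Category.assoc _ _ _).symm.trans (congrArg (· ≫ E.hom) (S.str_w f)))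
          map_id := fun k => MorphismProperty.Over.Hom.ext (S.D.map_id k)
          map_comp := fun f f' => MorphismProperty.Over.Hom.ext (S.D.map_comp f f') }
      isAffine := S.isAffine
      π := fun k => toEps (E := obj k) (S.π k)
        ((Category.assoc _ _ _).symm.trans ((congrArg (· ≫ E.hom) (S.π_str k)).trans (eps_w a)))
      π_w := S.π_w
      isLimit := IsLimit.ofIsoLimit S.isLimit (Cone.ext (Iso.refl _) fun k => (Category.id_comp _).symm) }⟩

/-- Sections of the inverse image over an ind-etale object. -/
theorem IE.bijective_toSheafify {V : X.ProEt} (hV : IE V) (F : EtCoh.Ab X) :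
    Function.Bijective ((toSheafify (Scheme.ProEt.topology X) (lanObj F.obj)).app (op V)) := by
  obtain ⟨T⟩ := hV.nonempty_tower
  exact T.bijective_toSheafify F

/-- Čech exactness for the inverse image of an injective sheaf along a map of etale objects. -/
theorem cechExact_eps (I : EtCoh.Ab X) [Injective I] {E' E : X.Etale} (q : E' ⟶ E) :
    CechExact (lanObj I.obj) (fun n => (ProEtS.eps X).obj (powE q n))
      fun n l => (ProEtS.eps X).map (powEδ q n l) := by
  intro n c hc
  have := sheafToPresheaf_injective I
  let γ : ∀ m, I.obj.obj (op (powE q m)) →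
      (lanObj I.obj).obj (op ((ProEtS.eps X).obj (powE q m))) :=
    fun m => germ I.obj (powE q m) (𝟙 _)
  have hγ : ∀ m (l : Fin (m + 2)) (s : I.obj.obj (op (powE q m))),
      (lanObj I.obj).map ((ProEtS.eps X).map (powEδ q m l)).op (γ m s) =
        γ (m + 1) (I.obj.map (powEδ q m l).op s) := fun m l s => by
    simp only [γ]
    rw [map_germ, germ_map, Category.comp_id, Category.id_comp]
  have hγs : ∀ m (s : Fin (m + 2) → I.obj.obj (op (powE q (m + 1)))),
      γ (m + 1) (∑ l : Fin (m + 2), (-1 : ℤ) ^ (l : ℕ) • s l) = ∑ l : Fin (m + 2), (-1 : ℤ) ^ (l : ℕ) • γ (m + 1) (s l) := by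
    intro m s
    let φ : I.obj.obj (op (powE q (m + 1))) →+
        (lanObj I.obj).obj (op ((ProEtS.eps X).obj (powE q (m + 1)))) :=
      AddMonoidHom.ofMapSub (γ (m + 1)) fun x y => germ_sub _ _ _ x y
    change φ _ = ∑ l : Fin (m + 2), _ • φ (s l)
    simp only [map_sum, map_zsmul]
  obtain ⟨c', rfl⟩ := (bijective_germ_id I (powE q (n + 1))).2 c
  obtain ⟨b, hb⟩ := cechExact_injective I.obj q n c' (by
    refine (bijective_germ_id I (powE q (n + 2))).1 ?_
    refine ((hγs (n + 1) _).trans ?_).trans (germ_zero I.obj (powE q (n + 2)) (𝟙 _)).symm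
    refine Eq.trans (Finset.sum_congr rfl fun l _ => ?_) hc
    rw [← hγ])
  refine ⟨γ n b, ?_⟩
  refine Eq.trans ?_ (congrArg (γ (n + 1)) hb)
  rw [hγs]
  exact Finset.sum_congr rfl fun l _ => congrArg _ (hγ n l b)

/-- Čech exactness at an etale morphism to an ind-etale object. -/
theorem cechExactP_etale (I : EtCoh.Ab X) [Injective I] {W V : X.ProEt} (g : W ⟶ V)
    [IsAffine W.left] [Etale g.left] (hV : IE V) : CechExactP (lanObj I.obj) g := by
  obtain ⟨E, a, ha⟩ := hV
  have := ha.isAffine_src
  have : IsAffine E.left := ha.isAffine_tgt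
  obtain ⟨S, hS⟩ := exists_affSys (V := E.left) a.left ha.indEt
  obtain ⟨k₀, E', q, u, hE', hq, hpb⟩ := hS W.left g.left
  have : ∀ k, IsAffine (S.D.obj k) := S.isAffine
  let Dk : Over k₀ ⥤ Scheme.{u} := Over.forget k₀ ⋙ S.D
  let Wk : Over k₀ ⥤ Scheme.{u} :=
    { obj := fun j => pullback (S.D.map j.hom) q
      map := fun {i j} f => pullback.lift (pullback.fst _ _ ≫ S.D.map f.left) (pullback.snd _ _) (by
        rw [Category.assoc, ← Functor.map_comp, Over.w f, pullback.condition])
      map_id := fun j => by
        refine pullback.hom_ext ?_ ?_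
        · rw [pullback.lift_fst, Category.id_comp, Over.id_left, S.D.map_id]
          exact Category.comp_id _
        · rw [pullback.lift_snd, Category.id_comp]
      map_comp := fun f f' => by
        refine pullback.hom_ext ?_ ?_
        · rw [pullback.lift_fst, Category.assoc, pullback.lift_fst, pullback.lift_fst_assoc,
            Over.comp_left, S.D.map_comp, Category.assoc]
        · rw [pullback.lift_snd, Category.assoc, pullback.lift_snd, pullback.lift_snd] }
  let gk : Wk ⟶ Dk :=
    { app := fun j => pullback.fst (S.D.map j.hom) q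
      naturality := fun i j f => pullback.lift_fst _ _ _ }
  let cW : Cone Wk :=
    { pt := W.left
      π :=
        { app := fun j => pullback.lift (g.left ≫ S.π j.left) u
            ((Category.assoc _ _ _).trans ((congrArg (g.left ≫ ·) (S.π_w j.hom)).trans hpb.w))
          naturality := fun i j f => by
            refine (Category.id_comp _).trans ?_
            refine pullback.hom_ext ?_ ?_
            · simp only [Wk, Category.assoc, pullback.lift_fst, pullback.lift_fst_assoc]
              exact (congrArg (g.left ≫ ·) (S.π_w f.left)).symm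
            · simp only [Wk, Category.assoc, pullback.lift_snd] } }
  let cV : Cone Dk :=
    { pt := V.left
      π :=
        { app := fun j => S.π j.left
          naturality := fun i j f => (Category.id_comp _).trans (S.π_w f.left).symm } }
  let hV' : IsLimit cV := IsLimit.ofIsoLimit
    ((Functor.Initial.isLimitWhiskerEquiv (Over.forget k₀) _).symm S.isLimit)
    (Cone.ext (Iso.refl _) fun j => (Category.id_comp _).symm)
  let top : Over k₀ := Over.mk (𝟙 k₀)
  let sv : Cone Wk → Cone Dk := fun s =>
    { pt := s.pt
      π :=
        { app := fun j => s.π.app j ≫ pullback.fst _ _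
          naturality := fun i j f => by
            refine (Category.id_comp _).trans ?_
            rw [← s.w f, Category.assoc, Category.assoc]
            exact congrArg (s.π.app i ≫ ·) (gk.naturality f) } }
  have hsnd : ∀ (s : Cone Wk) (j : Over k₀), s.π.app j ≫ pullback.snd _ _ =
      s.π.app top ≫ pullback.snd (S.D.map top.hom) q := fun s j => by
    rw [← s.w (Over.homMk j.hom : j ⟶ top), Category.assoc]
    exact congrArg (s.π.app j ≫ ·) (pullback.lift_snd _ _ _).symm
  have hw : ∀ s : Cone Wk, hV'.lift (sv s) ≫ S.π k₀ =
      (s.π.app top ≫ pullback.snd (S.D.map top.hom) q) ≫ q := fun s => by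
    have h1 : hV'.lift (sv s) ≫ S.π k₀ = s.π.app top ≫ pullback.fst (S.D.map top.hom) q :=
      hV'.fac (sv s) top
    rw [h1, Category.assoc, ← pullback.condition]
    exact congrArg (s.π.app top ≫ ·) ((congrArg (pullback.fst (S.D.map top.hom) q ≫ ·)
      (S.D.map_id k₀)).trans (Category.comp_id _)).symm
  let hW : IsLimit cW :=
    { lift := fun s => hpb.lift (hV'.lift (sv s)) _ (hw s)
      fac := fun s j => by
        refine pullback.hom_ext ?_ ?_
        · refine (Category.assoc _ _ _).trans ((congrArg (_ ≫ ·) (pullback.lift_fst _ _ _)).trans ?_)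
          refine (Category.assoc _ _ _).symm.trans
            ((congrArg (· ≫ _) (hpb.lift_fst _ _ _)).trans ?_)
          exact hV'.fac (sv s) j
        · refine (Category.assoc _ _ _).trans ((congrArg (_ ≫ ·) (pullback.lift_snd _ _ _)).trans ?_)
          exact (hpb.lift_snd _ _ _).trans (hsnd s j).symm
      uniq := fun s m hm => by
        refine hpb.hom_ext ?_ ?_
        · refine Eq.trans ?_ (hpb.lift_fst _ _ _).symm
          refine hV'.hom_ext fun j => ?_
          refine Eq.trans ?_ (hV'.fac (sv s) j).symm
          refine (Category.assoc _ _ _).trans ?_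
          refine (congrArg (m ≫ ·) (show cW.π.app j ≫ gk.app j = g.left ≫ cV.π.app j from
            pullback.lift_fst _ _ _).symm).trans ?_
          exact (Category.assoc _ _ _).symm.trans (congrArg (· ≫ _) (hm j))
        · refine Eq.trans ?_ (hpb.lift_snd _ _ _).symm
          refine (congrArg (m ≫ ·) (show cW.π.app top ≫ pullback.snd (S.D.map top.hom) q = u from
            pullback.lift_snd _ _ _).symm).trans ?_
          exact (Category.assoc _ _ _).symm.trans (congrArg (· ≫ _) (hm top)) }
  have hcomm : ∀ j, cW.π.app j ≫ gk.app j = g.left ≫ cV.π.app j := fun j =>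
    pullback.lift_fst _ _ _
  let E₀ : Over k₀ → X.Etale := fun j =>
    have : Etale (S.str j.left ≫ E.hom) := MorphismProperty.comp_mem @Etale _ _ (S.etale _) E.prop
    Scheme.Etale.mk (S.str j.left ≫ E.hom)
  let E₁ : Over k₀ → X.Etale := fun j =>
    have : Etale (pullback.fst (S.D.map j.hom) q ≫ (E₀ j).hom) :=
      MorphismProperty.comp_mem @Etale _ _ (MorphismProperty.pullback_fst _ _ hq) (E₀ j).prop
    Scheme.Etale.mk (pullback.fst (S.D.map j.hom) q ≫ (E₀ j).hom)
  let qj : ∀ j, E₁ j ⟶ E₀ j := fun j =>
    MorphismProperty.Over.homMk (pullback.fst (S.D.map j.hom) q) rfl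
  let De : ℕ → Over k₀ ⥤ X.Etale := fun n =>
    { obj := fun j => powE (qj j) n
      map := fun {i j} f => MorphismProperty.Over.homMk ((pwFunctor gk n).map f) (by
        refine (Category.assoc _ _ _).symm.trans ((congrArg (· ≫ (E₀ j).hom)
          (pwMap_hom (Wk.map f) (Dk.map f) (gk.naturality f) n)).trans ?_)
        exact (Category.assoc _ _ _).trans (congrArg ((pw (gk.app i) n).hom ≫ ·)
          ((Category.assoc _ _ _).symm.trans (congrArg (· ≫ E.hom) (S.str_w f.left)))))
      map_id := fun j => MorphismProperty.Over.Hom.ext ((pwFunctor gk n).map_id j)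
      map_comp := fun f f' => MorphismProperty.Over.Hom.ext ((pwFunctor gk n).map_comp f f') }
  have haff : ∀ n j, IsAffine ((De n).obj j).left := fun n j =>
    @isAffine_pw (pullback (S.D.map j.hom) q) (S.D.obj j.left) (pullback.fst _ _) inferInstance
      inferInstance n
  let πe : ∀ n j, powP g n ⟶ (ProEtS.eps X).obj ((De n).obj j) := fun n j =>
    toEps (pwMap (g := g.left) (g' := gk.app j) (cW.π.app j) (cV.π.app j) (hcomm j) n) (by
      refine (Category.assoc _ _ _).symm.trans ((congrArg (· ≫ (E₀ j).hom)
        (pwMap_hom (cW.π.app j) (cV.π.app j) (hcomm j) n)).trans ?_)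
      refine (Category.assoc _ _ _).trans (congrArg ((pw g.left n).hom ≫ ·) ?_)
      exact (Category.assoc _ _ _).symm.trans
        ((congrArg (· ≫ E.hom) (S.π_str j.left)).trans (eps_w a)))
  let Sys : ∀ n, LimSys (Over k₀) (powP g n) := fun n =>
    { D := De n ⋙ ProEtS.eps X
      compact := fun j => have := haff n j; inferInstanceAs (CompactSpace ↥((De n).obj j).left)
      qsep := fun j => have := haff n j; inferInstanceAs (QuasiSeparatedSpace ↥((De n).obj j).left)
      affineHom := fun {i j} f => by
        have := haff n i
        have := haff n j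
        exact inferInstanceAs (IsAffineHom ((De n).map f).left)
      π := πe n
      π_w := fun {i j} f => MorphismProperty.Over.Hom.ext ((pwCone (cW := cW) (cV := cV) gk g.left hcomm n).w f)
      isLimit := IsLimit.ofIsoLimit (nonempty_isLimit_pwCone (cW := cW) (cV := cV) gk g.left hcomm hW hV' n).some
        (Cone.ext (Iso.refl _) fun j => (Category.id_comp _).symm) }
  refine cechExact_limit I Sys
    (fun n l =>
      { app := fun j => (ProEtS.eps X).map (powEδ (qj j) n l)
        naturality := fun i j f => MorphismProperty.Over.Hom.ext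
          (pwMap_δ (Wk.map f) (Dk.map f) (gk.naturality f) n l) })
    (fun n l j => MorphismProperty.Over.Hom.ext (pwMap_δ _ _ (hcomm j) n l)) fun j => ?_
  exact cechExact_eps I (qj j)

/-- Čech exactness at an ind-etale morphism to an ind-etale object. -/
theorem cechExactP_relIE (I : EtCoh.Ab X) [Injective I] {W V : X.ProEt} (g : W ⟶ V)
    (hg : RelIE g) (hV : IE V) : CechExactP (lanObj I.obj) g := by
  have := hg.isAffine_src
  have := hg.isAffine_tgt
  obtain ⟨S, -⟩ := exists_affSys g.left hg.indEt
  have : ∀ k, IsAffine (S.D.obj k) := S.isAffine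
  let gk : S.D ⟶ (Functor.const S.K).obj V.left :=
    { app := S.str
      naturality := fun i j f => (S.str_w f).trans (Category.comp_id _).symm }
  let Wk : S.K → X.ProEt := fun k =>
    haveI := S.etale k
    haveI : WeaklyEtale (S.str k ≫ V.hom) := MorphismProperty.comp_mem @WeaklyEtale _ _
      inferInstance V.prop
    Scheme.ProEt.mk (S.str k ≫ V.hom)
  let gP : ∀ k, Wk k ⟶ V := fun k => MorphismProperty.Over.homMk (S.str k) rfl
  let cV : Cone ((Functor.const S.K).obj V.left) := { pt := V.left, π := { app := fun _ => 𝟙 _ } }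
  let k₀ : S.K := IsCofiltered.nonempty.some
  have hcomm : ∀ k, S.π k ≫ gk.app k = g.left ≫ cV.π.app k := fun k =>
    (S.π_str k).trans (Category.comp_id _).symm
  let cW : Cone S.D :=
    { pt := W.left
      π := { app := S.π, naturality := fun _ _ f => (Category.id_comp _).trans (S.π_w f).symm } }
  let Dn : ℕ → S.K ⥤ X.ProEt := fun n =>
    { obj := fun k => powP (gP k) n
      map := fun {i j} f => MorphismProperty.Over.homMk ((pwFunctor gk n).map f)
        ((Category.assoc _ _ _).symm.trans (congrArg (· ≫ V.hom)
          ((pwMap_hom (S.D.map f) (𝟙 V.left) (gk.naturality f) n).trans (Category.comp_id _))))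
      map_id := fun k => MorphismProperty.Over.Hom.ext ((pwFunctor gk n).map_id k)
      map_comp := fun f f' => MorphismProperty.Over.Hom.ext ((pwFunctor gk n).map_comp f f') }
  have haff : ∀ n k, IsAffine ((Dn n).obj k).left := fun n k =>
    @isAffine_pw (S.D.obj k) V.left (S.str k) (S.isAffine k) inferInstance n
  let Sys : ∀ n, LimSys S.K (powP g n) := fun n =>
    { D := Dn n
      compact := fun k => have := haff n k; inferInstance
      qsep := fun k => have := haff n k; inferInstance
      affineHom := fun {i j} f => by
        have := haff n i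
        have := haff n j
        infer_instance
      π := fun k => MorphismProperty.Over.homMk
        (pwMap (g := g.left) (g' := gk.app k) (S.π k) (𝟙 V.left) (hcomm k) n)
        ((Category.assoc _ _ _).symm.trans (congrArg (· ≫ V.hom)
          ((pwMap_hom (S.π k) (𝟙 V.left) (hcomm k) n).trans (Category.comp_id _))))
      π_w := fun {i j} f => MorphismProperty.Over.Hom.ext
        ((pwCone (cW := cW) (cV := cV) gk g.left hcomm n).w f)
      isLimit := IsLimit.ofIsoLimit
        (nonempty_isLimit_pwCone (cW := cW) (cV := cV) gk g.left hcomm S.isLimit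
          (isLimitConst V.left k₀) n).some
        (Cone.ext (Iso.refl _) fun j => (Category.id_comp _).symm) }
  refine cechExact_limit I Sys
    (fun n l =>
      { app := fun k => powPδ (gP k) n l
        naturality := fun i j f => MorphismProperty.Over.Hom.ext
          (pwMap_δ (S.D.map f) (𝟙 V.left) (gk.naturality f) n l) })
    (fun n l k => MorphismProperty.Over.Hom.ext (pwMap_δ (S.π k) (𝟙 V.left) (hcomm k) n l))
    fun k => ?_
  have : IsAffine (Wk k).left := S.isAffine k
  have : Etale (gP k).left := S.etale k
  exact cechExactP_etale I (gP k) hV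

end Groth.EtaleDeep.Eps
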