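import Groth.Agent.EtaleDeep.Eps.Separated
import Mathlib.AlgebraicGeometry.AffineTransitionLimit

/-!
# Sections of the inverse image over affine limits of affine etale objects
-/

set_option autoImplicit false
set_option backward.isDefEq.respectTransparency.types false
set_option linter.style.haveILetI false

universe u

open CategoryTheory CategoryTheory.Limits AlgebraicGeometry Opposite

namespace Groth.EtaleDeep.Eps

variable {X : Scheme.{u}}

/-- The underlying schemes of a diagram of etale objects. -/
noncomputable abbrev schD {J : Type u} [SmallCategory J] (D : J ⥤ X.Etale) : J ⥤ Scheme.{u} :=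
  D ⋙ Scheme.Etale.forget X ⋙ Over.forget X

/-- A presentation as a cofiltered limit of affine etale objects. -/
structure Tower (V : X.ProEt) where
  /-- the index category -/
  J : Type u
  [smallCategory : SmallCategory J]
  [isCofiltered : IsCofiltered J]
  /-- the diagram -/
  D : J ⥤ X.Etale
  isAffine : ∀ j, IsAffine (D.obj j).left
  /-- the projections -/
  π : ∀ j, V ⟶ (ProEtS.eps X).obj (D.obj j)
  π_w : ∀ {i j : J} (f : i ⟶ j), (π i).left ≫ (D.map f).left = (π j).left
  isLimit : IsLimit
    ({ pt := V.left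
       π := { app := fun j => (π j).left
              naturality := fun _ _ f => (Category.id_comp _).trans (π_w f).symm } } :
      Cone (schD D))

attribute [instance] Tower.smallCategory Tower.isCofiltered

/-- The constant tower at an affine etale object. -/
noncomputable def Tower.ofEtale (E : X.Etale) [IsAffine E.left] :
    Tower ((ProEtS.eps X).obj E) where
  J := Discrete PUnit.{u + 1}
  D := (Functor.const _).obj E
  isAffine _ := ‹_›
  π _ := 𝟙 _
  π_w _ := Category.comp_id _
  isLimit :=
    { lift := fun s => s.π.app ⟨⟨⟩⟩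
      fac := fun s j => by
        obtain ⟨⟨⟩⟩ := j
        exact Category.comp_id _
      uniq := fun s m hm => ((hm ⟨⟨⟩⟩).symm.trans (Category.comp_id m)).symm }

namespace Tower

variable {V : X.ProEt} (T : Tower V)

/-- The cone of schemes. -/
noncomputable abbrev cone : Cone (schD T.D) where
  pt := V.left
  π :=
    { app := fun j => (T.π j).left
      naturality := fun _ _ f => (Category.id_comp _).trans (T.π_w f).symm }

theorem isAffineHom_map {i j : T.J} (f : i ⟶ j) : IsAffineHom ((schD T.D).map f) := by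
  have : IsAffine ((schD T.D).obj i) := T.isAffine i
  have : IsAffine ((schD T.D).obj j) := T.isAffine j
  infer_instance

include T in
theorem isAffine_left : IsAffine V.left := by
  have : ∀ j, IsAffine ((schD T.D).obj j) := T.isAffine
  exact Scheme.isAffine_of_isLimit T.cone T.isLimit

/-- The diagram of fibre products with an etale object. -/
noncomputable def prodD (E : X.Etale) : T.J ⥤ Scheme.{u} :=
  T.D ⋙ Scheme.Etale.forget X ⋙ Over.pullback E.hom ⋙ Over.forget E.left

/-- The cone of fibre products with an etale object. -/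
noncomputable def prodCone (E : X.Etale) : Cone (T.prodD E) where
  pt := pullback V.hom E.hom
  π :=
    { app := fun j => pullback.lift (pullback.fst V.hom E.hom ≫ (T.π j).left) (pullback.snd _ _)
        ((Category.assoc _ _ _).trans
          ((congrArg (pullback.fst V.hom E.hom ≫ ·) (eps_w (T.π j))).trans pullback.condition))
      naturality := fun i j f => by
        refine (Category.id_comp _).trans ?_
        refine pullback.hom_ext ?_ ?_
        · refine (pullback.lift_fst _ _ _).trans (Eq.trans ?_ (Category.assoc _ _ _).symm)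
          refine Eq.trans ?_ (congrArg (_ ≫ ·) (pullback.lift_fst _ _ _).symm)
          refine Eq.trans ?_ (Category.assoc _ _ _)
          refine Eq.trans ?_ (congrArg (· ≫ (T.D.map f).left) (pullback.lift_fst _ _ _).symm)
          exact (congrArg (pullback.fst V.hom E.hom ≫ ·) (T.π_w f).symm).trans
            (Category.assoc _ _ _).symm
        · refine (pullback.lift_snd _ _ _).trans (Eq.trans ?_ (Category.assoc _ _ _).symm)
          refine Eq.trans ?_ (congrArg (_ ≫ ·) (pullback.lift_snd _ _ _).symm)
          exact (pullback.lift_snd _ _ _).symm }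

lemma prodCone_fst (E : X.Etale) (j : T.J) :
    (T.prodCone E).π.app j ≫ pullback.fst (T.D.obj j).hom E.hom =
      pullback.fst V.hom E.hom ≫ (T.π j).left :=
  pullback.lift_fst _ _ _

lemma prodCone_snd (E : X.Etale) (j : T.J) :
    (T.prodCone E).π.app j ≫ pullback.snd (T.D.obj j).hom E.hom = pullback.snd V.hom E.hom :=
  pullback.lift_snd _ _ _

lemma prodD_map_fst (E : X.Etale) {i j : T.J} (f : i ⟶ j) :
    (T.prodD E).map f ≫ pullback.fst (T.D.obj j).hom E.hom =
      pullback.fst (T.D.obj i).hom E.hom ≫ (T.D.map f).left :=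
  pullback.lift_fst _ _ _

lemma prodD_map_snd (E : X.Etale) {i j : T.J} (f : i ⟶ j) :
    (T.prodD E).map f ≫ pullback.snd (T.D.obj j).hom E.hom = pullback.snd (T.D.obj i).hom E.hom :=
  pullback.lift_snd _ _ _

theorem isAffineHom_prodD (E : X.Etale) {i j : T.J} (f : i ⟶ j) :
    IsAffineHom ((T.prodD E).map f) :=
  MorphismProperty.baseChange_map (P := @IsAffineHom) E.hom ((Scheme.Etale.forget X).map (T.D.map f))
    (T.isAffineHom_map f)

/-- Fibre products with an etale object commute with the limit. -/
theorem nonempty_isLimit_prodCone (E : X.Etale) : Nonempty (IsLimit (T.prodCone E)) := by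
  obtain ⟨j₀⟩ : Nonempty T.J := IsCofiltered.nonempty
  let a : ∀ s : Cone (T.prodD E), Cone (schD T.D) := fun s =>
    { pt := s.pt
      π :=
        { app := fun j => s.π.app j ≫ pullback.fst (T.D.obj j).hom E.hom
          naturality := fun i j f => by
            refine (Category.id_comp _).trans ?_
            rw [← s.w f, Category.assoc]
            refine (congrArg (s.π.app i ≫ ·) (T.prodD_map_fst E f)).trans ?_
            exact (Category.assoc _ _ _).symm } }
  have hconst : ∀ (s : Cone (T.prodD E)) (i j : T.J) (_ : i ⟶ j),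
      s.π.app i ≫ pullback.snd (T.D.obj i).hom E.hom = s.π.app j ≫ pullback.snd (T.D.obj j).hom E.hom :=
    fun s i j f => by rw [← s.w f, Category.assoc, T.prodD_map_snd E f]
  have hw : ∀ s : Cone (T.prodD E), T.isLimit.lift (a s) ≫ V.hom =
      (s.π.app j₀ ≫ pullback.snd (T.D.obj j₀).hom E.hom) ≫ E.hom := fun s => by
    have h1 : T.isLimit.lift (a s) ≫ (T.π j₀).left = s.π.app j₀ ≫ pullback.fst _ _ :=
      T.isLimit.fac (a s) j₀
    refine (congrArg (T.isLimit.lift (a s) ≫ ·) (eps_w (T.π j₀)).symm).trans ?_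
    refine (Category.assoc _ _ _).symm.trans ((congrArg (· ≫ (T.D.obj j₀).hom) h1).trans ?_)
    exact (Category.assoc _ _ _).trans ((congrArg (s.π.app j₀ ≫ ·) pullback.condition).trans
      (Category.assoc _ _ _).symm)
  exact ⟨{
    lift := fun s => pullback.lift (T.isLimit.lift (a s)) _ (hw s)
    fac := fun s j => by
      refine pullback.hom_ext ?_ ?_
      · refine (Category.assoc _ _ _).trans ((congrArg (_ ≫ ·) (T.prodCone_fst E j)).trans ?_)
        refine (Category.assoc _ _ _).symm.trans ((congrArg (· ≫ _) (pullback.lift_fst _ _ _)).trans ?_)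
        exact T.isLimit.fac (a s) j
      · refine (Category.assoc _ _ _).trans ((congrArg (_ ≫ ·) (T.prodCone_snd E j)).trans ?_)
        refine (pullback.lift_snd _ _ _).trans ?_
        exact (hconst s _ _ (IsCofiltered.minToLeft j₀ j)).symm.trans
          (hconst s _ _ (IsCofiltered.minToRight j₀ j))
    uniq := fun s m hm => by
      refine pullback.hom_ext ?_ ?_
      · rw [pullback.lift_fst]
        refine T.isLimit.hom_ext fun j => ?_
        refine Eq.trans ?_ (T.isLimit.fac (a s) j).symm
        change (m ≫ pullback.fst V.hom E.hom) ≫ (T.π j).left = s.π.app j ≫ _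
        refine (Category.assoc _ _ _).trans ((congrArg (m ≫ ·) (T.prodCone_fst E j).symm).trans ?_)
        exact (Category.assoc _ _ _).symm.trans (congrArg (· ≫ _) (hm j))
      · refine Eq.trans ?_ (pullback.lift_snd _ _ _).symm
        refine (congrArg (m ≫ ·) (T.prodCone_snd E j₀).symm).trans ?_
        exact (Category.assoc _ _ _).symm.trans (congrArg (· ≫ _) (hm j₀)) }⟩

variable (F : EtCoh.Ab X)

/-- A stage datum describing a section. -/
structure Chart (s : (sheafify (Scheme.ProEt.topology X) (lanObj F.obj)).obj (op V)) where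
  /-- the stage -/
  i : T.J
  /-- the object -/
  A : X.Etale
  isAffine : IsAffine A.left
  /-- the map to the stage -/
  q : A ⟶ T.D.obj i
  /-- the section -/
  τ : F.obj.obj (op A)
  good : ∀ (R : X.ProEt) (x : R ⟶ V) (y : R ⟶ (ProEtS.eps X).obj A),
    x ≫ T.π i = y ≫ (ProEtS.eps X).map q →
      (sheafify (Scheme.ProEt.topology X) (lanObj F.obj)).map x.op s =
        (toSheafify (Scheme.ProEt.topology X) (lanObj F.obj)).app (op R) (germ F.obj A y τ)

variable {T F}

theorem Chart.exists_move {s : (sheafify (Scheme.ProEt.topology X) (lanObj F.obj)).obj (op V)}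
    (c : Chart T F s) {j : T.J} (f : j ⟶ c.i) :
    ∃ c' : Chart T F s, c'.i = j ∧
      ∀ v : V.left, (T.π c.i).left v ∈ Set.range c.q.left →
        (T.π c'.i).left v ∈ Set.range c'.q.left := by
  have := c.isAffine
  have := T.isAffine j
  have := T.isAffine c.i
  have : IsAffine (pullback c.q.left (T.D.map f).left) := inferInstance
  have : Etale c.q.left := inferInstance
  have : Etale (pullback.snd c.q.left (T.D.map f).left) := inferInstance
  have : Etale (pullback.snd c.q.left (T.D.map f).left ≫ (T.D.obj j).hom) :=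
    MorphismProperty.comp_mem @Etale _ _ ‹_› (T.D.obj j).prop
  let A' : X.Etale := Scheme.Etale.mk (pullback.snd c.q.left (T.D.map f).left ≫ (T.D.obj j).hom)
  let q' : A' ⟶ T.D.obj j := MorphismProperty.Over.homMk (pullback.snd c.q.left (T.D.map f).left) rfl
  let p : A' ⟶ c.A := MorphismProperty.Over.homMk (pullback.fst c.q.left (T.D.map f).left) (by
    change pullback.fst c.q.left (T.D.map f).left ≫ c.A.hom = pullback.snd _ _ ≫ (T.D.obj j).hom
    rw [← MorphismProperty.Over.w c.q, ← MorphismProperty.Over.w (T.D.map f)]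
    exact pullback.condition_assoc (f := c.q.left) (g := (T.D.map f).left) (T.D.obj c.i).hom)
  refine ⟨⟨j, A', inferInstanceAs (IsAffine (pullback c.q.left (T.D.map f).left)), q',
    F.obj.map p.op c.τ, fun R x y hxy => ?_⟩, rfl, fun v hv => ?_⟩
  · rw [germ_map]
    refine c.good R x _ (MorphismProperty.Over.Hom.ext ?_)
    have h1 : x.left ≫ (T.π j).left = y.left ≫ pullback.snd c.q.left (T.D.map f).left :=
      congrArg (fun m => m.left) hxy
    change x.left ≫ (T.π c.i).left = (y.left ≫ pullback.fst c.q.left (T.D.map f).left) ≫ c.q.left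
    refine (congrArg (x.left ≫ ·) (T.π_w f).symm).trans ?_
    refine (Category.assoc _ _ _).symm.trans ((congrArg (· ≫ (T.D.map f).left) h1).trans ?_)
    refine (Category.assoc _ _ _).trans (Eq.trans ?_ (Category.assoc _ _ _).symm)
    exact congrArg (y.left ≫ ·) pullback.condition.symm
  · obtain ⟨a, ha⟩ := hv
    have h1 : (T.D.map f).left ((T.π j).left v) = (T.π c.i).left v :=
      congrArg (fun m => m v) (T.π_w f)
    obtain ⟨z, -, hz⟩ := Scheme.Pullback.exists_preimage_pullback (f := c.q.left)
      (g := (T.D.map f).left) a ((T.π j).left v) (ha.trans h1.symm)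
    exact ⟨z, hz⟩

theorem exists_chart (s : (sheafify (Scheme.ProEt.topology X) (lanObj F.obj)).obj (op V))
    (v : V.left) : ∃ c : Chart T F s, (T.π c.i).left v ∈ Set.range c.q.left := by
  let J := Scheme.ProEt.topology X
  let G := sheafify J (lanObj F.obj)
  let η := toSheafify J (lanObj F.obj)
  have := T.isAffine_left
  have : CompactSpace V.left := inferInstance
  obtain ⟨n, W, g, hW, hcov, hmem⟩ := ProEt.exists_affine_refinement
    (Presheaf.imageSieve_mem J η (U := op V) s)
  obtain ⟨l, w, hw⟩ := hcov v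
  obtain ⟨r, hr⟩ := hmem l
  obtain ⟨E, b, t, rfl⟩ := exists_germ F.obj r
  have : Etale (pullback.fst V.hom E.hom) := MorphismProperty.pullback_fst _ _ E.prop
  have : WeaklyEtale (pullback.fst V.hom E.hom ≫ V.hom) :=
    MorphismProperty.comp_mem @WeaklyEtale _ _ inferInstance V.prop
  let P : X.ProEt := Scheme.ProEt.mk (pullback.fst V.hom E.hom ≫ V.hom)
  let p₁ : P ⟶ V := MorphismProperty.Over.homMk (pullback.fst V.hom E.hom) rfl
  let p₂ : P ⟶ (ProEtS.eps X).obj E := toEps (pullback.snd V.hom E.hom) pullback.condition.symm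
  let σ : W l ⟶ P := MorphismProperty.Over.homMk (pullback.lift (g l).left b.left
      ((MorphismProperty.Over.w (g l)).trans (eps_w b).symm)) (by
    change pullback.lift _ _ _ ≫ pullback.fst V.hom E.hom ≫ V.hom = (W l).hom
    rw [pullback.lift_fst_assoc]
    exact MorphismProperty.Over.w (g l))
  let z : G.obj (op P) := G.map p₁.op s - η.app (op P) (germ F.obj E p₂ t)
  have hσ₁ : σ ≫ p₁ = g l := MorphismProperty.Over.Hom.ext (pullback.lift_fst _ _ _)
  have hσ₂ : σ ≫ p₂ = b := MorphismProperty.Over.Hom.ext (pullback.lift_snd _ _ _)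
  have hz : G.map σ.op z = 0 := by
    rw [map_sub, ← Functor.map_comp_apply, ← op_comp, hσ₁, ← NatTrans.naturality_apply η, map_germ,
      hσ₂, sub_eq_zero]
    exact hr.symm
  obtain ⟨O, hwO, hO⟩ := exists_open_zero F z σ hz w
  obtain ⟨hlim⟩ := T.nonempty_isLimit_prodCone E
  have := fun {i j} (f : i ⟶ j) => T.isAffineHom_prodD E (i := i) (j := j) f
  obtain ⟨_, ⟨i, A₀, hA₀, rfl⟩, hwA, hAO⟩ := TopologicalSpace.Opens.isBasis_iff_nbhd.1
    (isBasis_preimage_isAffineOpen (T.prodD E) (T.prodCone E) hlim)
    (show σ.left w ∈ O from hwO)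
  have : Etale (pullback.fst (T.D.obj i).hom E.hom) := MorphismProperty.pullback_fst _ _ E.prop
  let A₁ : (pullback (T.D.obj i).hom E.hom).Opens := A₀
  have : Etale ((A₁.ι ≫ pullback.fst (T.D.obj i).hom E.hom) ≫ (T.D.obj i).hom) :=
    MorphismProperty.comp_mem @Etale _ _ inferInstance (T.D.obj i).prop
  let A : X.Etale := Scheme.Etale.mk ((A₁.ι ≫ pullback.fst (T.D.obj i).hom E.hom) ≫ (T.D.obj i).hom)
  let q : A ⟶ T.D.obj i :=
    MorphismProperty.Over.homMk (A₁.ι ≫ pullback.fst (T.D.obj i).hom E.hom) rfl
  let c : A ⟶ E := MorphismProperty.Over.homMk (A₁.ι ≫ pullback.snd (T.D.obj i).hom E.hom) (by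
    change (A₁.ι ≫ pullback.snd _ _) ≫ E.hom = (A₁.ι ≫ pullback.fst _ _) ≫ (T.D.obj i).hom
    rw [Category.assoc, Category.assoc, pullback.condition])
  refine ⟨⟨i, A, hA₀, q, F.obj.map c.op t, fun R x y hxy => ?_⟩, ?_⟩
  · let m : R ⟶ P := MorphismProperty.Over.homMk (pullback.lift x.left (y.left ≫ c.left) (by
        refine (MorphismProperty.Over.w x).trans ?_
        exact (eps_w (y ≫ (ProEtS.eps X).map c)).symm)) (by
      change pullback.lift _ _ _ ≫ pullback.fst V.hom E.hom ≫ V.hom = R.hom
      rw [pullback.lift_fst_assoc]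
      exact MorphismProperty.Over.w x)
    have hm₁ : m ≫ p₁ = x := MorphismProperty.Over.Hom.ext (pullback.lift_fst _ _ _)
    have hm₂ : m ≫ p₂ = y ≫ (ProEtS.eps X).map c :=
      MorphismProperty.Over.Hom.ext (pullback.lift_snd _ _ _)
    have h1 : m.left ≫ (T.prodCone E).π.app i = y.left ≫ A₁.ι := by
      refine pullback.hom_ext ?_ ?_
      · refine (Category.assoc _ _ _).trans ((congrArg (m.left ≫ ·) (T.prodCone_fst E i)).trans ?_)
        refine (Category.assoc _ _ _).symm.trans ((congrArg (· ≫ (T.π i).left)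
          (pullback.lift_fst _ _ _)).trans ?_)
        exact (congrArg (fun e => e.left) hxy).trans (Category.assoc _ _ _).symm
      · refine (Category.assoc _ _ _).trans ((congrArg (m.left ≫ ·) (T.prodCone_snd E i)).trans ?_)
        exact (pullback.lift_snd _ _ _).trans (Category.assoc _ _ _).symm
    have hmO : Set.range m.left ⊆ (O : Set P.left) := by
      rintro _ ⟨r, rfl⟩
      apply hAO
      change (T.prodCone E).π.app i (m.left r) ∈ A₁
      rw [show (T.prodCone E).π.app i (m.left r) = A₁.ι (y.left r) from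
        congrArg (fun e => e r) h1]
      exact (y.left r).2
    obtain ⟨l', hl'⟩ := exists_lift_opens (T := P.left) O m.left hmO
    let mO : R ⟶ Scheme.ProEt.mk (O.ι ≫ P.hom) := MorphismProperty.Over.homMk l'
      ((Category.assoc _ _ _).symm.trans ((congrArg (· ≫ P.hom) hl').trans
        (MorphismProperty.Over.w m)))
    have hmO' : mO ≫ ProEt.openHom O = m := MorphismProperty.Over.Hom.ext hl'
    have h2 : G.map m.op z = 0 := by
      rw [← hmO', op_comp, Functor.map_comp_apply, hO, map_zero]
    rw [map_sub, ← Functor.map_comp_apply, ← op_comp, hm₁, ← NatTrans.naturality_apply η, map_germ,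
      hm₂, ← germ_map, sub_eq_zero] at h2
    exact h2
  · refine ⟨⟨(T.prodCone E).π.app i (σ.left w), hwA⟩, ?_⟩
    change pullback.fst (T.D.obj i).hom E.hom ((T.prodCone E).π.app i (σ.left w)) = _
    refine (congrArg (fun e => e (σ.left w)) (T.prodCone_fst E i)).trans ?_
    refine congrArg (T.π i).left ?_
    exact (congrArg (fun e => e.left w) hσ₁).trans hw

variable (T F)

include T in
/-- The inverse image has the expected sections over the limit. -/
theorem bijective_toSheafify :
    Function.Bijective ((toSheafify (Scheme.ProEt.topology X) (lanObj F.obj)).app (op V)) := by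
  refine ⟨toSheafify_injective F V, fun s => ?_⟩
  let J := Scheme.ProEt.topology X
  let G := sheafify J (lanObj F.obj)
  let η := toSheafify J (lanObj F.obj)
  have haff := T.isAffine_left
  choose c₀ hc₀ using exists_chart (T := T) (F := F) s
  obtain ⟨ts, hts⟩ := isCompact_univ.elim_finite_subcover
    (fun v => (T.π (c₀ v).i).left ⁻¹' Set.range (c₀ v).q.left)
    (fun v => (EtaleBase.isOpenMap_left (c₀ v).q).isOpen_range.preimage (T.π (c₀ v).i).left.continuous)
    (fun v _ => Set.mem_iUnion.2 ⟨v, hc₀ v⟩)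
  classical
  obtain ⟨j, fj⟩ := IsCofiltered.inf_objs_exists (ts.image fun v => (c₀ v).i)
  choose c₁ hc₁ hc₁' using fun v : ts => (c₀ v.1).exists_move
    ((fj (Finset.mem_image_of_mem _ v.2)).some : j ⟶ (c₀ v.1).i)
  obtain ⟨n, ⟨e⟩⟩ := Finite.exists_equiv_fin ts
  let A : Fin n → X.Etale := fun k => (c₁ (e.symm k)).A
  let q : ∀ k, A k ⟶ T.D.obj j := fun k =>
    (c₁ (e.symm k)).q ≫ eqToHom (congrArg T.D.obj (hc₁ (e.symm k)))
  let τ : ∀ k, F.obj.obj (op (A k)) := fun k => (c₁ (e.symm k)).τ
  have good : ∀ k (R : X.ProEt) (x : R ⟶ V) (y : R ⟶ (ProEtS.eps X).obj (A k)),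
      x ≫ T.π j = y ≫ (ProEtS.eps X).map (q k) →
        G.map x.op s = η.app (op R) (germ F.obj (A k) y (τ k)) := by
    intro k R x y hxy
    refine (c₁ (e.symm k)).good R x y ?_
    have := hc₁ (e.symm k)
    revert hxy
    simp only [q]
    generalize hc₁ (e.symm k) = h
    subst h
    rw [eqToHom_refl, Category.comp_id]
    exact id
  have hcov : ∀ v, ∃ k, (T.π j).left v ∈ Set.range (q k).left := by
    intro v
    obtain ⟨v', hv', hv⟩ := Set.mem_iUnion₂.1 (hts (Set.mem_univ v))
    have key : ∀ u : ts, (T.π (c₁ u).i).left v ∈ Set.range (c₁ u).q.left →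
        (T.π j).left v ∈ Set.range ((c₁ u).q ≫ eqToHom (congrArg T.D.obj (hc₁ u))).left := by
      intro u h
      generalize hc₁ u = hu
      subst hu
      rw [eqToHom_refl, Category.comp_id]
      exact h
    exact ⟨e ⟨v', hv'⟩, key _ (by rw [Equiv.symm_apply_apply]; exact hc₁' ⟨v', hv'⟩ v hv)⟩
  have hA : ∀ k, IsAffine (A k).left := fun k => (c₁ (e.symm k)).isAffine
  have hDj : IsAffine (T.D.obj j).left := T.isAffine j
  have hπwe : WeaklyEtale (T.π j).left := ProEt.weaklyEtale_left (T.π j)
  -- the locus where the charts disagree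
  have hpair : ∀ a b : Fin n, ∃ C : Set ↥(pullback (q a).left (q b).left), IsClosed C ∧
      (∀ c ∈ C, (pullback.fst (q a).left (q b).left ≫ (q a).left) c ∉ Set.range (T.π j).left) ∧
      ∀ (Z : X.Etale) (ga : Z ⟶ A a) (gb : Z ⟶ A b) (h : ga ≫ q a = gb ≫ q b),
        (∀ z, pullback.lift ga.left gb.left (congrArg (fun m => m.left) h) z ∉ C) →
          F.obj.map ga.op (τ a) = F.obj.map gb.op (τ b) := by
    intro a b
    have : Etale (pullback.fst (q a).left (q b).left) :=
      MorphismProperty.pullback_fst (q a).left (q b).left inferInstance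
    have : Etale (pullback.fst (q a).left (q b).left ≫ (A a).hom) :=
      MorphismProperty.comp_mem @Etale _ _ ‹_› (A a).prop
    let R : X.Etale := Scheme.Etale.mk (pullback.fst (q a).left (q b).left ≫ (A a).hom)
    let r₁ : R ⟶ A a := MorphismProperty.Over.homMk (pullback.fst (q a).left (q b).left) rfl
    let r₂ : R ⟶ A b := MorphismProperty.Over.homMk (pullback.snd (q a).left (q b).left) (by
      change pullback.snd _ _ ≫ (A b).hom = pullback.fst _ _ ≫ (A a).hom
      rw [← MorphismProperty.Over.w (q a), ← MorphismProperty.Over.w (q b)]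
      exact (pullback.condition_assoc (f := (q a).left) (g := (q b).left) (T.D.obj j).hom).symm)
    let d : F.obj.obj (op R) := F.obj.map r₁.op (τ a) - F.obj.map r₂.op (τ b)
    refine ⟨(EtaleBase.vanishSet F R d)ᶜ, (EtaleBase.isOpen_vanishSet F R d).isClosed_compl,
      fun c hc => ?_, fun Z ga gb h hZ => ?_⟩
    · rintro ⟨v, hv⟩
      let u := pullback.fst (q a).left (q b).left ≫ (q a).left
      obtain ⟨y, -, hy⟩ := Scheme.Pullback.exists_preimage_pullback (f := (T.π j).left) (g := u) v c hv
      have : Etale u := MorphismProperty.comp_mem @Etale _ _ ‹_› (show Etale (q a).left from inferInstance)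
      have : Etale (pullback.fst (T.π j).left u) := MorphismProperty.pullback_fst _ _ ‹_›
      have : WeaklyEtale (pullback.fst (T.π j).left u ≫ V.hom) :=
        MorphismProperty.comp_mem @WeaklyEtale _ _ inferInstance V.prop
      let Q : X.ProEt := Scheme.ProEt.mk (pullback.fst (T.π j).left u ≫ V.hom)
      let x : Q ⟶ V := MorphismProperty.Over.homMk (pullback.fst (T.π j).left u) rfl
      let y' : Q ⟶ (ProEtS.eps X).obj R := toEps (pullback.snd (T.π j).left u) (by
        change pullback.snd _ _ ≫ pullback.fst (q a).left (q b).left ≫ (A a).hom = pullback.fst _ _ ≫ V.hom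
        rw [← eps_w (T.π j), ← MorphismProperty.Over.w (q a)]
        exact ((pullback.condition_assoc (f := (T.π j).left) (g := u) (T.D.obj j).hom).trans
          (congrArg (pullback.snd (T.π j).left u ≫ ·) (Category.assoc _ _ _))).symm)
      have h1 := good a Q x (y' ≫ (ProEtS.eps X).map r₁) (MorphismProperty.Over.Hom.ext
        ((pullback.condition (f := (T.π j).left) (g := u)).trans (Category.assoc _ _ _).symm))
      have h2 := good b Q x (y' ≫ (ProEtS.eps X).map r₂) (MorphismProperty.Over.Hom.ext
        ((pullback.condition (f := (T.π j).left) (g := u)).trans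
          ((congrArg (pullback.snd (T.π j).left u ≫ ·) pullback.condition).trans
            (Category.assoc _ _ _).symm)))
      have h3 := toSheafify_injective F Q (h1.symm.trans h2)
      rw [← germ_map, ← germ_map, ← sub_eq_zero, ← germ_sub, germ_eq_zero_iff] at h3
      exact hc (hy ▸ h3 ⟨y, rfl⟩)
    · let m : Z ⟶ R := MorphismProperty.Over.homMk
        (pullback.lift ga.left gb.left (congrArg (fun m => m.left) h)) (by
        change pullback.lift _ _ _ ≫ pullback.fst _ _ ≫ (A a).hom = Z.hom
        rw [pullback.lift_fst_assoc]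
        exact MorphismProperty.Over.w ga)
      have h1 : F.obj.map m.op d = 0 := (EtaleBase.map_eq_zero_iff_range_subset F m d).2 (by
        rintro _ ⟨z, rfl⟩
        exact not_not.1 (hZ z))
      have hm₁ : m ≫ r₁ = ga := MorphismProperty.Over.Hom.ext (pullback.lift_fst _ _ _)
      have hm₂ : m ≫ r₂ = gb := MorphismProperty.Over.Hom.ext (pullback.lift_snd _ _ _)
      rw [map_sub, ← Functor.map_comp_apply, ← Functor.map_comp_apply, ← op_comp, ← op_comp,
        hm₁, hm₂, sub_eq_zero] at h1
      exact h1
  choose C hCc hCπ hC using hpair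
  let K : Set (T.D.obj j).left :=
    closure (⋃ p : Fin n × Fin n,
      (pullback.fst (q p.1).left (q p.2).left ≫ (q p.1).left) '' C p.1 p.2)
  let O : (T.D.obj j).left.Opens := ⟨(⋃ k, Set.range (q k).left) ∩ Kᶜ,
    (isOpen_iUnion fun k => (EtaleBase.isOpenMap_left (q k)).isOpen_range).inter
      isClosed_closure.isOpen_compl⟩
  have hπO : Set.range (T.π j).left ⊆ (O : Set (T.D.obj j).left) := by
    rintro _ ⟨v, rfl⟩
    obtain ⟨k, hk⟩ := hcov v
    refine ⟨Set.mem_iUnion.2 ⟨k, hk⟩, fun hK => ?_⟩
    replace hK : (T.π j).left v ∈ closure _ := hK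
    obtain ⟨p, hp⟩ := Set.mem_iUnion.1 ((closure_iUnion_of_finite (f := fun p : Fin n × Fin n => (pullback.fst (q p.1).left (q p.2).left ≫ (q p.1).left) '' C p.1 p.2)).le hK)
    have := hA p.1
    have := hA p.2
    obtain ⟨c, hc, hcv⟩ := exists_specializes_of_mem_closure_image _ (hCc p.1 p.2) hp
    obtain ⟨v', -, hv'⟩ := (Flat.generalizingMap (T.π j).left) hcv
    exact hCπ p.1 p.2 c hc ⟨v', hv'⟩
  let E₀ : X.Etale := Scheme.Etale.mk (O.ι ≫ (T.D.obj j).hom)
  obtain ⟨l₀, hl₀⟩ := exists_lift_opens O (T.π j).left hπO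
  let y₀ : V ⟶ (ProEtS.eps X).obj E₀ := toEps l₀
    ((Category.assoc _ _ _).symm.trans ((congrArg (· ≫ (T.D.obj j).hom) hl₀).trans (eps_w (T.π j))))
  let i₀ : E₀ ⟶ T.D.obj j := MorphismProperty.Over.homMk O.ι rfl
  have hO' : ∀ k, ∃ (A' : X.Etale) (p : A' ⟶ A k) (o : A' ⟶ E₀), o ≫ i₀ = p ≫ q k ∧
      IsOpenImmersion p.left ∧ Set.range p.left = (q k).left ⁻¹' (O : Set (T.D.obj j).left) := by
    intro k
    let O' : (A k).left.Opens := (q k).left ⁻¹ᵁ O
    obtain ⟨lk, hlk⟩ := exists_lift_opens O (O'.ι ≫ (q k).left) (by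
      rintro _ ⟨a, rfl⟩
      exact a.2)
    refine ⟨Scheme.Etale.mk (O'.ι ≫ (A k).hom), MorphismProperty.Over.homMk O'.ι rfl,
      MorphismProperty.Over.homMk lk ?_, MorphismProperty.Over.Hom.ext hlk,
      (inferInstance : IsOpenImmersion O'.ι), O'.range_ι⟩
    change lk ≫ O.ι ≫ (T.D.obj j).hom = O'.ι ≫ (A k).hom
    rw [← MorphismProperty.Over.w (q k)]
    exact (Category.assoc _ _ _).symm.trans ((congrArg (· ≫ (T.D.obj j).hom) hlk).trans
      (Category.assoc _ _ _))
  choose A' p o ho hp hp' using hO'
  have hcovE : Sieve.generate (Presieve.ofArrows A' o) ∈ X.smallEtaleTopology E₀ := by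
    rw [EtaleBase.mem_topology_iff]
    intro x
    obtain ⟨k, a, ha⟩ := Set.mem_iUnion.1 x.2.1
    obtain ⟨a', ha'⟩ : a ∈ Set.range (p k).left := by
      rw [hp' k]
      change (q k).left a ∈ O
      rw [ha]
      exact x.2
    refine ⟨A' k, o k, a', Sieve.le_generate _ _ _ (Presieve.ofArrows.mk k), ?_⟩
    apply (show IsOpenImmersion O.ι from inferInstance).base_open.injective
    exact (congrArg (fun m => m.left a') (ho k)).trans ((congrArg (q k).left ha').trans ha)
  have hF := (Presieve.isSheafFor_iff_generate _).2 (((isSheaf_iff_isSheaf_of_type _ _).1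
    ((sheafCompose X.smallEtaleTopology (forget AddCommGrpCat.{u + 1})).obj F).property) _ hcovE)
  rw [Presieve.isSheafFor_arrows_iff] at hF
  obtain ⟨σ₀, hσ₀, -⟩ := hF (fun k => F.obj.map (p k).op (τ k)) fun a b Z ga gb hab => by
    change F.obj.map ga.op (F.obj.map (p a).op (τ a)) = F.obj.map gb.op (F.obj.map (p b).op (τ b))
    rw [← Functor.map_comp_apply, ← Functor.map_comp_apply, ← op_comp, ← op_comp]
    refine hC a b Z _ _ ?_ fun z hz => ?_
    · rw [Category.assoc, Category.assoc, ← ho a, ← ho b, ← Category.assoc, hab, Category.assoc]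
    · have h1 : (q a).left ((p a).left (ga.left z)) ∈ O := by
        have := (hp' a).le ⟨ga.left z, rfl⟩
        exact this
      refine h1.2 (subset_closure (Set.mem_iUnion.2 ⟨(a, b), _, hz, ?_⟩))
      exact congrArg (q a).left (congrArg (fun m => m z)
        (pullback.lift_fst (ga ≫ p a).left (gb ≫ p b).left _))
  refine ⟨germ F.obj E₀ y₀ σ₀, ?_⟩
  have hQ : ∀ k, ∃ (Q : X.ProEt) (x : Q ⟶ V) (y : Q ⟶ (ProEtS.eps X).obj (A k)),
      IsAffine Q.left ∧ x ≫ T.π j = y ≫ (ProEtS.eps X).map (q k) ∧
      Set.range x.left = (T.π j).left ⁻¹' Set.range (q k).left := by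
    intro k
    have := hA k
    have : Etale (pullback.fst (T.π j).left (q k).left) :=
      MorphismProperty.pullback_fst _ _ (show Etale (q k).left from inferInstance)
    have : WeaklyEtale (pullback.fst (T.π j).left (q k).left ≫ V.hom) :=
      MorphismProperty.comp_mem @WeaklyEtale _ _ inferInstance V.prop
    refine ⟨Scheme.ProEt.mk (pullback.fst (T.π j).left (q k).left ≫ V.hom),
      MorphismProperty.Over.homMk (pullback.fst _ _) rfl,
      toEps (pullback.snd (T.π j).left (q k).left) ?_,
      @Scheme.Pullback.isAffine_of_isAffine_isAffine_isAffine _ _ _ (T.π j).left (q k).left haff (hA k) hDj,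
      MorphismProperty.Over.Hom.ext pullback.condition, Scheme.Pullback.range_fst _ _⟩
    change pullback.snd _ _ ≫ (A k).hom = pullback.fst _ _ ≫ V.hom
    rw [← eps_w (T.π j), ← MorphismProperty.Over.w (q k)]
    exact (pullback.condition_assoc (f := (T.π j).left) (g := (q k).left) (T.D.obj j).hom).symm
  choose Q x y hQa hxy hxr using hQ
  have hcovV : Sieve.generate (Presieve.ofArrows Q x) ∈ J V :=
    ProEt.affine_family_mem_topology Q x fun v => by
      obtain ⟨k, hk⟩ := hcov v
      exact ⟨k, (hxr k).ge hk⟩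
  have hsh : Presieve.IsSheaf J (G ⋙ forget AddCommGrpCat.{u + 1}) :=
    (isSheaf_iff_isSheaf_of_type _ _).1 ((sheafCompose J (forget AddCommGrpCat.{u + 1})).obj
      ((presheafToSheaf J AddCommGrpCat.{u + 1}).obj (lanObj F.obj))).property
  refine (hsh _ hcovV).isSeparatedFor.ext ?_
  rintro R r ⟨_, b, _, ⟨k⟩, rfl⟩
  change G.map (b ≫ x k).op (η.app (op V) (germ F.obj E₀ y₀ σ₀)) = G.map (b ≫ x k).op s
  rw [op_comp, Functor.map_comp_apply, Functor.map_comp_apply]
  refine congrArg (G.map b.op) ?_
  rw [← NatTrans.naturality_apply η, map_germ, good k (Q k) (x k) (y k) (hxy k)]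
  refine congrArg (η.app (op (Q k))) ?_
  have hyO : Set.range (y k).left ⊆ Set.range (p k).left := by
    rintro _ ⟨z, rfl⟩
    refine (hp' k).ge ?_
    change (q k).left ((y k).left z) ∈ O
    rw [← show (T.π j).left ((x k).left z) = (q k).left ((y k).left z) from
      congrArg (fun m => m.left z) (hxy k)]
    exact hπO ⟨_, rfl⟩
  have := hp k
  let y' : Q k ⟶ (ProEtS.eps X).obj (A' k) := toEps (IsOpenImmersion.lift (p k).left (y k).left hyO) (by
    rw [← MorphismProperty.Over.w (p k), IsOpenImmersion.lift_fac_assoc]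
    exact eps_w (y k))
  have hy₁ : y' ≫ (ProEtS.eps X).map (p k) = y k :=
    MorphismProperty.Over.Hom.ext (IsOpenImmersion.lift_fac (p k).left (y k).left hyO)
  have hy₂ : y' ≫ (ProEtS.eps X).map (o k) = x k ≫ y₀ := by
    refine MorphismProperty.Over.Hom.ext ((cancel_mono O.ι).1 ?_)
    refine (Category.assoc _ _ _).trans ((congrArg (y'.left ≫ ·)
      (congrArg (fun m => m.left) (ho k))).trans ?_)
    refine (Category.assoc _ _ _).symm.trans ((congrArg (· ≫ (q k).left)
      (congrArg (fun m => m.left) hy₁)).trans ?_)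
    refine ((congrArg (fun m => m.left) (hxy k)).symm).trans ?_
    exact (congrArg ((x k).left ≫ ·) hl₀).symm.trans (Category.assoc _ _ _).symm
  rw [← hy₂, ← germ_map, show F.obj.map (o k).op σ₀ = _ from hσ₀ k, germ_map, hy₁]

end Tower

end Groth.EtaleDeep.Eps
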